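import Cfsg.Agent.J4Cert.Check

/-!
The sources of the facts of a certificate.
-/

set_option autoImplicit false
set_option maxRecDepth 8000

namespace Cfsg.Lib.J4Cert

def kSrc0 : Tr Src :=
  .node (.node (.node (.node (.node (.node (.leaf (.own [0])) (.leaf (.rl 5 4 [17, 69, 52, 90, 122, 166] [43, 43, 45, 202, 3644] [42, 42, 44, 44, 43, 45, 45, 2706] false))) (.node (.leaf (.rl 7 1 [24, 74, 65, 81, 132, 159] [2046] [] false)) (.leaf (.rl 7 4 [16, 60, 89, 130, 169] [207, 207, 5202] [3640, 6124] false)))) (.node (.node (.leaf (.rl 4 4 [17, 72, 57, 97, 88, 169, 167] [146, 207, 207, 488] [48, 48, 34, 48, 150, 204] false)) (.leaf (.rl 12 1 [16, 74, 50, 96, 131, 168, 166] [5112] [] false))) (.leaf (.rl 10 1 [8, 40, 60, 99, 117, 171, 166] [3070] [] false)))) (.node (.node (.node (.leaf (.rl 10 1 [23, 69, 52, 98, 113, 159] [510] [] false)) (.leaf (.rl 14 1 [12, 40, 64, 98, 115, 170] [4606] [] false))) (.node (.leaf (.rl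 7 1 [21, 44, 58, 79, 118, 171] [2558] [] false)) (.leaf .dfn))) (.node (.node (.leaf (.rl 7 1 [11, 45, 66, 91, 120, 143, 166] [1534] [] false)) (.leaf (.rl 5 4 [7, 45, 53, 91, 132, 158, 166] [43, 45, 45, 43, 226] [94, 42, 44, 42, 45, 45, 43, 374, 5620] false))) (.leaf (.rl 10 1 [17, 68, 49, 100, 121, 155, 166] [3582] [] false))))) (.node (.node (.node (.node (.leaf (.rl 10 1 [4, 46, 37, 102, 115, 143] [254] [] false)) (.leaf (.rl 17 1 [11, 95, 114, 155, 166] [4350] [] false))) (.node (.leaf (.rl 7 1 [6, 41, 38, 89, 122, 169] [2302] [] false)) (.leaf .dfn))) (.node (.node (.leaf (.rl 4 4 [24, 44, 54, 90, 130, 143, 166] [146] [64, 48, 36, 34, 174, 520, 184, 289, 143, 652] false)) (.leaf (.rl 5 4 [72, 61, 101, 118, 151] [43, 43, 45, 202, 207, 207, 702] [44, 95, 45, 5212] false))) (.leaf (.rl 4 4 [11, 30, 50, 90, 153, 167] [160] [36, 48, 48, 48, 36, 146, 1414] false)))) (.node (.node (.node (.leaf (.rl 4 4 [10, 40,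 57, 81, 88, 157, 167] [31, 65, 49, 31, 70, 36, 48, 48, 32, 164, 484] [48, 64, 36, 49, 35, 134] false)) (.leaf (.rl 7 1 [3, 46, 63, 93, 117, 151, 167] [4862] [] false))) (.node (.leaf (.rl 4 4 [3, 27, 55, 90, 114] [154, 156, 452, 529, 1548] [64, 32, 36, 154] false)) (.leaf (.rl 4 4 [22, 74, 58, 103, 122, 170, 166] [146, 1434, 206, 206, 6904] [30, 48, 36, 160] false)))) (.node (.node (.leaf (.rl 4 4 [20, 41, 114, 169] [146] [34, 32, 64, 154, 452, 156, 1574] false)) (.leaf (.rl 5 4 [11, 41, 56, 115, 156] [43, 43, 45, 45, 188, 3626] [44, 5194, 5350] false))) (.leaf (.rl 4 4 [15, 30, 50, 81, 131, 144, 166] [160] [36, 49, 35, 134, 44, 94, 42, 45, 45, 43, 43, 736] false)))))) (.node (.node (.node (.node (.node (.leaf (.rl 5 4 [20, 45, 65, 101, 118, 157] [43, 45, 45, 43, 95, 45, 102, 94, 42, 74] [42, 44, 42, 45, 45, 126] false)) (.leaf (.rl 7 1 [20, 39, 37, 91, 118, 156] [4222] [] false))) (.node (.leaf (.rl 7 1 [6, 32,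 55, 94, 120, 153, 167] [2174] [] false)) (.leaf (.rl 5 4 [14, 45, 64, 80, 118, 143, 166] [43, 45, 45, 43, 95, 6198] [42, 42, 44, 43, 43, 45, 45, 5236, 5926, 5930, 5090, 5931, 5929, 6266] false)))) (.node (.node (.leaf (.rl 4 4 [11, 71, 53, 119, 159] [146] [30, 35, 65, 214, 520, 288, 288, 143, 185, 185, 143, 402] false)) (.leaf (.rl 23 1 [7, 30, 66, 91, 131] [5246] [] false))) (.leaf (.rl 7 1 [21, 45, 54, 80, 121, 158, 166] [3198] [] false)))) (.node (.node (.node (.leaf (.rl 4 4 [11, 45, 38, 98, 119, 170] [138, 142, 288, 142, 184, 141, 185, 185, 185, 143, 506] [48, 64, 30, 64, 146] false)) (.leaf (.rl 10 1 [6, 68, 57, 81, 118, 143, 166] [4734] [] false))) (.node (.leaf (.rl 4 4 [21, 26, 53, 91, 133, 156, 166] [154, 452, 156, 237, 529, 2354] [30, 64, 48, 30, 64, 146] false)) (.leaf .dfn))) (.node (.node (.leaf (.rl 7 1 [19, 69, 54, 100, 133, 144, 166] [1662] [] false)) (.leaf (.rl 7 1 [19, 73, 58, 133, 171, 167]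 [5758] [] false))) (.leaf (.rl 4 4 [17, 40, 52, 103, 115, 168, 166] [160] [48, 64, 36, 32, 35, 49, 35, 134, 94, 44, 44, 43, 45, 45, 95, 438] false))))) (.node (.node (.node (.node (.leaf (.rl 4 4 [22, 26, 37, 94, 120, 158, 167] [138, 288, 184, 288, 184, 142, 289, 143, 289, 143, 350] [48, 32, 34, 64, 164] false)) (.leaf (.rl 14 1 [17, 42, 64, 101, 88, 143] [4478] [] false))) (.node (.leaf (.rl 4 4 [15, 42, 62, 95, 112, 168, 166] [150, 204, 1832] [64, 36, 30, 48, 64, 30, 160] false)) (.leaf .dfn))) (.node (.node (.leaf (.rl 7 1 [33, 27, 56, 96, 115, 158, 166] [1406] [] false)) (.leaf (.rl 24 1 [19, 74, 59, 81, 133, 157, 167] [5502] [] false))) (.leaf (.rl 7 1 [13, 61, 82, 130, 143, 167] [3454] [] false)))) (.node (.node (.node (.leaf (.rl 4 2 [18, 40, 38, 96, 117, 159] [146] [48, 32, 34, 164, 484] false)) (.leaf (.rl 5 4 [21, 68, 63, 96, 118, 155, 166] [43, 45, 45, 43, 226, 262, 344, 263, 345, 4704] [44, 94, 42, 45,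 95, 4342, 4396] false))) (.leaf (.rl 4 4 [6, 68, 64, 101, 117, 158, 166] [154, 452, 236, 529, 1660] [36, 32, 48, 64, 48, 160] false))) (.node (.node (.leaf (.rl 7 1 [21, 30, 52, 95, 155, 167] [1918] [] false)) (.leaf (.rl 5 4 [4, 46, 61, 80, 120, 153] [45, 43, 95, 45, 45, 556, 206, 5312, 5350] [94, 42, 44, 44, 43, 5194, 5350] false))) (.leaf (.rl 4 4 [20, 46, 55, 92, 120, 151, 166] [164, 484] [36, 64, 31, 49, 37, 622, 1362] false))))))

def kSrc1 : Tr Src :=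
  .node (.node (.node (.node (.node (.node (.leaf (.rl 1 2 [7, 69, 56, 102, 132, 169, 167] [28] [10, 8, 6, 10, 10, 6, 14, 26, 10, 10, 6, 8, 6, 10, 8, 6, 10, 6, 10, 6, 28] true)) (.leaf (.rl 5 4 [10, 44, 57, 98, 114, 169, 166] [43, 43, 45, 202] [94, 42, 45, 45, 43, 43, 45, 1290, 206, 206, 2292] false))) (.node (.leaf (.rl 7 1 [16, 26, 61, 89, 121, 155, 167] [2110] [] false)) (.leaf (.rl 9 1 [23, 42, 38, 91, 112, 158] [453, 528, 453, 6202] [453, 6202] false)))) (.node (.node (.leaf (.rl 4 4 [13, 73, 61, 80, 115, 157, 166] [146] [36, 48, 30, 64, 146, 772] false)) (.leaf (.rl 4 4 [33, 71, 51, 100, 133, 144, 166] [164, 484, 5172] [36, 48, 48, 48, 32, 160] false))) (.leaf (.rl 4 4 [23, 69, 63, 104, 133, 152, 167] [154] [30, 30, 30, 49, 182, 520, 184, 184, 140, 185, 185, 185, 2660] false)))) (.node (.node (.node (.leaf (.rl 4 4 [20, 44, 49, 97, 120, 170, 167] [138, 288, 184, 142, 288, 141, 185, 185, 185, 143, 506] [34,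 48, 30, 30, 146] false)) (.leaf (.rl 9 1 [4, 72, 66, 91, 115, 169, 166] [4670] [] false))) (.node (.leaf (.rl 4 4 [4, 71, 63, 92, 88, 156, 166] [150, 204] [48, 64, 30, 48, 32, 160, 262, 1984] false)) (.leaf .dfn))) (.node (.node (.leaf (.rl 4 4 [33, 30, 62, 90, 124, 144] [146] [36, 48, 64, 32, 30, 154, 236, 156, 453, 157, 1234] false)) (.leaf (.rl 5 4 [4, 69, 51, 79, 116, 151] [43, 45, 45, 43, 226, 262, 5680] [94, 44, 44, 43, 95, 2606] false))) (.leaf (.rl 4 4 [8, 72, 54, 92, 130, 168] [160, 262, 3476] [30, 32, 34, 31, 31, 49, 37, 622] false))))) (.node (.node (.node (.node (.leaf (.rl 7 1 [5, 32, 61, 94, 133, 157, 167] [318] [] false)) (.leaf (.rl 14 1 [22, 30, 54, 101, 112, 167] [4414] [] false))) (.node (.leaf (.rl 4 4 [8, 38, 95, 114, 169] [150, 204] [64, 30, 30, 30, 164, 484, 207, 1098] false)) (.leaf .dfn))) (.node (.node (.leaf (.rl 7 1 [3, 74, 58, 121, 151, 167] [1342] [] false)) (.leaf (.rl 5 4 [4, 72,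 38, 104, 134, 169, 167] [43, 43, 45, 202] [42, 44, 42, 45, 95, 2934, 236, 453, 157, 529, 5142, 5350] false))) (.leaf (.rl 10 1 [18, 73, 60, 104, 119, 152, 167] [3390] [] false)))) (.node (.node (.node (.leaf (.rl 4 2 [17, 28, 52, 102, 115, 158] [146] [64, 32, 34, 164, 484] false)) (.leaf (.rl 14 1 [12, 44, 57, 90, 134, 151, 167] [4926] [] false))) (.leaf (.rl 4 4 [18, 30, 65, 101, 116, 157] [154, 528, 236, 156, 237, 453, 529, 2128] [48, 34, 31, 31, 49, 37, 622] false))) (.node (.node (.leaf (.rl 4 4 [11, 74, 38, 92, 143] [146, 700] [36, 32, 48, 64, 160] false)) (.leaf (.rl 23 1 [13, 68, 57, 103, 124, 156, 167] [5850, 5926] [5926] false))) (.leaf (.rl 4 4 [20, 52, 94, 132, 157, 166] [164, 484] [48, 32, 36, 30, 138, 288, 184, 184, 288, 184, 289, 289, 143, 652] false)))))) (.node (.node (.node (.node (.node (.leaf (.rl 12 1 [21, 46, 54, 101, 119, 152, 167] [190] [] false)) (.leaf .dfn)) (.node (.leaf (.rl 7 1 [16,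 40, 57, 79, 122, 144, 166] [2238] [] false)) (.leaf .dfn))) (.node (.node (.leaf (.rl 7 1 [10, 73, 52, 79, 123, 157, 167] [1214] [] false)) (.leaf (.rl 4 4 [6, 31, 57, 112, 170, 166] [31, 31, 49, 37, 622] [64, 36, 48, 64, 154, 5144] false))) (.leaf (.rl 7 1 [11, 31, 62, 95, 131, 144, 167] [3262] [] false)))) (.node (.node (.node (.leaf (.rl 7 1 [10, 73, 51, 104, 116, 170] [702] [] false)) (.leaf (.rl 10 1 [6, 30, 54, 90, 130, 157, 167] [4798] [] false))) (.node (.leaf (.rl 10 1 [8, 74, 66, 94, 115, 155, 167] [2750] [] false)) (.leaf .dfn))) (.node (.node (.leaf (.rl 4 4 [3, 46, 49, 94, 134, 158] [146] [48, 48, 36, 146, 1350] false)) (.leaf (.rl 5 4 [20, 44, 67, 93, 124, 151, 167] [45, 95, 3024] [44, 94, 43, 45, 45, 178, 262, 344, 5640] false))) (.leaf (.rl 10 1 [33, 46, 59, 93, 114, 157, 167] [3774] [] false))))) (.node (.node (.node (.node (.leaf (.rl 4 4 [9, 72, 65, 101, 114, 151] [138, 288, 288, 184, 142, 185,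 185, 185, 143, 302] [34, 64, 32, 30, 146] false)) (.leaf (.rl 14 1 [33, 46, 50, 80, 131, 170, 167] [4542] [] false))) (.node (.leaf (.rl 4 4 [19, 72, 54, 92, 112, 158, 167] [150, 204] [34, 48, 48, 48, 174, 520, 288, 142, 184, 288, 143, 185, 185, 143, 402] false)) (.leaf .dfn))) (.node (.node (.leaf (.rl 4 4 [10, 31, 57, 102, 116, 155, 166] [146] [48, 48, 34, 48, 174, 520, 288, 288, 184, 184, 143, 289, 143, 185, 648] false)) (.leaf (.rl 5 4 [24, 41, 63, 101, 122, 153, 167] [43, 45, 43, 3148] [44, 42, 42, 95, 3298, 208, 5122, 5270] false))) (.leaf (.rl 4 4 [19, 28, 62, 104, 124, 154] [160] [36, 48, 64, 32, 146, 206, 206, 920] false)))) (.node (.node (.node (.leaf (.rl 4 4 [22, 32, 59, 79, 114, 152, 167] [146] [48, 34, 48, 34, 138, 184, 143, 402] false)) (.leaf (.rl 5 4 [23, 39, 60, 102, 123, 158] [45, 43, 43, 45, 434, 4850] [45, 45, 95, 4556] false))) (.leaf (.rl 9 1 [9, 69, 63, 82, 118, 158] [3006] [] false))) (.node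 (.node (.leaf (.rl 10 1 [22, 73, 61, 94, 118, 159, 166] [1982] [] false)) (.leaf (.rl 7 4 [23, 40, 60, 90, 117] [207, 5436] [207, 5202, 5082, 5080, 5188, 5235, 5189, 5986] false))) (.leaf (.rl 7 1 [23, 73, 54, 98, 130, 170, 167] [4030] [] false))))))

def kSrc2 : Tr Src :=
  .node kSrc0 kSrc1

def kSrc3 : Tr Src :=
  .node (.node (.node (.node (.node (.node (.leaf (.rl 1 1 [21, 26] [7, 11, 7, 11, 7, 11, 11, 11, 7, 9, 11, 7, 10, 6, 10, 8, 6, 10, 10, 10, 6, 10, 6, 10, 8, 28] [28] false)) (.leaf (.rl 7 1 [9, 69, 38, 94, 123, 154, 166] [4126] [] false))) (.node (.leaf (.rl 7 1 [16, 46, 57, 82, 132, 151] [2078] [] false)) (.leaf .dfn))) (.node (.node (.leaf (.rl 4 4 [8, 73, 61, 82, 119, 153] [146, 542] [48, 36, 30, 30, 154] false)) (.leaf (.rl 28 1 [19, 29, 51, 98, 121, 167] [5150] [] false))) (.leaf (.rl 4 4 [14, 72, 50, 92, 114, 168, 167] [154] [48, 48, 36, 160, 262, 344, 262, 345, 2244] false)))) (.node (.node (.node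 (.leaf (.rl 7 1 [13, 41, 62, 81, 112, 153, 167] [542] [] false)) (.leaf (.rl 7 1 [12, 41, 67, 79, 88, 156, 167] [4638] [] false))) (.node (.leaf (.rl 4 4 [16, 46, 54, 93, 133, 171, 166] [150, 204] [64, 32, 35, 49, 35, 134, 44, 42, 42, 45, 43, 43, 45, 1290] false)) (.leaf .dfn))) (.node (.node (.leaf (.rl 4 4 [5, 41, 58, 90, 130, 166] [146] [48, 48, 150, 204, 1060] false)) (.leaf (.rl 5 4 [16, 31, 56, 94, 124, 168, 166] [43, 45, 45, 43, 226] [94, 42, 44, 42, 95, 2606, 207, 5614] false))) (.leaf (.rl 4 4 [4, 46, 134, 159, 166] [160, 1606] [64, 34, 166] false))))) (.node (.node (.node (.node (.leaf (.rl 7 1 [18, 26, 104, 116, 143, 167] [206, 286] [286] true)) (.leaf (.rl 4 4 [6, 72, 37, 97, 120, 169, 166] [138, 142, 184, 184, 142, 4288] [32, 48, 64, 30, 154] false))) (.node (.leaf (.rl 7 1 [20, 39, 38, 100, 116, 155, 166] [2334] [] false)) (.leaf .dfn))) (.node (.node (.leaf (.rl 4 4 [14, 72, 50, 79, 115, 169, 167]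 [146, 206, 206, 826] [30, 64, 48, 36, 154] false)) (.leaf (.rl 5 4 [70, 61, 81, 120, 170] [43, 43, 45, 202, 5310] [94, 42, 44, 44, 43, 43, 45, 45, 5236] false))) (.leaf (.rl 4 4 [5, 32, 38, 81, 116, 151, 167] [160] [48, 34, 64, 32, 31, 31, 49, 37, 622, 207, 2462] false)))) (.node (.node (.node (.leaf (.rl 10 1 [24, 46, 54, 97, 131, 153, 166] [798] [] false)) (.leaf (.rl 7 1 [9, 69, 38, 94, 112, 156] [4894] [] false))) (.leaf (.rl 9 1 [24, 42, 38, 103, 114, 157] [2846] [] false))) (.node (.node (.leaf (.rl 4 4 [16, 57, 102, 88, 168] [146] [34, 48, 34, 34, 160, 345, 263, 472, 484] false)) (.leaf (.rl 5 4 [22, 70, 55, 79, 119, 170, 166] [45, 43, 124, 44, 44, 94, 42, 44, 43, 45, 5196] [42, 44, 43, 95, 45, 5212] false))) (.leaf (.rl 10 1 [14, 27, 67, 112, 157, 166] [3870] [] false)))))) (.node (.node (.node (.node (.node (.leaf .dfn) (.leaf (.rl 5 4 [42, 52, 103, 119, 144, 167] [43, 45, 45, 43, 43, 45, 3760] [42, 95,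 1498, 207, 207, 2440] false))) (.node (.leaf (.rl 7 1 [12, 29, 66, 90, 121, 170] [2206] [] false)) (.leaf .dfn))) (.node (.node (.leaf (.rl 7 1 [11, 29, 60, 81, 120, 153, 166] [1182] [] false)) (.leaf (.rl 4 4 [15, 41, 54, 103, 113, 151] [166, 550, 194, 5122, 5270] [48, 36, 48, 31, 35, 49, 50] false))) (.leaf (.rl 4 4 [33, 30, 54, 102, 114, 166] [154, 156, 452, 157, 1388] [36, 30, 49, 37, 622] false)))) (.node (.node (.node (.leaf (.rl 7 1 [22, 27, 62, 100, 124, 158, 167] [670] [] false)) (.leaf (.rl 10 1 [5, 40, 53, 92, 122, 152, 166] [4766] [] false))) (.node (.leaf (.rl 7 1 [16, 73, 57, 101, 114, 143, 167] [2718] [] false)) (.leaf .dfn))) (.node (.node (.leaf (.rl 4 4 [70, 50, 101, 134, 153] [146, 206, 206, 898] [32, 36, 34, 160] false)) (.leaf (.rl 5 4 [22, 46, 59, 90, 134, 159] [43, 95, 45, 45, 324, 206, 206, 1462] [44, 42, 42, 44, 44, 43, 45, 45, 5236] false))) (.leaf (.rl 4 4 [21, 69, 53, 104, 118, 151, 166]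 [160] [32, 146, 1694] false))))) (.node (.node (.node (.node (.leaf (.rl 7 1 [19, 46, 60, 101, 123, 143, 166] [414] [] false)) (.leaf (.rl 14 1 [16, 28, 54, 91, 114, 152, 167] [4510] [] false))) (.node (.leaf (.rl 7 1 [8, 45, 65, 99, 134, 170, 167] [2462] [] false)) (.leaf .dfn))) (.node (.node (.leaf (.rl 4 4 [9, 43, 51, 91, 123, 171, 167] [146] [48, 30, 64, 48, 34, 146, 1088] false)) (.leaf (.rl 5 4 [8, 32, 51, 104, 124, 171, 166] [43, 45, 43, 3148, 529, 5526] [94, 44, 44, 42, 45, 45, 43, 5238] false))) (.leaf (.rl 4 4 [5, 27, 65, 81, 88, 155, 167] [160] [64, 48, 36, 64, 31, 56, 44, 43, 45, 43, 95, 1498] false)))) (.node (.node (.node (.leaf (.rl 4 2 [45, 57, 100, 113, 144, 167] [146] [34, 64, 48, 34, 34, 160] false)) (.leaf (.rl 14 1 [24, 40, 50, 103, 133, 158, 166] [5022] [] false))) (.leaf (.rl 10 1 [16, 29, 66, 89, 112, 170] [2974] [] false))) (.node (.node (.leaf (.rl 7 1 [6, 72, 64, 100, 113, 152, 167] [1950]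 [] false)) (.leaf (.rl 5 4 [19, 32, 53, 100, 131, 170, 166] [43, 43, 45, 45, 178, 262, 344, 262, 5450] [94, 42, 44, 95, 5392] false))) (.leaf (.rl 4 4 [11, 72, 65, 95, 114, 166] [31, 35, 49, 50, 44, 42, 42, 44, 44, 3764] [64, 36, 32, 48, 146] false))))))

def kSrc4 : Tr Src :=
  .node (.node (.node (.node (.node (.node (.leaf (.rl 4 4 [20, 31, 51, 91, 113, 170] [31, 65, 49, 31, 70, 30, 48, 64, 31, 35, 49, 50] [36, 30, 35, 49, 50] false)) (.leaf (.rl 5 4 [10, 28, 61, 98, 118, 167] [43, 45, 43, 3148, 528, 3340] [44, 43, 45, 45, 476] false))) (.node (.leaf (.rl 9 1 [7, 44, 63, 82, 131, 166] [2142] [] false)) (.leaf (.rl 24 1 [16, 26, 37, 94, 114, 152, 166] [6238] [] false)))) (.node (.node (.leaf (.rl 4 4 [20, 28, 57, 94, 134, 159, 167] [146] [36, 64, 32, 34, 138, 184, 142, 184, 289, 143, 185, 648] false)) (.leaf (.rl 23 1 [11, 38, 101, 112, 158] [5214] [] false))) (.leaf (.rl 4 4 [13, 40, 53, 98, 113, 159, 167] [154,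 452, 237, 3092] [34, 64, 30, 48, 30, 160] false)))) (.node (.node (.node (.leaf (.rl 7 1 [15, 71, 49, 80, 130, 170, 167] [606] [] false)) (.leaf (.rl 14 1 [45, 50, 94, 119, 154] [4702] [] false))) (.node (.leaf (.rl 4 2 [7, 69, 59, 90, 118, 156, 167] [154] [48, 34, 48, 30, 154] false)) (.leaf .dfn))) (.node (.node (.leaf (.rl 4 4 [14, 71, 51, 104, 115, 153, 167] [146] [64, 36, 30, 30, 138, 142, 184, 184, 288, 141, 185, 289, 185, 143, 680] false)) (.leaf (.rl 21 1 [18, 57, 93, 88, 144, 166] [5726] [] false))) (.leaf (.rl 4 4 [5, 40, 67, 79, 130, 157] [160] [30, 32, 34, 150, 204, 207, 207, 2558] false))))) (.node (.node (.node (.node (.leaf (.rl 6 1 [9, 70, 54, 97, 113, 152] [350] [] false)) (.leaf (.rl 7 1 [74, 51, 79, 123, 153] [4446] [] false))) (.node (.leaf (.rl 4 4 [9, 28, 52, 91, 120, 157, 167] [150, 204] [48, 48, 48, 34, 160, 262, 2010] false)) (.leaf .dfn))) (.node (.node (.leaf (.rl 7 1 [14, 70, 38, 99,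 113, 168, 167] [1374] [] false)) (.leaf (.rl 5 4 [72, 54, 100, 115, 152, 167] [43, 43, 45, 202, 207, 207, 1368] [45, 43, 5362] false))) (.leaf (.rl 4 4 [12, 72, 54, 102, 88, 154, 167] [160] [34, 48, 31, 31, 49, 37, 622, 206, 396] false)))) (.node (.node (.node (.leaf (.rl 4 2 [12, 31, 60, 97, 130, 143, 167] [146] [64, 30, 48, 64, 34, 160] false)) (.leaf (.rl 9 1 [19, 45, 52, 92, 133, 144] [4958] [] false))) (.leaf (.rl 4 4 [4, 30, 98, 117, 169, 167] [154] [48, 32, 36, 30, 35, 49, 35, 134, 42, 44, 44, 43, 45, 95, 2650] false))) (.node (.node (.leaf (.rl 4 4 [4, 74, 52, 100, 123, 170, 167] [146] [64, 30, 30, 146, 1752] false)) (.leaf (.rl 14 1 [20, 26, 67, 82, 133, 168, 167] [5982] [] false))) (.leaf (.rl 7 1 [23, 42, 120, 153, 167] [3934] [] false)))))) (.node (.node (.node (.node (.node (.leaf (.rl 1 4 [12, 69, 61, 95, 132, 153] [28, 30, 34, 30, 30, 160] [10, 8, 6, 10, 6, 10, 10, 6, 10, 6, 8, 40] false)) (.leaf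 (.rl 4 4 [5, 29, 63, 89, 130, 155, 166] [138, 142, 288, 288, 184, 4284] [34, 48, 64, 48, 160, 344, 263, 345, 3314] false))) (.node (.leaf (.rl 4 4 [33, 71, 53, 89, 124, 153, 167] [150, 204] [36, 64, 30, 166, 194, 208, 171, 209, 209, 209, 2188] false)) (.leaf .dfn))) (.node (.node (.leaf (.rl 4 4 [5, 71, 67, 90, 132, 155, 166] [146, 206, 1136] [30, 64, 48, 30, 30, 154] false)) (.leaf (.rl 5 4 [11, 39, 38, 82, 144, 166] [43, 43, 45, 202, 626] [42, 42, 45, 5236] false))) (.leaf (.rl 10 1 [23, 30, 55, 124, 169] [3294] [] false)))) (.node (.node (.node (.leaf (.rl 7 1 [5, 41, 55, 95, 113, 153] [734] [] false)) (.leaf (.rl 14 1 [16, 68, 61, 97, 131, 152] [4830] [] false))) (.node (.leaf (.rl 4 4 [15, 45, 62, 94, 119, 170] [154, 453, 157, 529, 1372] [64, 36, 48, 160] false)) (.leaf (.rl 4 4 [7, 70, 65, 102, 133, 144] [138, 142, 288, 288, 184, 142, 4286, 4396, 4400, 4400, 6866] [48, 48, 32, 31, 31, 49, 37, 622] false))))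 (.node (.node (.leaf (.rl 4 4 [12, 40, 50, 102, 132, 151, 166] [146] [64, 32, 65, 49, 31, 70, 48, 30, 32, 160] false)) (.leaf (.rl 5 4 [13, 69, 60, 92, 119, 170, 166] [43, 45, 45, 43, 43, 45, 3760, 207, 5672] [94, 45, 43, 43, 45, 246] false))) (.leaf (.rl 4 4 [21, 28, 50, 93, 120, 168, 166] [160] [48, 64, 48, 174, 520, 184, 288, 184, 184, 140, 143, 289, 143, 185, 648] false))))) (.node (.node (.node (.node (.leaf (.rl 7 1 [4, 43, 62, 91, 131] [478] [] false)) (.leaf (.rl 14 1 [6, 70, 79, 119, 171, 167] [4574] [] false))) (.node (.leaf (.rl 4 4 [6, 43, 65, 101, 121, 169, 167] [150, 204, 207, 2220] [48, 48, 64, 36, 164, 484] false)) (.leaf .dfn))) (.node (.node (.leaf (.rl 4 4 [4, 29, 38, 103, 121, 158, 166] [146] [64, 32, 48, 35, 49, 35, 134, 44, 42, 42, 912] false)) (.leaf (.rl 5 4 [7, 32, 66, 102, 113, 170, 166] [43, 45, 43, 3148, 156, 452, 4694] [94, 44, 43, 45, 5196] false))) (.leaf (.rl 4 4 [17, 29, 59, 82,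 118, 143, 167] [160] [48, 32, 48, 48, 160, 3408] false)))) (.node (.node (.node (.leaf (.rl 7 1 [23, 43, 60, 102, 124, 159, 167] [990] [] false)) (.leaf (.rl 12 1 [6, 30, 64, 79] [171, 194, 5086] [5086] false))) (.leaf (.rl 7 1 [12, 69, 59, 90, 130, 154, 166] [3038] [] false))) (.node (.node (.leaf (.rl 7 1 [7, 44, 54, 90, 132, 159, 167] [2014] [] false)) (.leaf (.rl 4 4 [14, 39, 49, 95, 119, 157, 167] [166, 5112, 6084] [30, 64, 30, 166] false))) (.leaf (.rl 7 1 [24, 54, 81, 114, 158] [4062] [] false))))))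

def kSrc5 : Tr Src :=
  .node kSrc3 kSrc4

def kSrc6 : Tr Src :=
  .node kSrc2 kSrc5

def kSrc7 : Tr Src :=
  .node (.node (.node (.node (.node (.node (.leaf (.rl 1 1 [24, 32, 55, 82, 115, 151] [7, 11, 7, 11, 11, 7, 10, 10, 10, 6, 10, 10, 6, 14] [14] true)) (.leaf (.rl 5 4 [33, 30, 56, 103, 133, 170, 166] [43, 43, 45, 202] [42, 42, 44, 95, 45, 45, 608, 950] false))) (.node (.leaf (.rl 7 1 [33, 30, 57, 91, 116, 153] [2062] [] false)) (.leaf (.rl 10 4 [12, 69, 67, 82, 133, 171, 167] [3748, 6124] [6124] false)))) (.node (.node (.leaf (.rl 4 4 [23, 40, 59, 93, 115, 155, 167] [146, 772] [36, 32, 34, 30, 164, 484] false)) (.leaf (.rl 7 1 [70, 64, 103, 116, 171, 166] [5134] [] false))) (.leaf (.rl 4 4 [17, 41, 52, 92, 156, 167] [154] [48, 32, 150, 204, 206, 206, 618] false)))) (.node (.node (.node (.leaf (.rl 4 4 [11, 28, 59, 96, 133, 170, 166] [138, 288, 142, 288, 288, 142, 141, 143, 185, 185, 143, 402, 345, 263, 408]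 [32, 64, 48, 64, 30, 154] true)) (.leaf (.rl 14 1 [5, 46, 62, 92, 134, 154] [4622] [] false))) (.node (.leaf (.rl 4 4 [17, 32, 60, 104, 119, 171] [150, 204, 207, 207, 964] [36, 34, 32, 164, 484] false)) (.leaf (.rl 4 4 [9, 72, 49, 93, 122, 169] [160, 263, 5818, 5926, 5092, 5090, 5088, 6662] [36, 48, 64, 164, 484] false)))) (.node (.node (.leaf (.rl 5 1 [15, 26, 60, 103, 113, 144] [1550] [] false)) (.leaf (.rl 5 4 [24, 42, 51, 93, 118, 158, 167] [43, 45, 45, 43, 226, 262, 344, 262, 5450] [94, 44, 44, 95, 5392] false))) (.leaf (.rl 4 4 [10, 73, 66, 104, 116, 152] [160] [48, 64, 36, 30, 32, 160, 263, 3084] false))))) (.node (.node (.node (.node (.leaf (.rl 1 4 [16, 41, 57, 98, 88, 168, 166] [40] [6, 10, 10, 8, 6, 10, 6, 10, 6, 10, 6, 28, 48, 48, 64, 32, 160] false)) (.leaf (.rl 16 1 [15, 27, 38, 79, 120, 152, 167] [4366] [] false))) (.node (.leaf (.rl 7 1 [20, 46, 60, 90, 123, 157, 167] [2318] [] false)) (.leaf (.rl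 5 4 [20, 41, 67, 98, 130, 170, 167] [43, 43, 45, 202, 207, 5358, 5926, 5930, 5928, 5090, 6404] [94, 44, 43, 45, 45, 95, 4556] false)))) (.node (.node (.leaf (.rl 4 4 [14, 74, 65, 93, 114, 157] [146] [36, 30, 30, 30, 35, 49, 35, 134, 45, 74] false)) (.leaf (.rl 25 1 [4, 45, 65, 99, 118, 144] [5390] [] false))) (.leaf (.rl 4 4 [4, 26, 58, 97, 114, 154, 167] [160] [48, 48, 30, 166, 550, 208, 208, 190] false)))) (.node (.node (.node (.leaf (.rl 4 4 [22, 38, 95, 123, 171, 167] [31, 65, 49, 31, 70, 34, 64, 32, 30, 146] [48, 64, 32, 36, 154] false)) (.leaf (.rl 14 1 [33, 60, 98, 117, 144] [4878] [] false))) (.leaf (.rl 4 4 [33, 42, 58, 92, 122, 144, 166] [154, 237, 453, 529, 2276] [64, 48, 36, 30, 64, 160] false))) (.node (.node (.leaf (.rl 4 4 [20, 26, 63, 80, 153] [146] [30, 174, 520, 184, 184, 140, 289, 143, 289, 143, 350] false)) (.leaf (.rl 5 4 [4, 60, 90, 133, 168, 167] [43, 43, 45, 45, 188, 528, 156, 453, 157, 529,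 5142, 5350] [42, 42, 44, 43, 43, 95, 218] false))) (.leaf (.rl 4 4 [9, 27, 59, 98, 117] [160, 345, 1710] [48, 64, 32, 164, 484] false)))))) (.node (.node (.node (.node (.node (.leaf (.rl 4 1 [23, 32, 55, 82, 115, 151] [138] [] false)) (.leaf (.rl 5 4 [10, 44, 63, 119, 159, 167] [43, 45, 43, 43, 90, 42, 612] [42, 44, 42, 45, 45, 612] false))) (.node (.leaf (.rl 7 1 [23, 45, 54, 80, 115, 170] [2190] [] false)) (.leaf (.rl 9 4 [11, 29, 59, 103, 88, 159, 166] [6246] [3136, 6246] false)))) (.node (.node (.leaf (.rl 4 4 [23, 29, 57, 94, 121, 159, 167] [146] [48, 34, 64, 48, 34, 31, 56, 43, 95, 45, 45, 324] false)) (.leaf (.rl 21 1 [9, 26, 53, 103, 132, 154, 166] [5262] [] false))) (.leaf (.rl 4 4 [7, 30, 52, 93, 118, 153, 166] [154, 528, 452, 157, 2850] [36, 34, 160] false)))) (.node (.node (.node (.leaf (.rl 4 4 [21, 45, 63, 98, 132, 143, 167] [138, 184, 184, 288, 184, 289, 289, 143, 652] [48, 36, 64, 30, 30, 35, 49,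 35, 134] false)) (.leaf (.rl 10 1 [6, 28, 54, 89, 120, 154, 166] [4750] [] false))) (.node (.leaf (.rl 4 4 [33, 30, 67, 89, 120, 170, 167] [154, 528, 156, 452, 237, 453, 529, 157, 453, 157, 398] [30, 30, 35, 49, 35, 134] false)) (.leaf (.rl 5 4 [15, 70, 52, 96, 114, 151] [45, 43, 43, 45, 45, 122, 94, 5362, 5926, 5930, 5928, 6782] [42, 42, 44, 95, 1690] false)))) (.node (.node (.leaf (.rl 4 4 [23, 39, 49, 99, 159, 167] [146, 206, 206, 824] [36, 30, 64, 30, 154] false)) (.leaf (.rl 5 4 [22, 45, 59, 82, 121, 156, 166] [43, 45, 43, 43, 80, 95, 588] [42, 42, 44, 44, 43, 5194, 5350] false))) (.leaf (.rl 4 4 [3, 30, 67, 101, 133, 154, 166] [160, 2712] [48, 36, 64, 30, 30, 146] false))))) (.node (.node (.node (.node (.leaf (.rl 4 4 [14, 49, 90, 118, 166] [138, 140, 288, 288, 184, 141, 185, 143, 294] [48, 32, 34, 164] false)) (.leaf (.rl 7 1 [18, 41, 66, 100, 133, 158, 167] [4494] [] false))) (.node (.leaf (.rl 4 4 [21,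 42, 51, 101, 118] [150, 204] [64, 34, 34, 30, 146, 206, 1564] false)) (.leaf (.rl 5 4 [12, 37, 89, 118, 152] [43, 43, 45, 202, 207, 5384, 5926, 5928, 5930, 5090, 6532] [44, 42, 42, 44, 43, 45, 45, 95, 438] false)))) (.node (.node (.leaf (.rl 4 4 [13, 31, 54, 91, 112, 143, 167] [146, 206, 1284] [48, 48, 48, 35, 49, 50] false)) (.leaf (.rl 5 4 [15, 32, 56, 94, 115, 158, 166] [43, 45, 43, 3148, 453, 529, 3088] [94, 42, 45, 43, 5362] false))) (.leaf (.rl 4 4 [4, 31, 65, 95, 88, 153, 167] [160, 263, 345, 2144] [30, 32, 64, 146] false)))) (.node (.node (.node (.leaf (.rl 7 1 [23, 40, 59, 104, 122, 156, 166] [910] [] false)) (.leaf (.rl 10 1 [8, 56, 96, 124, 170, 166] [5006] [] false))) (.leaf (.rl 4 4 [23, 27, 57, 94, 119, 171] [154, 1574] [34, 64, 36, 31, 49, 37, 622] false))) (.node (.node (.leaf (.rl 7 1 [7, 74, 54, 94, 121, 171] [1934] [] false)) (.leaf (.rl 5 4 [41, 65, 100, 112, 143] [95, 45, 45, 1298, 207, 207,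 5256] [42, 42, 5196] false))) (.leaf (.rl 4 4 [6, 28, 64, 82, 131, 144, 167] [31, 35, 49, 50] [48, 32, 34, 64, 154, 157, 3564] false))))))

def kSrc8 : Tr Src :=
  .node (.node (.node (.node (.node (.node (.leaf (.rl 1 2 [3, 39, 54, 79, 120, 168] [40] [10, 10, 6, 10, 6, 10, 6, 10, 6, 8, 6, 40] false)) (.leaf (.rl 5 4 [23, 69, 59, 101, 122, 159] [43, 43, 45, 202] [42, 44, 44, 42, 45, 45, 43, 43, 45, 1290, 1632] false))) (.node (.leaf (.rl 7 1 [22, 72, 67, 82, 131, 153, 166] [2126] [] false)) (.leaf (.rl 10 1 [14, 70, 66, 91, 151, 166] [6222] [] false)))) (.node (.node (.leaf (.rl 9 1 [11, 27, 56, 80, 88, 151, 167] [1102] [] false)) (.leaf (.rl 4 4 [8, 28, 55, 92, 120, 171, 167] [31, 35, 49, 50, 42, 44, 43, 45, 5196] [48, 32, 34, 146] false))) (.leaf (.rl 4 4 [14, 45, 65, 98, 155] [154] [30, 32, 34, 30, 164, 484, 2980] false)))) (.node (.node (.node (.leaf (.rl 4 4 [15, 46, 50, 79, 134, 144] [138, 184, 143, 185, 185,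 143, 290] [30, 48, 64, 36, 160] false)) (.leaf (.rl 9 1 [18, 43, 61, 91, 131, 152] [4686] [] false))) (.node (.leaf (.rl 9 1 [20, 41, 55, 90, 134, 153, 166] [2638] [] false)) (.leaf (.rl 4 4 [12, 45, 66, 101, 124, 171] [164, 484, 207, 5542, 5926, 5928, 5930, 5090, 6718] [48, 48, 30, 150, 204] false)))) (.node (.node (.leaf (.rl 4 4 [20, 69, 53, 94, 115, 152, 166] [146] [64, 48, 34, 30, 138, 184, 184, 142, 185, 185, 143, 302] false)) (.leaf (.rl 5 4 [17, 29, 62, 81, 115, 153, 167] [43, 45, 45, 43, 226, 345, 3118] [44, 42, 42, 44, 43, 43, 45, 45, 5236] false))) (.leaf (.rl 10 1 [22, 70, 61, 97, 114, 171] [3662] [] false))))) (.node (.node (.node (.node (.leaf (.rl 10 1 [4, 42, 61, 90, 118, 151] [334] [] false)) (.leaf (.rl 14 1 [10, 72, 57, 99, 120, 155, 167] [4430] [] false))) (.node (.leaf (.rl 4 4 [9, 27, 60, 80, 121, 156, 167] [150, 204] [48, 36, 34, 48, 48, 146, 1400] false)) (.leaf (.rl 4 4 [19, 65, 102, 115,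 154] [160, 344, 262, 5482, 5926, 5928, 5930, 6462] [64, 36, 32, 34, 164, 484] false)))) (.node (.node (.leaf (.rl 4 4 [10, 46, 95, 88, 169, 166] [146] [32, 48, 30, 146, 986] false)) (.leaf (.rl 5 4 [5, 69, 65, 97, 123, 168] [43, 43, 45, 202, 206, 826, 206, 5220] [] false))) (.leaf (.rl 4 4 [17, 40, 52, 99, 88, 168, 166] [160] [30, 48, 64, 48, 36, 146, 207, 1978] false)))) (.node (.node (.node (.leaf (.rl 4 2 [16, 29, 49, 89, 120, 154, 166] [146] [32, 30, 146] false)) (.leaf (.rl 5 4 [10, 44, 54, 94, 121, 143, 166] [43, 43, 45, 202, 206, 4472] [44, 42, 42, 44, 44, 43, 45, 45, 95, 4556] false))) (.leaf (.rl 9 1 [16, 46, 49, 104, 130, 153, 166] [2894] [] false))) (.node (.node (.leaf (.rl 4 4 [4, 74, 59, 82, 124, 153, 166] [146, 207, 207, 450] [64, 48, 30, 160] false)) (.leaf (.rl 5 4 [19, 46, 66, 82, 120, 155, 166] [1818, 207, 5550, 5926] [44, 94, 42, 44, 44, 43, 43, 45, 45, 5236, 5926] false))) (.leaf (.rl 4 4 [5,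 40, 62, 120, 157, 166] [164, 484] [64, 36, 30, 35, 49, 35, 134, 44, 42, 42, 44, 43, 45, 43, 43, 2000] false)))))) (.node (.node (.node (.node (.node (.leaf (.rl 1 4 [19, 73, 58, 97, 122, 159] [28, 48, 32, 34, 166] [10, 6, 10, 10, 8, 6, 10, 6, 10, 10, 28, 36, 30, 36, 166] true)) (.leaf (.rl 4 4 [3, 31, 63, 90, 132, 169] [138, 288, 140, 288, 140, 4288] [36, 32, 174, 520, 184, 288, 184, 142, 140, 4288] true))) (.node (.leaf (.rl 4 4 [20, 67, 97, 113, 143, 166] [150, 204, 207, 207, 1392] [30, 48, 64, 34, 154] false)) (.leaf (.rl 4 4 [3, 45, 102, 122, 156] [160, 5156, 5350, 5104, 6334] [36, 30, 48, 64, 154] false)))) (.node (.node (.leaf (.rl 4 4 [13, 68, 63, 100, 118, 154] [146, 206, 932] [64, 48, 34, 64, 154] false)) (.leaf (.rl 5 4 [23, 40, 64, 79, 113, 143] [43, 43, 45, 202, 207, 207, 886] [44, 94, 43, 5194] false))) (.leaf (.rl 10 1 [22, 41, 67, 117] [3278] [] false)))) (.node (.node (.node (.leaf (.rl 7 1 [33,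 40, 62, 82, 120] [718] [] false)) (.leaf (.rl 14 1 [6, 71, 65, 80, 151] [4814] [] false))) (.node (.leaf (.rl 4 4 [13, 44, 50, 80, 157] [154] [214, 520, 184, 184, 184, 140, 185, 185, 185, 2660] false)) (.leaf .dfn))) (.node (.node (.leaf (.rl 4 4 [3, 46, 56, 81, 151] [146] [32, 48, 34, 150, 204, 710] false)) (.leaf (.rl 5 4 [45, 89, 134, 158] [43, 45, 45, 43, 43, 45, 3760, 868] [44, 44, 42, 42, 44, 43, 43, 45, 45, 5236] false))) (.leaf (.rl 4 4 [21, 45, 55, 93, 169, 167] [160] [48, 34, 64, 30, 30, 146, 1072] false))))) (.node (.node (.node (.node (.leaf (.rl 4 4 [22, 30, 54, 93, 124, 168, 167] [138, 142, 140, 288, 288, 142, 141, 185, 143, 185, 185, 280] [36, 30, 36, 150, 204] false)) (.leaf (.rl 7 1 [12, 30, 65, 82, 121, 170] [4558] [] false))) (.node (.leaf (.rl 4 4 [12, 32, 64, 100, 121, 144, 167] [150, 204] [48, 48, 30, 34, 160, 262, 344, 262, 345, 1822] false)) (.leaf (.rl 5 4 [15, 70, 37, 100, 114, 155, 166]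 [43, 43, 45, 202, 5784, 5926, 5930, 6590] [44, 42, 42, 44, 44, 43, 95, 45, 1426] false)))) (.node (.node (.leaf (.rl 4 4 [23, 69, 58, 100, 113, 144, 166] [146, 206, 206, 1198] [64, 32, 48, 164, 484] false)) (.leaf (.rl 5 4 [5, 68, 51, 104, 134, 168, 167] [43, 45, 43, 3148, 528, 452, 529, 1548] [44, 42, 45, 43, 5362] false))) (.leaf (.rl 4 4 [4, 101, 134, 151, 167] [160] [36, 34, 30, 146, 207, 3182] false)))) (.node (.node (.node (.leaf (.rl 4 4 [16, 37, 96, 122, 159] [146, 390] [34, 64, 30, 154] false)) (.leaf (.rl 5 4 [12, 68, 52, 89, 123, 153, 166] [43, 43, 45, 45, 178, 262, 5006] [94, 42, 44, 4720] false))) (.leaf (.rl 9 1 [24, 72, 51, 90, 115, 171, 167] [3022] [] false))) (.node (.node (.leaf (.rl 7 1 [15, 44, 37, 96, 117, 168, 166] [1998] [] false)) (.leaf (.rl 25 1 [8, 46, 56, 80, 120, 168, 167] [6086] [] false))) (.leaf (.rl 7 1 [15, 32, 63, 97, 131, 158, 166] [4046] [] false))))))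

def kSrc9 : Tr Src :=
  .node kSrc7 kSrc8

def kSrc10 : Tr Src :=
  .node (.node (.node (.node (.node (.node (.leaf (.rl 0 4 [] [4, 6, 10, 10, 6, 10, 10, 6, 10, 6, 10, 28] [2, 2, 0, 2, 0, 2, 0, 2, 0, 2, 0, 2, 0, 2, 2, 0, 2, 0, 2, 4, 8, 6, 10, 10, 8, 6, 10, 6, 10, 6, 28] true)) (.leaf (.rl 10 1 [17, 29, 79, 134, 153, 166] [4142] [] false))) (.node (.leaf (.rl 7 1 [6, 29, 49, 94, 133] [2094] [] false)) (.leaf (.rl 21 1 [33, 42, 61, 102, 122, 170] [5081, 5234, 6186] [6186] false)))) (.node (.node (.leaf (.rl 4 4 [11, 74, 57, 98, 131, 143, 167] [146] [34, 174, 520, 184, 288, 185, 185, 185, 143, 506] false)) (.leaf (.rl 21 1 [7, 40, 67, 97, 114, 171] [5166] [] false))) (.leaf (.rl 4 4 [15, 45, 58, 98, 131, 159] [154] [48, 64, 30, 30, 154, 528, 156, 237, 529, 1964] false)))) (.node (.node (.node (.leaf (.rl 10 1 [8, 29, 58, 102, 169, 167] [558] [] false)) (.leaf (.rl 7 1 [12, 43, 81, 122, 151, 167] [4654] [] false)))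 (.node (.leaf (.rl 4 4 [20, 60, 99, 116, 170] [150, 204, 206, 206, 2548] [64, 30, 64, 146] false)) (.leaf (.rl 5 4 [19, 44, 58, 103, 119, 155, 166] [43, 43, 45, 202, 206, 206, 5308, 5926, 5930, 5928, 5090, 5088, 6692] [42, 42, 44, 44, 43, 45, 45, 43, 43, 736] false)))) (.node (.node (.leaf (.rl 7 1 [21, 44, 56, 98, 131, 158, 167] [1582] [] false)) (.leaf (.rl 5 4 [12, 73, 65, 104, 132, 170, 166] [43, 45, 45, 43, 226] [94, 44, 44, 42, 45, 45, 43, 43, 736, 206, 5190] false))) (.leaf (.rl 4 4 [9, 74, 37, 99, 118, 168] [160] [48, 30, 64, 48, 36, 160, 3518] false))))) (.node (.node (.node (.node (.leaf (.rl 6 1 [6, 70, 49, 93, 114, 168] [302] [] false)) (.leaf (.rl 16 0 [] [4396] [4374, 4396] true))) (.node (.leaf (.rl 4 4 [11, 27, 61, 82, 114, 151] [150, 204, 207, 710] [34, 32, 64, 48, 154] false)) (.leaf (.rl 5 4 [21, 41, 59, 91, 119, 151] [43, 45, 43, 3148, 5510, 5926, 5928, 5930, 6438] [44, 44, 94, 45, 43, 43, 658]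 false)))) (.node (.node (.leaf (.rl 4 4 [33, 70, 49, 79, 123, 157, 166] [146] [64, 48, 36, 150, 204, 206, 1002] false)) (.leaf (.rl 5 4 [18, 73, 38, 79, 112, 143] [43, 43, 45, 202, 207, 5202] [94, 42, 44, 42, 45, 45, 612] false))) (.leaf (.rl 10 1 [8, 39, 63, 95, 112, 167] [3374] [] false)))) (.node (.node (.node (.leaf (.rl 4 4 [21, 28, 67, 100, 120, 166] [31, 65, 49, 31, 70, 48, 48, 32, 48, 30, 160] [36, 30, 64, 32, 160] false)) (.leaf (.rl 14 1 [33, 72, 60, 98, 130, 156] [4910] [] false))) (.leaf (.rl 4 4 [17, 41, 52, 80, 88, 155, 166] [154, 236, 156, 237, 2774] [30, 64, 30, 146] false))) (.node (.node (.leaf (.rl 4 4 [5, 39, 65, 98, 118, 152, 167] [146, 492] [36, 64, 32, 48, 30, 160] false)) (.leaf (.rl 23 1 [11, 69, 50, 82, 131, 153, 167] [5686, 5926] [5926] false))) (.leaf (.rl 4 4 [23, 41, 58, 97, 124, 171] [164, 484] [30, 64, 48, 164, 484, 2134] false)))))) (.node (.node (.node (.node (.node (.leaf (.rl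 1 4 [21, 26] [28, 32, 64, 30, 160] [10, 10, 10, 8, 6, 10, 8, 6, 8, 40] false)) (.leaf (.rl 5 4 [19, 71, 55, 100, 131, 169] [95, 3298] [42, 42, 44, 44, 43, 45, 43, 43, 90, 44, 42, 42, 44, 95, 3298] false))) (.node (.leaf (.rl 7 1 [18, 46, 59, 103, 134, 144, 166] [2222] [] false)) (.leaf (.rl 4 4 [16, 44, 59, 100, 120, 155, 167] [154, 237, 5144, 5350, 5108, 5106, 5352, 5108, 6296] [64, 36, 32, 48, 160] false)))) (.node (.node (.leaf (.rl 4 4 [24, 74, 37, 96, 112, 154, 166] [146] [48, 48, 48, 32, 36, 154, 528, 156, 582] false)) (.leaf (.rl 4 4 [22, 71, 63, 96, 119, 155, 167] [31, 56, 94, 44, 44, 43, 45, 45, 5236] [64, 32, 30, 164, 484] false))) (.leaf (.rl 4 2 [15, 27, 61, 97, 113, 155, 167] [160] [34, 34, 32, 160] false)))) (.node (.node (.node (.leaf (.rl 4 4 [33, 26, 52, 79, 130, 158, 166] [138, 184, 142, 184, 288, 141, 185, 289, 185, 143, 680] [64, 30, 34, 30, 30, 146] false)) (.leaf (.rl 10 1 [17, 27, 57, 97,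 120, 155, 166] [4782] [] false))) (.node (.leaf (.rl 4 4 [17, 41, 60, 90, 88, 154] [154] [64, 48, 30, 36, 35, 49, 35, 134, 44, 44, 42, 42, 44, 43, 43, 45, 45, 95, 242] false)) (.leaf (.rl 5 4 [16, 42, 56, 94, 119, 153] [43, 45, 43, 3148, 528, 236, 157, 237, 5364, 5926, 5930, 5092, 5090, 5088, 6820] [43, 43, 2000] false)))) (.node (.node (.leaf (.rl 4 4 [15, 71, 65, 96, 115, 159, 167] [146] [48, 36, 30, 30, 160, 968] false)) (.leaf (.rl 5 4 [45, 64, 94, 120, 151, 166] [43, 95, 45, 45, 324, 206, 5416] [44, 44, 42, 95, 45, 5212] false))) (.leaf (.rl 7 1 [20, 60, 96, 170, 167] [3758] [] false))))) (.node (.node (.node (.node (.leaf (.rl 4 4 [15, 68, 49, 103, 115, 159, 166] [138, 142, 184, 288, 288, 140, 185, 289, 185, 185, 298] [48, 48, 34, 31, 56] false)) (.leaf (.rl 14 1 [6, 72, 62, 89, 121, 168, 167] [4526] [] false))) (.node (.leaf (.rl 4 4 [22, 73, 64, 102, 134, 171] [150, 204] [48, 36, 64, 146, 1022] false)) (.leaf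 (.rl 4 4 [7, 45, 59, 79, 113, 158, 166] [160, 263, 345, 5428, 5926, 5930, 6552] [36, 32, 30, 30, 160] false)))) (.node (.node (.leaf (.rl 4 4 [9, 42, 55, 89, 118, 153, 166] [146, 207, 207, 424] [36, 48, 48, 150, 204] false)) (.leaf (.rl 5 4 [18, 62, 98, 88, 152, 166] [43, 45, 43, 3148, 452, 237, 5548] [94, 44, 43, 43, 45, 45, 95, 4556] false))) (.leaf (.rl 4 4 [33, 68, 38, 100, 117, 157, 167] [160] [30, 30, 174, 520, 184, 142, 288, 142, 141, 185, 143, 294] false)))) (.node (.node (.node (.leaf (.rl 4 4 [6, 32, 58, 92, 118, 151, 166] [146] [30, 48, 34, 31, 56, 44, 44, 43, 45, 43, 95, 588] false)) (.leaf (.rl 14 1 [4, 41, 65, 90, 134, 158] [5038] [] false))) (.leaf (.rl 7 1 [21, 39, 37, 101, 134, 154, 166] [2990] [] false))) (.node (.node (.leaf (.rl 4 4 [11, 32, 66, 94, 131, 156, 166] [146] [48, 36, 64, 48, 48, 146, 726] false)) (.leaf (.rl 5 4 [16, 44, 37, 102, 131, 152, 166] [95, 5282] [45, 110, 44, 95, 5282] false)))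 (.leaf (.rl 4 4 [6, 45, 49, 91, 116, 171] [166, 208, 194, 168, 171, 195, 209, 856] [34, 32, 36, 31, 31, 49, 37, 622] false))))))

def kSrc11 : Tr Src :=
  .node (.node (.node (.node (.node (.node (.leaf (.rl 5 4 [24, 72, 57, 90, 130, 168, 167] [45, 84, 42, 42, 45, 45, 110] [42, 45, 110] false)) (.leaf (.rl 10 1 [4, 72, 54, 100, 121, 154, 167] [4206] [] false))) (.node (.leaf (.rl 7 1 [17, 26, 60, 80, 122, 159] [2158] [] false)) (.leaf (.rl 5 4 [12, 43, 65, 103, 114, 153, 166] [43, 43, 45, 43, 43, 658] [94, 44, 5196, 5082, 6176] false)))) (.node (.node (.leaf (.rl 4 4 [33, 30, 62, 90, 122, 144, 166] [146] [48, 34, 64, 30, 174, 520, 288, 184, 184, 184, 288, 141, 143, 185, 185, 143, 290] false)) (.leaf (.rl 21 1 [9, 44, 62, 98, 134, 157, 166] [5230] [] false))) (.leaf (.rl 7 1 [16, 41, 64, 94, 113, 159, 167] [3182] [] false)))) (.node (.node (.node (.leaf (.rl 4 4 [16, 46, 59, 80, 122, 153, 166] [138, 142, 140, 288,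 288, 140, 185, 289, 185, 185, 298] [36, 48, 30, 146] false)) (.leaf (.rl 14 1 [19, 46, 67, 96, 134, 170] [4718] [] false))) (.node (.leaf (.rl 4 4 [27, 65, 102, 116, 144, 166] [154] [48, 64, 36, 138, 142, 140, 288, 143, 289, 143, 350] false)) (.leaf (.rl 4 4 [19, 41, 64, 96, 124, 159, 167] [31, 35, 49, 50, 44, 94, 45, 45, 5236, 5926, 5928, 5930, 5088, 6754] [48, 36, 34, 48, 146] false)))) (.node (.node (.leaf (.rl 7 1 [6, 32, 64, 103, 130, 143] [1646] [] false)) (.leaf (.rl 5 4 [33, 30, 53, 96, 118, 170, 167] [43, 45, 43, 43, 90, 44, 44, 42, 95, 45, 5212] [44, 44, 42, 42, 44, 43, 95, 45, 5212] false))) (.leaf (.rl 4 4 [4, 70, 100, 116, 168, 166] [160] [30, 48, 34, 64, 30, 160, 345, 263, 2116] false))))) (.node (.node (.node (.node (.leaf (.rl 10 1 [11, 44, 54, 103, 123, 171, 166] [366] [] false)) (.leaf (.rl 14 1 [10, 39, 62, 104, 113, 143, 167] [4462] [] false))) (.node (.leaf (.rl 4 4 [5, 73, 56, 80, 88, 168,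 166] [150, 204] [30, 36, 64, 30, 146, 206, 2274] false)) (.leaf (.rl 4 4 [4, 30, 58, 100, 131, 169, 166] [35, 49, 35, 134, 5458, 5926, 5088, 6502] [64, 34, 48, 64, 154] false)))) (.node (.node (.leaf (.rl 7 1 [15, 32, 53, 99, 133, 168, 166] [1390] [] false)) (.leaf (.rl 5 4 [12, 26, 49, 80, 124, 143, 167] [43, 43, 45, 202, 3000] [44, 94, 42, 42, 95, 5392] false))) (.leaf (.rl 4 4 [7, 45, 51, 89, 116, 158, 167] [160] [32, 30, 64, 30, 160, 263, 3374] false)))) (.node (.node (.node (.leaf (.rl 4 2 [3, 73, 55, 89, 121, 152, 167] [146] [64, 36, 30, 32, 150, 204] false)) (.leaf (.rl 5 4 [71, 58, 100, 115, 153, 166] [43, 45, 43, 3148, 528, 452, 236, 157, 453, 4956] [44, 94, 42, 44, 43, 43, 45, 45, 95, 4556] false))) (.leaf (.rl 10 1 [18, 51, 96, 119, 166] [2926] [] false))) (.node (.node (.leaf (.rl 7 1 [11, 42, 38, 102, 114, 155, 167] [1902] [] false)) (.leaf (.rl 5 4 [23, 27, 37, 99, 115, 156, 167] [43, 43, 45, 45, 5236,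 5926] [44, 44, 94, 45, 43, 43, 45, 1976, 207, 5498, 5926] false))) (.leaf (.rl 7 1 [7, 45, 53, 89, 121, 151] [3950] [] false)))))) (.node (.node (.node (.node (.node (.leaf (.rl 7 1 [15, 26, 64, 94, 131, 151, 166] [238] [] false)) (.leaf (.rl 14 1 [18, 44, 37, 82, 134, 153, 166] [4334] [] false))) (.node (.leaf (.rl 7 1 [15, 31, 52, 91, 124, 158, 166] [2286] [] false)) (.leaf (.rl 4 4 [9, 45, 38, 93, 114, 155, 167] [31, 35, 49, 50, 44, 44, 42, 45, 45, 43, 5238, 5926, 5092, 6362] [64, 36, 30, 48, 64, 30, 160] false)))) (.node (.node (.leaf (.rl 4 4 [3, 27, 50, 102, 119, 151, 167] [146, 207, 1178] [36, 32, 30, 164, 484] false)) (.leaf (.rl 5 4 [15, 45, 89, 131, 143, 166] [43, 43, 45, 202, 2972, 236, 529, 5248] [] false))) (.leaf (.rl 10 1 [21, 74, 95, 116, 171] [3310] [] false)))) (.node (.node (.node (.leaf (.rl 4 4 [7, 31, 67, 97, 156] [31, 65, 49, 31, 70, 48, 48, 48, 30, 30, 154] [36, 48, 48, 32, 154] false)) (.leaf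 (.rl 7 1 [18, 43, 55, 103, 121, 170, 167] [4846] [] false))) (.node (.leaf (.rl 9 1 [21, 44, 56, 104, 114, 168] [2798] [] false)) (.leaf .dfn))) (.node (.node (.leaf (.rl 4 4 [19, 45, 66, 79, 88, 157, 167] [146] [34, 34, 154, 452, 157, 453, 698] false)) (.leaf (.rl 5 4 [3, 39, 66, 104, 131, 158, 167] [45, 43, 43, 45, 1976, 206, 206, 5460] [42, 42, 45, 5236] false))) (.leaf (.rl 10 1 [12, 74, 67, 101, 118, 157, 167] [3822] [] false))))) (.node (.node (.node (.node (.leaf (.rl 10 1 [14, 43, 49, 119, 159] [494] [] false)) (.leaf (.rl 14 1 [13, 29, 52, 97, 131, 169, 167] [4590] [] false))) (.node (.leaf (.rl 7 1 [19, 26, 99, 113, 156, 167] [2542] [] false)) (.leaf (.rl 5 4 [21, 71, 38, 79, 116, 153, 167] [43, 45, 43, 43, 80, 94, 42, 44, 95, 45, 5212, 5926, 5930, 5092, 5088, 6628] [45, 95, 4342, 4396] false)))) (.node (.node (.leaf (.rl 7 1 [9, 69, 63, 104, 134, 168, 167] [1518] [] false)) (.leaf (.rl 5 2 [6, 28, 54,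 89, 122, 154, 166] [43, 45, 45, 43, 226] [94, 42, 44, 44, 43, 45, 45, 5236] false))) (.leaf (.rl 4 4 [14, 41, 61, 102, 116, 170] [160, 263, 345, 3536] [64, 48, 36, 30, 30, 146] false)))) (.node (.node (.node (.leaf (.rl 4 4 [4, 72, 50, 81, 153] [146] [36, 48, 138, 288, 184, 184, 184, 289, 289, 143, 652] false)) (.leaf (.rl 12 1 [20, 45, 60, 81, 123, 151, 167] [209, 550, 5102] [5102] false))) (.leaf (.rl 4 4 [3, 46, 49, 98, 132, 171, 167] [154, 236, 453, 529, 2982] [36, 30, 48, 64, 30, 146] false))) (.node (.node (.leaf (.rl 7 1 [5, 27, 53, 101, 121, 144, 166] [2030] [] false)) (.leaf (.rl 10 1 [10, 70, 95, 134, 143, 166] [344, 6124] [6124] false))) (.leaf (.rl 5 4 [10, 30, 37, 80, 132, 166] [43, 43, 45, 202] [42, 42, 44, 43, 95, 2606, 206, 3154] false))))))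

def kSrc12 : Tr Src :=
  .node kSrc10 kSrc11

def kSrc13 : Tr Src :=
  .node kSrc9 kSrc12

def kSrc14 : Tr Src :=
  .node kSrc6 kSrc13

def kSrc15 : Tr Src :=
  .node (.node (.node (.node (.node (.node (.leaf (.rl 0 1 [] [3, 3, 1, 3, 1, 3, 3, 0, 2, 2, 0, 2, 0, 2, 2, 4] [4] false)) (.leaf (.rl 7 1 [19, 69, 50, 101, 118, 143, 166] [4102] [] false))) (.node (.leaf (.rl 7 1 [4, 41, 51, 93, 122, 152] [2054] [] false)) (.leaf (.rl 30 1 [15, 41, 59, 97, 115, 155] [6150] [] false)))) (.node (.node (.leaf (.rl 4 4 [22, 74, 50, 93, 114, 156, 166] [146] [36, 35, 49, 35, 134, 42, 44, 43, 43, 45, 45, 188] false)) (.leaf .dfn)) (.leaf (.rl 9 1 [14, 31, 52, 100, 133, 171, 166] [3078] [] false)))) (.node (.node (.node (.leaf (.rl 4 4 [17, 73, 37, 99, 124, 170, 166] [138, 140, 289, 143, 289, 143, 350, 262, 345, 263, 292] [64, 48, 36, 174] true)) (.leaf (.rl 7 1 [22, 28, 52, 98, 88, 144] [4614] [] false))) (.node (.leaf (.rl 4 4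 [16, 32, 59, 97, 117, 157, 166] [150, 204] [34, 64, 32, 36, 160, 263, 366] false)) (.leaf (.rl 4 4 [33, 43, 57, 100, 116, 168, 167] [146, 5662, 5926, 5090, 5088, 6652] [30, 48, 31, 56] false)))) (.node (.node (.leaf (.rl 7 1 [8, 29, 37, 80, 124, 153] [1542] [] false)) (.leaf (.rl 5 4 [22, 44, 96, 88, 144, 166] [43, 45, 45, 43, 226] [94, 42, 44, 43, 43, 45, 1976, 206, 5298] false))) (.leaf (.rl 4 4 [9, 44, 51, 82, 133, 171, 166] [160] [30, 48, 32, 64, 30, 160, 263, 345, 263, 2918] false))))) (.node (.node (.node (.node (.leaf (.rl 1 4 [11, 31, 61, 80, 132, 143] [40, 42, 42, 44, 42, 45, 45, 43, 226] [6, 10, 6, 10, 10, 10, 8, 6, 10, 10, 8, 6, 40] false)) (.leaf (.rl 16 1 [15, 42, 64, 99, 158, 167] [4358] [] false))) (.node (.leaf (.rl 10 1 [7, 27, 64, 100, 134, 168, 166] [2310] [] false)) (.leaf (.rl 4 4 [33, 46, 102, 117, 154, 167] [146, 206, 206, 5308, 5926, 5930, 6398] [64, 34, 48, 30, 160] false)))) (.node (.node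 (.leaf (.rl 4 4 [23, 39, 49, 99, 112, 153] [146] [64, 30, 48, 64, 34, 146, 206, 554] false)) (.leaf (.rl 23 1 [23, 37, 130, 152, 166] [5382] [] false))) (.leaf (.rl 4 4 [4, 40, 50, 159, 166] [160, 262, 344, 262, 345, 2036] [64, 30, 48, 160] false)))) (.node (.node (.node (.leaf (.rl 4 4 [17, 30, 54, 80, 118, 154] [31, 65, 49, 31, 70, 30, 36, 32, 164, 484] [48, 48, 48, 32, 164, 484] false)) (.leaf (.rl 14 1 [13, 39, 67, 104, 123, 153] [4870] [] false))) (.leaf (.rl 4 4 [7, 68, 57, 89, 88, 153, 167] [154] [64, 34, 32, 30, 146, 207, 207, 1088] false))) (.node (.node (.leaf (.rl 4 4 [10, 30, 67, 90, 115, 171, 167] [146] [34, 64, 48, 150, 204, 207, 207, 788] false)) (.leaf (.rl 5 4 [10, 40, 38, 92, 132, 158, 167] [43, 43, 45, 45, 188, 528, 452, 236, 157, 237, 5364] [42, 44, 44, 5194, 5350] false))) (.leaf (.rl 4 4 [21, 41, 56, 104, 124, 166] [160] [64, 48, 30, 30, 160, 3452] false)))))) (.node (.node (.node (.node (.node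 (.leaf (.rl 4 1 [12, 41, 62, 99, 121, 154, 166] [134] [] false)) (.leaf (.rl 5 4 [9, 46, 61, 89, 121, 151, 167] [45, 43, 43, 45, 45, 122, 94, 912] [94, 42, 44, 42, 45, 212] false))) (.node (.leaf (.rl 7 1 [16, 32, 59, 95, 134, 151, 167] [2182] [] false)) (.leaf (.rl 7 4 [21, 43, 53, 94, 132] [207, 5436, 6186] [207, 207, 5698, 5080, 6186] true)))) (.node (.node (.leaf (.rl 4 4 [20, 73, 63, 100, 117, 170, 167] [146] [30, 48, 160, 262, 345, 1144] false)) (.leaf (.rl 21 1 [18, 27, 66, 103, 123, 152] [5254] [] false))) (.leaf (.rl 7 1 [11, 27, 55, 104, 124, 158, 166] [3206] [] false)))) (.node (.node (.node (.leaf (.rl 4 4 [16, 45, 55, 102, 88, 154, 166] [138] [36, 48, 48, 166, 170, 208, 171, 209, 171, 209, 616] false)) (.leaf (.rl 10 1 [13, 45, 64, 101, 116, 167] [4742] [] false))) (.node (.leaf (.rl 4 4 [18, 31, 54, 95, 131, 143, 167] [154, 528, 452, 156, 237, 529, 1898] [48, 64, 34, 32, 160] false)) (.leaf (.rl 4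 4 [9, 46, 38, 93, 134, 157, 166] [146, 5384, 5926, 5930, 5092, 5088, 6784] [30, 64, 32, 48, 146] false)))) (.node (.node (.leaf (.rl 4 4 [4, 30, 54, 99, 133, 159, 167] [146] [30, 64, 30, 34, 31, 31, 49, 37, 622, 1540] false)) (.leaf (.rl 5 4 [33, 40, 52, 96, 134, 159, 166] [43, 45, 43, 43, 80, 42, 42, 44, 42, 95, 45, 5212] [94, 44, 42, 95, 5392] false))) (.leaf (.rl 10 1 [4, 26, 66, 82, 120, 144, 166] [3718] [] false))))) (.node (.node (.node (.node (.leaf (.rl 7 1 [24, 32, 56, 97, 168, 166] [390] [] false)) (.leaf (.rl 7 1 [19, 69, 64, 93, 114, 152] [4486] [] false))) (.node (.leaf (.rl 4 4 [14, 73, 55, 89, 114, 170, 166] [150, 204] [34, 34, 138, 142, 288, 141, 143, 185, 185, 143, 290] false)) (.leaf (.rl 1 4 [5, 43, 59, 103, 120, 154, 167] [40, 42, 42, 44, 95, 45, 5212, 5926, 5928, 5088, 6520] [10, 6, 10, 6, 10, 10, 8, 6, 40] false)))) (.node (.node (.leaf (.rl 7 1 [8, 63, 99, 132, 154] [1414] [] false)) (.leaf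 (.rl 5 4 [23, 31, 38, 81, 119, 168, 166] [43, 45, 43, 3148] [44, 42, 42, 44, 44, 43, 45, 45, 95, 242, 206, 5332] false))) (.leaf (.rl 10 1 [33, 39, 55, 91, 123, 157] [3462] [] false)))) (.node (.node (.node (.leaf (.rl 7 1 [18, 32, 59, 99, 115, 143] [902] [] false)) (.leaf (.rl 10 1 [18, 70, 37, 89, 116, 169, 166] [4998] [] false))) (.leaf (.rl 4 4 [33, 43, 64, 96, 88] [154] [36, 32, 64, 34, 150, 204, 2360] false))) (.node (.node (.leaf (.rl 7 1 [10, 46, 64, 82, 121, 144] [1926] [] false)) (.leaf (.rl 5 4 [10, 26, 65, 92, 124, 168] [43, 5194, 5350] [42, 42, 44, 43, 95, 1550, 5624] false))) (.leaf (.rl 4 4 [24, 62, 95, 112, 144] [164, 484] [64, 48, 32, 36, 160, 3588] false))))))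

def kSrc16 : Tr Src :=
  .node (.node (.node (.node (.node (.node (.leaf (.rl 1 4 [23, 69, 54, 90, 115, 151, 167] [28, 48, 36, 48, 31, 56] [10, 6, 8, 6, 10, 10, 10, 8, 6, 10, 6, 10, 6, 40] false)) (.leaf (.rl 5 4 [4, 27, 37, 80, 130, 158] [43, 43, 45, 202, 206, 1860] [42, 42, 44, 44, 42, 45, 43, 43, 45, 1976] false))) (.node (.leaf (.rl 7 1 [14, 70, 65, 92, 88, 144] [2118] [] false)) (.leaf (.rl 22 1 [15, 46, 51, 99, 118, 168, 167] [6214] [] false)))) (.node (.node (.leaf (.rl 7 1 [12, 32, 82, 114, 171, 167] [1094] [] false)) (.leaf (.rl 7 1 [23, 39, 57, 96, 116, 168, 167] [5190] [] false))) (.leaf (.rl 10 1 [6, 40, 55, 82, 131, 154] [3142] [] false)))) (.node (.node (.node (.leaf (.rl 4 4 [13, 70, 64, 81, 112, 157] [138, 288, 288, 184, 140, 289, 143, 289, 143, 564] [48, 36, 48, 48, 146] false)) (.leaf (.rl 9 1 [3, 46, 49, 95, 134, 168, 167] [4678] [] false))) (.node (.leaf (.rl 4 4 [24, 57, 101, 117, 154, 166]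 [150, 204] [36, 32, 48, 150, 204, 206, 206, 2504] false)) (.leaf (.rl 4 4 [5, 69, 59, 94, 122, 151, 167] [146, 206, 5460, 5926, 5930, 5092, 5090, 6716] [48, 48, 32, 31, 35, 49, 50] false)))) (.node (.node (.leaf (.rl 4 4 [3, 46, 63, 91, 134, 158] [146] [34, 48, 34, 34, 138, 350] false)) (.leaf (.rl 5 4 [10, 71, 38, 97, 153] [43, 45, 45, 43, 226, 263, 5624] [44, 94, 43, 45, 45, 43, 3886] false))) (.leaf (.rl 4 4 [10, 73, 52, 89, 123] [160, 262, 344, 263, 345, 263, 930] [30, 64, 30, 64, 150, 204] false))))) (.node (.node (.node (.node (.leaf (.rl 7 1 [12, 68, 64, 81, 121, 144, 166] [326] [] false)) (.leaf (.rl 14 1 [19, 30, 61, 96, 132, 155] [4422] [] false))) (.node (.leaf (.rl 4 4 [17, 68, 38, 96, 133, 168, 166] [150, 204] [64, 36, 32, 37, 49, 54, 48, 36, 48, 31, 31, 49, 37, 622] false)) (.leaf (.rl 4 4 [7, 68, 57, 131, 151, 167] [146, 5310, 5926, 5088, 6466] [64, 48, 32, 34, 64, 146] false)))) (.node (.node (.leaf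 (.rl 7 1 [20, 73, 62, 101, 134, 151, 167] [1350] [] false)) (.leaf (.rl 5 4 [10, 45, 54, 104, 120, 168] [43, 43, 45, 202] [43, 45, 45, 43, 95, 45, 102, 42, 44, 95, 45, 5212] false))) (.leaf (.rl 4 4 [17, 71, 67, 96, 120, 144, 167] [160] [36, 30, 160, 345, 2882] false)))) (.node (.node (.node (.leaf (.rl 4 2 [7, 61, 104, 124, 158, 166] [146] [48, 48, 30, 36, 150, 204] false)) (.leaf (.rl 14 1 [11, 53, 90, 117, 153] [4934] [] false))) (.leaf (.rl 9 1 [17, 74, 37, 131, 159, 166] [2886] [] false))) (.node (.node (.leaf (.rl 4 4 [3, 46, 49, 94, 122, 169, 167] [146] [64, 36, 48, 30, 160, 344, 262, 534] false)) (.leaf (.rl 23 1 [70, 99, 112, 152, 167] [5744, 5926] [5926] false))) (.leaf (.rl 4 4 [15, 27, 62, 81, 112, 151] [164, 484] [32, 64, 48, 64, 154, 528, 452, 236, 157, 453, 529, 2776] false)))))) (.node (.node (.node (.node (.node (.leaf (.rl 1 4 [16, 29, 38, 93, 132, 143] [28, 30, 32, 48, 146] [10, 8, 6, 10, 40]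 false)) (.leaf .dfn)) (.node (.leaf (.rl 4 4 [18, 45, 60, 81, 123, 151, 167] [150, 204, 207, 207, 1264] [30, 32, 48, 31, 49, 37, 622] false)) (.leaf (.rl 4 4 [9, 43, 102, 112, 152, 167] [146, 207, 207, 5152, 5350, 5108, 5106, 5352, 6328] [48, 30, 64, 36, 154] false)))) (.node (.node (.leaf (.rl 7 1 [24, 26, 64, 102, 152] [1222] [] false)) (.leaf (.rl 5 2 [13, 30, 103, 114, 144, 167] [43, 43, 45, 202] [94, 42, 44, 44, 43, 95, 45, 5212] false))) (.leaf (.rl 10 1 [19, 31, 38, 102, 124, 143, 166] [3270] [] false)))) (.node (.node (.node (.leaf (.rl 7 1 [4, 70, 67, 82, 121, 171] [710] [] false)) (.leaf (.rl 10 1 [3, 40, 63, 98, 120, 170] [4806] [] false))) (.node (.leaf (.rl 4 4 [3, 69, 61, 91, 120, 171, 166] [154] [64, 48, 36, 64, 154, 528, 452, 236, 453, 157, 1274] false)) (.leaf (.rl 5 4 [23, 69, 60, 92, 120, 168, 167] [45, 43, 43, 45, 434, 5700, 5926, 5090, 6842] [44, 42, 5194, 5350] false)))) (.node (.node (.leaf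 (.rl 4 4 [6, 27, 66, 98, 115, 168, 166] [146] [30, 64, 36, 30, 138, 140, 288, 184, 141, 185, 185, 185, 143, 506] false)) (.leaf (.rl 9 1 [9, 31, 63, 82, 152, 167] [5830] [] false))) (.leaf (.rl 4 4 [13, 41, 52, 95, 114, 168] [160] [64, 34, 64, 166, 550, 171, 190] false))))) (.node (.node (.node (.node (.leaf (.rl 7 1 [10, 74, 59, 79, 134, 152, 167] [454] [] false)) (.leaf (.rl 7 1 [20, 70, 50, 104, 121] [4550] [] false))) (.node (.leaf (.rl 4 4 [3, 54, 81, 132, 158, 166] [150, 204] [36, 48, 48, 32, 31, 35, 49, 50, 94, 42, 44, 44, 43, 43, 45, 45, 43, 2160] false)) (.leaf (.rl 4 4 [11, 51, 99, 124, 159, 166] [146, 5460, 5926, 5928, 5088, 6584] [30, 64, 48, 146] false)))) (.node (.node (.leaf (.rl 4 4 [4, 30, 100, 122, 154, 166] [146] [48, 48, 34, 48, 30, 154, 528, 452, 156, 453, 157, 529, 1372] false)) (.leaf (.rl 5 4 [11, 44, 63, 99, 123, 154] [43, 45, 43, 3148, 528, 156, 529, 2280] [94, 44, 42, 45, 43, 5362] false)))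 (.leaf (.rl 4 4 [21, 27, 66, 90, 132, 167] [160] [36, 34, 64, 30, 146, 206, 1386] false)))) (.node (.node (.node (.leaf (.rl 4 4 [12, 64, 97, 112, 144] [146, 368] [36, 34, 48, 48, 146] false)) (.leaf (.rl 5 4 [16, 69, 63, 95, 114, 152, 166] [43, 43, 45, 45, 476, 4770] [94, 44, 43, 45, 45, 95, 4556] false))) (.leaf (.rl 10 1 [7, 31, 58, 82, 118, 152, 166] [3014] [] false))) (.node (.node (.leaf (.rl 4 4 [70, 50, 93, 115, 143, 166] [146, 206, 1860] [64, 32, 48, 64, 34, 160] false)) (.leaf (.rl 25 1 [8, 46, 56, 80, 120, 168, 167] [5116, 6086] [6086] false))) (.leaf (.rl 7 1 [10, 43, 60, 103, 116, 143, 166] [4038] [] false))))))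

def kSrc17 : Tr Src :=
  .node kSrc15 kSrc16

def kSrc18 : Tr Src :=
  .node (.node (.node (.node (.node (.node (.leaf .dfn) (.leaf (.rl 5 4 [16, 44, 49, 159] [43, 43, 45, 202] [42, 42, 44, 43, 43, 45, 43, 95, 588, 4000] false))) (.node (.leaf (.rl 7 1 [3, 68, 53, 103, 88, 152] [2086] [] false)) (.leaf (.rl 21 1 [9, 31, 55, 82, 115, 151] [6176] [] false)))) (.node (.node (.leaf (.rl 4 4 [10, 31, 56, 79, 88, 167] [146, 690] [34, 64, 48, 30, 34, 160] false)) (.leaf (.rl 10 1 [3, 73, 50, 91, 116, 143] [5158] [] false))) (.leaf (.rl 4 4 [33, 46, 65, 102, 112, 152, 167] [154, 528, 157, 529, 453, 416] [64, 34, 48, 64, 32, 160] false)))) (.node (.node (.node (.leaf (.rl 10 1 [14, 28, 49, 94, 123, 143] [548] [] false)) (.leaf (.rl 7 1 [3, 72, 89, 157, 167] [4646] [] false))) (.node (.leaf (.rl 4 4 [22, 39, 64, 90, 131, 144] [150, 204, 2004] [64, 48, 32, 31, 31, 49, 37, 622] false)) (.leaf (.rl 4 4 [3, 69, 61, 100, 114,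 167] [146, 5368, 5926, 5930, 6688] [34, 48, 150, 204] false)))) (.node (.node (.leaf (.rl 4 4 [20, 26, 56, 118, 167] [146, 684] [30, 64, 48, 30, 34, 166] false)) (.leaf (.rl 5 4 [12, 42, 64, 89, 122, 168, 167] [43, 45, 45, 43, 226, 262, 344, 263, 345, 2590] [94, 44, 42, 45, 5196] false))) (.leaf (.rl 4 4 [33, 102, 119, 171, 167] [160] [64, 48, 34, 146, 1896] false))))) (.node (.node (.node (.node (.leaf (.rl 6 1 [17, 30, 54, 103, 118, 151, 167] [294] [] false)) (.leaf (.rl 4 4 [5, 27, 81, 121, 171, 167] [138, 142, 288, 142, 288, 142, 4280] [64, 36, 146] false))) (.node (.leaf (.rl 4 4 [8, 32, 55, 97, 124, 155] [150, 204, 207, 1046] [48, 30, 64, 36, 160] false)) (.leaf (.rl 4 4 [14, 71, 66, 81, 118, 144, 167] [146, 5784, 5926, 5928, 5930, 5090, 6428] [30, 32, 64, 32, 30, 150, 204] false)))) (.node (.node (.leaf (.rl 4 4 [10, 74, 64, 99, 114, 151, 167] [146] [48, 30, 48, 36, 138, 288, 184, 288, 184, 142, 289, 143,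 289, 143, 350] false)) (.leaf (.rl 5 4 [15, 28, 56, 94, 117, 155, 166] [43, 43, 45, 202, 207, 1100] [44, 94, 42, 45, 5196] false))) (.leaf (.rl 4 4 [20, 68, 54, 94, 124, 169, 166] [160] [64, 30, 154, 528, 452, 237, 3006] false)))) (.node (.node (.node (.leaf (.rl 4 4 [44, 55, 99, 116, 151] [31, 65, 49, 31, 70, 30, 48, 36, 64, 48, 146] [48, 146] false)) (.leaf (.rl 7 1 [24, 32, 59, 92, 112, 168, 167] [4902] [] false))) (.leaf (.rl 9 1 [4, 56, 101, 114, 170] [2854] [] false))) (.node (.node (.leaf (.rl 4 4 [17, 41, 60, 81, 115, 153] [146] [34, 34, 30, 138, 184, 288, 288, 140, 289, 289, 143, 652] false)) (.leaf (.rl 23 0 [] [5926] [5098, 5926] false))) (.leaf (.rl 7 1 [15, 30, 58, 97, 117, 169, 167] [3878] [] false)))))) (.node (.node (.node (.node (.node (.leaf (.rl 4 1 [13, 29, 49] [32, 166] [166] false)) (.leaf (.rl 5 4 [8, 42, 65, 90, 112, 152] [1818, 207, 2572] [45, 45, 2706] false))) (.node (.leaf (.rl 4 4 [33,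 30, 96, 113, 143] [146] [48, 30, 64, 56, 94, 42, 45, 43, 43, 198] false)) (.leaf (.rl 4 4 [17, 31, 62, 101, 88, 169] [146, 5152, 5350, 5352, 5176, 5108, 6300] [30, 64, 32, 48, 34, 146] false)))) (.node (.node (.leaf (.rl 4 4 [5, 67, 97, 121, 154, 166] [146] [36, 166, 208, 208, 194, 208, 170, 169, 171, 209, 171, 551, 958] false)) (.leaf (.rl 4 4 [17, 27, 51, 103, 114, 157] [31, 56, 44, 43, 45, 5196] [64, 48, 31, 49, 37, 622] false))) (.leaf (.rl 4 4 [11, 70, 102, 88, 156, 166] [37, 49, 49, 49, 60, 34, 48, 64, 34, 160] [30, 48, 48, 160] false)))) (.node (.node (.node (.leaf (.rl 7 1 [16, 73, 49, 90, 117, 152, 166] [678] [] false)) (.leaf (.rl 10 1 [10, 41, 49, 94, 117, 168, 167] [4774] [] false))) (.node (.leaf (.rl 7 1 [18, 32, 53, 97, 119, 169, 167] [2726] [] false)) (.leaf (.rl 4 4 [23, 39, 49, 99, 122, 171] [146, 5792, 5926, 5928, 5092, 5088, 6808] [32, 64, 31, 49, 37, 622] false)))) (.node (.node (.leaf (.rl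 4 4 [11, 74, 38, 92, 116, 153, 166] [146, 206, 388] [30, 34, 30, 146] false)) (.leaf (.rl 5 4 [33, 69, 38, 93, 88, 156, 166] [43, 95, 45, 45, 324, 207, 207, 5172] [4342, 4396] false))) (.leaf (.rl 10 1 [4, 44, 66, 92, 120, 156, 167] [3750] [] false))))) (.node (.node (.node (.node (.leaf (.rl 10 1 [23, 41, 49, 100, 132, 169, 167] [422] [] false)) (.leaf (.rl 7 1 [6, 72, 37, 89, 134, 153, 167] [4518] [] false))) (.node (.leaf (.rl 4 4 [18, 41, 54, 89, 120, 169, 167] [150, 204, 1836] [36, 32, 30, 160] false)) (.leaf (.rl 4 4 [3, 26, 38, 94, 124, 169] [146, 206, 5584, 5926, 5930, 5090, 5088, 6560] [48, 36, 150, 204] false)))) (.node (.node (.leaf (.rl 4 4 [19, 44, 65, 81, 119, 154, 167] [146] [49, 37, 622, 206, 1010] false)) (.leaf (.rl 5 4 [10, 70, 38, 103, 113, 143] [43, 45, 43, 3148, 452, 5144, 5350] [44, 94, 42, 44, 44, 43, 43, 95, 45, 1426] false))) (.leaf (.rl 4 4 [22, 26, 66, 91, 123, 158, 167] [160, 3200] [34,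 32, 36, 30, 146] false)))) (.node (.node (.node (.leaf (.rl 4 2 [22, 43, 57, 119, 154, 166] [146] [48, 36, 30, 34, 146] false)) (.leaf (.rl 14 1 [33, 46, 65, 79, 134, 171, 166] [5030] [] false))) (.leaf (.rl 9 1 [10, 73, 61, 92, 116, 155, 167] [2982] [] false))) (.node (.node (.leaf (.rl 4 4 [16, 43, 54, 79, 170, 167] [146, 1334] [36, 30, 64, 48, 146] false)) (.leaf (.rl 5 4 [9, 70, 37, 80, 113, 157, 166] [43, 45, 5196] [43, 45, 45, 122, 44, 5196] false))) (.leaf (.rl 4 4 [23, 45, 64, 104, 113, 168, 166] [166, 208, 194, 208, 168, 209, 171, 551, 195, 560] [34, 64, 150, 204] false))))))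

def kSrc19 : Tr Src :=
  .node (.node (.node (.node (.node (.node (.leaf (.rl 5 4 [4, 41, 62, 92, 121, 168, 167] [43, 45, 43, 43, 80] [94, 43, 45, 43, 43, 90, 42, 45, 45, 43, 100] false)) (.leaf (.rl 5 4 [12, 31, 64, 99, 120, 169] [43, 45, 45, 43, 226] [44, 44, 94, 45, 43, 95, 1498, 206, 206, 3012] false))) (.node (.leaf (.rl 7 1 [24, 26, 56, 89, 130, 155, 166] [2150] [] false)) (.leaf (.rl 9 1 [24, 39, 54, 79, 120, 168] [156, 6246] [6246] false)))) (.node (.node (.leaf (.rl 4 4 [33, 42, 53, 102, 131, 143, 166] [146, 660] [64, 48, 48, 48, 166] false)) (.leaf (.rl 23 1 [4, 68, 94, 118, 168, 166] [5222] [] false))) (.leaf (.rl 4 4 [21, 72, 59, 103, 122, 157, 167] [154, 156, 452, 2752] [34, 48, 30, 30, 160] false)))) (.node (.node (.node (.leaf (.rl 7 1 [33, 44, 65, 80, 123, 152, 166] [614] [] false)) (.leaf (.rl 10 1 [22, 72, 61, 99, 122, 151, 166] [4710] [] false))) (.node (.leaf (.rl 4 2 [7, 69, 37, 96, 114, 144,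 167] [154] [48, 48, 34, 34, 154] false)) (.leaf (.rl 4 4 [3, 29, 65, 98, 115, 153, 166] [146, 5220, 5926, 5928, 5930, 6758] [64, 32, 48, 154] false)))) (.node (.node (.leaf (.rl 4 4 [14, 71, 51, 104] [146, 206, 688] [64, 32, 48, 64, 160] false)) (.leaf (.rl 5 4 [8, 30, 61, 89, 134, 167] [45, 43, 43, 45, 45, 122, 42, 44, 43, 5194, 5350] [44, 44, 94, 42, 44, 43, 95, 45, 5212] false))) (.leaf (.rl 4 4 [8, 42, 58, 81, 120, 151, 166] [160] [34, 30, 30, 150, 204, 1876] false))))) (.node (.node (.node (.node (.leaf (.rl 9 1 [16, 30, 62, 101, 121, 156] [358] [] false)) (.leaf (.rl 17 1 [6, 70, 64, 117, 151] [4454] [] false))) (.node (.leaf (.rl 4 4 [4, 32, 52, 99, 133, 166] [150, 204] [64, 48, 48, 36, 164, 484, 206, 1952] false)) (.leaf (.rl 4 4 [72, 65, 94, 124, 157, 167] [146, 207, 5734, 5926, 5928, 5088, 6494] [48, 48, 48, 146] false)))) (.node (.node (.leaf (.rl 7 1 [4, 41, 59, 80, 131, 151, 167] [1382] [] false)) (.leaf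 (.rl 5 4 [19, 45, 38, 101, 88, 169, 167] [43, 43, 45, 202, 206, 206, 4562] [44, 44, 95, 45, 5212] false))) (.leaf (.rl 4 4 [3, 42, 59, 82, 118, 143, 167] [160] [30, 30, 30, 150, 204, 460] false)))) (.node (.node (.node (.leaf (.rl 4 2 [7, 69, 59, 94, 131, 169, 166] [146] [48, 34, 48, 150, 204] false)) (.leaf (.rl 9 1 [10, 72, 56, 98, 88, 171, 167] [4966] [] false))) (.leaf (.rl 10 1 [5, 28, 97, 120, 157, 166] [2918] [] false))) (.node (.node (.leaf (.rl 4 4 [4, 27, 66, 79, 123, 171] [146] [34, 64, 48, 31, 35, 49, 50, 94, 42, 42, 45, 43, 43, 198] false)) (.leaf (.rl 5 4 [23, 45, 52, 80, 116, 169, 167] [3764, 263, 345, 5428, 5926] [42, 5236, 5926] false))) (.leaf (.rl 7 1 [21, 40, 58, 80, 131, 144] [3942] [] false)))))) (.node (.node (.node (.node (.node (.leaf (.rl 1 4 [32, 67, 97, 113, 143, 166] [40, 94, 42, 45, 222] [6, 10, 10, 8, 6, 10, 10, 6, 10, 10, 8, 40] false)) (.leaf (.rl 14 1 [9, 29, 52, 95, 124, 169, 166]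 [4326] [] false))) (.node (.leaf (.rl 7 1 [19, 32, 51, 94, 122, 144, 167] [2278] [] false)) (.leaf (.rl 4 4 [24, 32, 56, 79, 133] [146, 5498, 5926, 5930, 5090, 6374] [30, 64, 32, 31, 31, 49, 37, 622] false)))) (.node (.node (.leaf (.rl 4 4 [22, 71, 55, 103, 88, 168] [146, 782] [32, 64, 32, 34, 160] false)) (.leaf (.rl 28 0 [] [5350] [5132, 5350] true))) (.leaf (.rl 10 1 [12, 27, 101, 122, 170, 167] [3302] [] false)))) (.node (.node (.node (.leaf (.rl 4 4 [17, 55, 82, 115, 151] [31, 65, 49, 31, 70, 34, 48, 48, 160] [32, 48, 34, 30, 160] false)) (.leaf (.rl 14 1 [16, 28, 50, 91, 130, 151, 167] [4838] [] false))) (.node (.leaf (.rl 4 4 [21, 26, 56, 82, 134, 168] [154] [64, 30, 36, 31, 31, 49, 37, 622, 206, 1896] false)) (.leaf (.rl 4 4 [10, 39, 65, 104, 123, 152] [138, 184, 142, 140, 4286, 4396, 4398, 4400, 4338, 6872] [64, 36, 34, 174, 520] false)))) (.node (.node (.leaf (.rl 4 4 [14, 72, 53, 103, 123, 155, 166] [146]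 [48, 48, 36, 34, 48, 146, 1096] false)) (.leaf (.rl 5 4 [8, 26, 64, 103, 119, 155] [43, 45, 45, 43, 43, 45, 3760, 207, 207, 4518] [44, 94, 43, 43, 45, 45, 5236] false))) (.leaf (.rl 10 1 [6, 30, 38, 101, 119, 157, 167] [3814] [] false))))) (.node (.node (.node (.node (.leaf (.rl 10 1 [18, 29, 50, 80, 131, 152, 167] [486] [] false)) (.leaf (.rl 7 1 [12, 30, 65, 82, 122, 144, 167] [4582] [] false))) (.node (.leaf (.rl 7 1 [19, 69, 37, 96, 131, 155] [2534] [] false)) (.leaf (.rl 4 4 [21, 26, 37, 81, 115, 144] [146, 207, 5492, 5926, 5928, 5930, 6622] [48, 64, 34, 32, 30, 160] false)))) (.node (.node (.leaf (.rl 4 4 [11, 71, 51, 89, 112, 158, 167] [146, 207, 207, 948] [48, 64, 32, 48, 154] false)) (.leaf (.rl 5 4 [21, 29, 37, 93, 114, 144, 166] [43, 45, 43, 3148, 528, 156, 237, 453, 529, 5526] [42, 44, 44, 95, 1690] false))) (.leaf (.rl 4 4 [22, 49, 95, 130, 156, 166] [160] [48, 48, 48, 166, 208, 208, 208, 194, 208,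 168, 171, 195, 209, 209, 1780] false)))) (.node (.node (.node (.leaf (.rl 9 1 [8, 31, 58, 92, 115, 168, 167] [998] [] false)) (.leaf .dfn)) (.leaf (.rl 4 4 [33, 70, 57, 89, 114, 156, 167] [154, 528, 452, 236, 453, 157, 529, 1372] [64, 34, 49, 37, 622] false))) (.node (.node (.leaf (.rl 7 1 [12, 30, 65, 82, 117, 144, 167] [2022] [] false)) (.leaf (.rl 9 1 [19, 31, 62, 90, 117, 171, 166] [453, 528, 6114] [6114] false))) (.leaf (.rl 7 1 [17, 29, 58, 79, 88, 169, 167] [4070] [] false))))))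

def kSrc20 : Tr Src :=
  .node kSrc18 kSrc19

def kSrc21 : Tr Src :=
  .node kSrc17 kSrc20

def kSrc22 : Tr Src :=
  .node (.node (.node (.node (.node (.node (.leaf (.rl 1 2 [11, 31, 52, 90, 133, 156, 167] [14] [6, 10, 10, 8, 6, 10, 10, 6, 14] false)) (.leaf (.rl 5 4 [9, 42, 57, 89, 88, 158] [43, 43, 45, 202, 206, 206, 2138] [94, 42, 44, 42, 42, 45, 43, 43, 45, 434] false))) (.node (.leaf (.rl 7 1 [12, 29, 64, 81, 118, 156, 166] [2070] [] false)) (.leaf .dfn))) (.node (.node (.leaf (.rl 4 4 [21, 26, 53, 90, 134, 155, 167] [146, 206, 920] [32, 36, 34, 146] false)) (.leaf (.rl 4 4 [33, 70, 57, 89, 122, 171, 167] [154] [48, 32, 36, 30, 146, 207, 207, 5140] false))) (.leaf (.rl 4 4 [12, 41, 50, 102, 124, 153, 167] [154, 156, 452, 157, 237, 766] [64, 32, 48, 64, 34, 160] false)))) (.node (.node (.node (.leaf (.rl 10 1 [8, 72, 66, 99, 88, 171, 167] [534] [] false)) (.leaf (.rl 7 1 [21, 40, 55, 96, 112, 152] [4630] []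 false))) (.node (.leaf (.rl 4 4 [15, 43, 57, 98, 130, 151] [150, 204, 206, 206, 1386] [30, 48, 30, 30, 150, 204] false)) (.leaf .dfn))) (.node (.node (.leaf (.rl 4 4 [24, 29, 63, 93, 131, 169, 167] [146, 207, 666] [64, 34, 30, 30, 164, 484] false)) (.leaf (.rl 5 4 [45, 61, 95, 88, 155] [43, 45, 45, 43, 226] [42, 44, 43, 45, 45, 43, 43, 45, 3760, 5220] false))) (.leaf (.rl 4 4 [8, 43, 53, 82, 120, 151, 166] [160, 262, 344, 263, 345, 1212] [30, 48, 36, 64, 160] false))))) (.node (.node (.node (.node (.leaf (.rl 4 2 [7, 31, 37, 80, 114, 158, 166] [138] [48, 64, 32, 154] false)) (.leaf (.rl 4 4 [24, 40, 65, 80, 120, 152, 166] [138, 288, 184, 184, 288, 4288] [48, 64, 30, 64, 30, 160] false))) (.node (.leaf (.rl 9 1 [11, 29, 49, 82, 113, 155] [2326] [] false)) (.leaf .dfn))) (.node (.node (.leaf (.rl 4 4 [7, 30, 52, 104, 112, 171, 167] [146] [48, 36, 64, 30, 138, 184, 288, 184, 140, 143, 289, 143, 185, 648] false)) (.leaf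 (.rl 5 4 [10, 42, 65, 79, 116, 144, 167] [43, 43, 45, 202, 207, 4902] [94, 45, 43, 5362] false))) (.leaf (.rl 4 4 [33, 72, 59, 101, 118, 152] [160] [36, 64, 48, 34, 64, 30, 146, 2102] false)))) (.node (.node (.node (.leaf (.rl 4 4 [6, 42, 54, 79, 119, 151, 166] [31, 65, 49, 31, 70, 32, 34, 31, 31, 49, 37, 622] [36, 30, 49, 37, 622] false)) (.leaf (.rl 7 1 [21, 40, 49, 98, 113, 159, 167] [4886] [] false))) (.leaf (.rl 9 1 [14, 64, 102, 116, 152, 166] [2838] [] false))) (.node (.node (.leaf (.rl 4 4 [8, 45, 57, 93, 124, 151, 166] [146, 207, 207, 1812] [36, 48, 48, 31, 56] false)) (.leaf (.rl 5 4 [23, 69, 38, 92, 119, 144, 167] [45, 43, 124, 94, 42, 42, 95, 5392] [94, 44, 95, 5392] false))) (.leaf (.rl 7 1 [10, 70, 62, 89, 112, 167] [3862] [] false)))))) (.node (.node (.node (.node (.node (.leaf (.rl 4 1 [22, 26] [37, 65, 49, 65, 30, 36, 64, 36, 30, 150] [150] true)) (.leaf (.rl 5 4 [8, 28, 61, 91, 134, 169, 167] [43,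 95, 45, 45, 324, 207, 1832] [44, 44, 42, 42, 912] false))) (.node (.leaf (.rl 7 1 [3, 68, 59, 98, 113, 144] [2198] [] false)) (.leaf .dfn))) (.node (.node (.leaf (.rl 4 4 [20, 73, 59, 101, 133, 152, 166] [146] [64, 56, 42, 42, 44, 44, 43, 43, 45, 45, 95, 242] false)) (.leaf (.rl 26 0 [] [5270] [5124, 5270] false))) (.leaf (.rl 4 4 [8, 73, 60, 96, 130, 171, 167] [154] [48, 64, 32, 36, 154, 528, 236, 156, 529, 1580] false)))) (.node (.node (.node (.leaf (.rl 4 4 [11, 44, 64, 95, 120, 154, 166] [138, 142, 184, 142, 184, 140, 289, 143, 289, 143, 564] [34, 34, 31, 31, 49, 37, 622] false)) (.leaf (.rl 10 1 [23, 31, 38, 100, 124, 143, 167] [4758] [] false))) (.node (.leaf (.rl 4 4 [20, 73, 63, 89, 114, 169, 167] [154, 528, 156, 452, 157, 529, 2124] [64, 48, 30, 64, 160] false)) (.leaf .dfn))) (.node (.node (.leaf (.rl 4 4 [9, 46, 38, 94, 120, 157] [146] [36, 64, 48, 35, 49, 50, 94, 44, 42, 45, 43, 43, 45, 45, 122] false))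 (.leaf (.rl 5 4 [5, 26, 61, 80, 116, 156, 166] [43, 95, 45, 45, 324] [44, 44, 94, 43, 43, 95, 1690, 206, 206, 5310] false))) (.leaf (.rl 4 4 [21, 28, 65, 118, 154, 166] [160, 262, 2320] [48, 64, 36, 32, 164, 484] false))))) (.node (.node (.node (.node (.leaf (.rl 9 1 [74, 100, 118, 167] [406] [] false)) (.leaf (.rl 7 1 [33, 26, 64, 103, 113, 168] [4502] [] false))) (.node (.leaf (.rl 7 1 [33, 68, 66, 104, 113, 158] [2454] [] false)) (.leaf .dfn))) (.node (.node (.leaf (.rl 4 4 [15, 45, 58, 97, 131, 157, 166] [146] [64, 48, 34, 64, 35, 49, 35, 134, 42, 44, 42, 45, 912] false)) (.leaf (.rl 5 4 [14, 49, 90, 118, 166] [43, 45, 43, 3148, 528, 452, 237, 5364] [44, 94, 42, 44, 44, 43, 43, 45, 45, 5236] false))) (.leaf (.rl 4 4 [21, 28, 59, 81, 120, 170] [160] [36, 64, 48, 34, 34, 146, 3358] false)))) (.node (.node (.node (.leaf (.rl 7 1 [16, 63, 80, 123, 159] [918] [] false)) (.leaf (.rl 14 1 [19, 29, 60, 102, 130, 155,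 166] [5014] [] false))) (.leaf (.rl 4 4 [33, 43, 64, 96, 120, 159, 167] [154] [64, 48, 64, 36, 150, 204, 206, 2404] false))) (.node (.node (.leaf (.rl 7 1 [24, 32, 52, 92, 117, 171, 166] [1942] [] false)) (.leaf (.rl 5 4 [42, 56, 100, 134, 154] [43, 43, 45, 45, 43, 2160, 5252] [94, 44, 5196] false))) (.leaf (.rl 4 4 [21, 41, 62, 101, 131, 152] [31, 35, 49, 50, 44, 44, 42, 42, 44, 43, 43, 45, 45, 43, 3886] [30, 48, 30, 30, 146] false))))))

def kSrc23 : Tr Src :=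
  .node (.node (.node (.node (.node (.node (.leaf (.rl 1 4 [9, 71, 54, 103, 133, 158, 167] [40] [8, 6, 10, 6, 10, 10, 10, 8, 6, 28, 48, 48, 48, 36, 31, 35, 49, 50] false)) (.leaf (.rl 5 4 [4, 41, 60, 93, 131, 167] [43, 45, 43, 3148, 528, 358] [42, 44, 95, 45, 45, 272] false))) (.node (.leaf (.rl 7 1 [11, 72, 61, 80, 113, 159] [2134] [] false)) (.leaf (.rl 7 1 [6, 41, 89, 132, 152, 167] [6230] [] false)))) (.node (.node (.leaf (.rl 4 4 [7, 29, 52, 158, 166] [146, 206, 364] [36, 48, 36, 48, 166] false)) (.leaf (.rl 4 4 [8, 29, 49] [35, 49, 35, 134, 42, 44, 42, 45, 5196] [36, 64, 36, 34, 160] false))) (.leaf (.rl 9 1 [70, 54, 79, 112, 151] [3158] [] false)))) (.node (.node (.node (.leaf (.rl 4 4 [18, 29, 58, 94, 132, 144, 167] [138, 184, 288, 142, 141, 185, 185, 185, 143, 506] [64, 48, 48, 146] false)) (.leaf (.rl 9 1 [33, 44, 53, 81, 114, 169, 166] [4694] [] false))) (.node (.leaf (.rl 4 2 [11, 26, 50, 91, 122, 156]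 [154] [48, 32, 64, 35, 49, 35, 134] false)) (.leaf .dfn))) (.node (.node (.leaf (.rl 4 4 [15, 58, 95, 121, 169, 166] [146] [30, 48, 64, 160, 263, 314] false)) (.leaf (.rl 24 1 [17, 72, 64, 89, 120, 143] [5718] [] false))) (.leaf (.rl 4 4 [33, 71, 50, 80, 133, 143, 167] [160, 262, 344, 263, 345, 1024] [154] false))))) (.node (.node (.node (.node (.leaf (.rl 4 4 [5, 43, 58, 102, 120, 156] [138, 288, 288, 143, 185, 185, 143, 290] [34, 64, 30, 30, 138, 288, 184, 294] false)) (.leaf (.rl 7 1 [15, 27, 50, 95, 123, 168, 166] [4438] [] false))) (.node (.leaf (.rl 4 4 [7, 39, 52, 101, 155, 166] [150, 204, 207, 1062] [64, 34, 30, 30, 154] false)) (.leaf .dfn))) (.node (.node (.leaf (.rl 4 4 [20, 42, 54, 90, 116, 153, 166] [146] [36, 48, 48, 32, 164, 484, 207, 660] false)) (.leaf (.rl 5 4 [13, 73, 58, 101, 120, 144, 166] [43, 43, 45, 202] [42, 44, 43, 45, 45, 43, 95, 45, 102, 44, 44, 42, 42, 44, 43, 43, 45, 45, 5236] false)))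 (.leaf (.rl 10 1 [20, 26, 59, 92, 121, 151, 166] [3414] [] false)))) (.node (.node (.node (.leaf (.rl 7 1 [11, 70, 56, 92, 130, 169, 167] [854] [] false)) (.leaf (.rl 17 1 [5, 69, 59, 80, 119, 170, 166] [4950] [] false))) (.leaf (.rl 4 4 [9, 43, 100, 113, 151, 166] [154, 156, 453, 157, 2394] [48, 64, 30, 36, 30, 160] false))) (.node (.node (.leaf (.rl 4 4 [10, 30, 67, 90, 112, 158, 167] [146, 1708] [36, 34, 48, 48, 48, 146] false)) (.leaf (.rl 21 1 [73, 65, 102, 124, 156, 167] [5974] [] false))) (.leaf (.rl 7 1 [14, 64, 95, 119, 159, 167] [3926] [] false)))))) (.node (.node (.node (.node (.node (.leaf (.rl 1 4 [20, 69, 62, 97, 115, 152, 167] [28, 64, 48, 34, 64, 160] [10, 6, 8, 6, 10, 6, 10, 10, 8, 6, 8, 40] false)) (.leaf (.rl 4 4 [22, 42, 37, 98, 151, 166] [138, 184, 142, 184, 142, 184, 4288] [64, 32, 36, 48, 146] false))) (.node (.leaf (.rl 7 1 [19, 27, 56, 95, 115, 168] [2262] [] false)) (.leaf .dfn))) (.node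 (.node (.leaf (.rl 4 4 [3, 69, 38, 99, 120, 171, 167] [146] [30, 64, 30, 64, 146, 207, 207, 600] false)) (.leaf (.rl 5 4 [6, 68, 37, 95, 124, 154] [43, 43, 45, 202, 5326] [44, 44, 94, 42, 44, 43, 43, 45, 45, 5236] false))) (.leaf (.rl 7 1 [3, 40, 104, 123, 151, 166] [3286] [] false)))) (.node (.node (.node (.leaf (.rl 7 1 [9, 70, 62, 102, 123, 168] [726] [] false)) (.leaf (.rl 7 1 [20, 45, 60, 97, 122, 143, 166] [4822] [] false))) (.node (.leaf (.rl 4 4 [12, 69, 63, 99, 119, 170] [154] [64, 48, 64, 30, 30, 35, 49, 35, 134, 44, 44, 94, 43, 95, 2606] false)) (.leaf .dfn))) (.node (.node (.leaf (.rl 4 4 [9, 46, 60, 95, 116, 156, 166] [146] [30, 64, 30, 48, 31, 35, 49, 50, 42, 42, 44, 42, 95, 45, 45, 272] false)) (.leaf (.rl 5 4 [6, 39, 54, 90, 159] [43, 45, 45, 43, 43, 45, 3760, 207, 5706] [94, 42, 44, 44, 43, 43, 45, 45, 5236] false))) (.leaf (.rl 4 4 [8, 41, 37, 95, 132, 155] [160] [32, 174, 520, 184, 140, 288, 288,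 184, 141, 185, 143, 294] false))))) (.node (.node (.node (.node (.leaf (.rl 4 4 [15, 31, 66, 79, 130, 153, 166] [138, 140, 288, 140, 289, 143, 289, 143, 350] [36, 34, 48, 30, 164] false)) (.leaf (.rl 14 1 [19, 44, 53, 89, 116, 159, 167] [4566] [] false))) (.node (.leaf (.rl 4 4 [20, 30, 60, 103, 113, 154] [150, 204, 2150] [36, 34, 64, 160] false)) (.leaf .dfn))) (.node (.node (.leaf (.rl 4 4 [5, 46, 38, 98, 154] [146] [31, 65, 49, 31, 70, 64, 32, 48, 35, 49, 35, 134] false)) (.leaf (.rl 5 4 [22, 44, 58, 91, 116, 170] [43, 45, 43, 3148] [42, 44, 95, 3298, 168, 5122, 5270] false))) (.leaf (.rl 4 4 [14, 26, 66, 91, 121, 153] [160] [48, 30, 32, 35, 49, 35, 134, 44, 94, 42, 44, 44, 42, 45, 43, 43, 45, 45, 256] false)))) (.node (.node (.node (.leaf (.rl 4 4 [33, 46, 56, 82, 118, 159] [146] [48, 64, 30, 138, 142, 140, 288, 185, 289, 185, 143, 680] false)) (.leaf (.rl 12 1 [12, 29, 49] [209, 195, 209, 168, 208, 550, 170,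 5078] [5078] false))) (.leaf (.rl 9 1 [13, 39, 90, 123, 143, 167] [3030] [] false))) (.node (.node (.leaf (.rl 10 1 [20, 45, 51, 81, 122, 158, 166] [2006] [] false)) (.leaf (.rl 25 1 [15, 30, 67, 104, 117, 156] [5117, 5119, 5273, 5116, 5272, 5118, 6098] [6098] false))) (.leaf (.rl 4 4 [33, 69, 50, 103, 134, 144, 166] [31, 31, 49, 37, 622] [34, 32, 30, 150, 204, 940] false))))))

def kSrc24 : Tr Src :=
  .node kSrc22 kSrc23

def kSrc25 : Tr Src :=
  .node (.node (.node (.node (.node (.node (.leaf (.rl 1 2 [22, 43, 38, 94, 118, 159, 166] [28] [6, 10, 6, 10, 6, 10, 6, 10, 6, 8, 6, 40] false)) (.leaf (.rl 5 4 [13, 72, 58, 80, 114, 154, 167] [43, 43, 45, 202, 207, 1324] [44, 94, 42, 45, 212] false))) (.node (.leaf (.rl 7 1 [22, 60, 80, 134, 167] [2102] [] false)) (.leaf (.rl 5 1 [10, 30, 62, 92, 117, 166] [43, 44, 94, 44, 44, 43, 45, 45, 43, 95, 6198] [43, 45, 45, 43, 95, 6198] false)))) (.node (.node (.leaf (.rl 4 4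 [11, 32, 63, 94, 134, 168, 167] [146] [48, 64, 36, 30, 35, 49, 35, 134, 94, 42, 44, 43, 43, 45, 45, 178] false)) (.leaf (.rl 4 4 [4, 68, 62, 102, 88, 168, 166] [160, 263, 345, 5158] [30, 34, 32, 160, 345, 5158] false))) (.leaf (.rl 4 4 [20, 42, 57, 104, 123, 144] [154, 528, 236, 1346] [30, 64, 146] false)))) (.node (.node (.node (.leaf (.rl 4 4 [9, 71, 64, 102, 118, 144] [138, 288, 184, 288, 142, 140, 185, 289, 185, 185, 298] [64, 48, 30, 34, 146] false)) (.leaf (.rl 14 1 [7, 44, 49, 100, 123, 144, 167] [4662] [] false))) (.node (.leaf (.rl 4 4 [21, 27, 51, 116, 144, 167] [150, 204, 466] [32, 48, 34, 64, 160] false)) (.leaf .dfn))) (.node (.node (.leaf (.rl 7 1 [12, 73, 59, 113, 143] [1590] [] false)) (.leaf (.rl 5 4 [17, 28, 51, 101, 121, 171, 167] [43, 45, 45, 43, 226, 344, 262, 5156, 5350] [94, 43, 43, 45, 45, 43, 632] false))) (.leaf (.rl 10 1 [12, 74, 67, 96, 124, 168] [3638] [] false))))) (.node (.node (.node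 (.node (.leaf (.rl 12 1 [16, 46, 60, 79, 121, 158] [310] [] false)) (.leaf (.rl 14 1 [8, 30, 54, 97, 118, 153, 166] [4406] [] false))) (.node (.leaf (.rl 4 4 [17, 32, 61, 92, 120, 157, 167] [150, 204] [30, 64, 31, 35, 49, 50, 94, 44, 43, 43, 45, 1976] false)) (.leaf .dfn))) (.node (.node (.leaf (.rl 4 4 [10, 44, 56, 90, 117, 159] [146, 207, 1194] [36, 64, 48, 34, 146] false)) (.leaf (.rl 7 1 [24, 32, 52, 93, 119, 157, 166] [5430] [] false))) (.leaf (.rl 7 1 [16, 70, 66, 89, 134, 167] [3382] [] false)))) (.node (.node (.node (.leaf (.rl 4 2 [16, 74, 50, 96, 131, 168, 166] [146] [34, 64, 48, 36, 31, 31, 49, 37, 622] false)) (.leaf (.rl 14 1 [13, 72, 55, 82, 132, 166] [4918] [] false))) (.leaf (.rl 4 4 [3, 46, 56, 94, 120, 171] [154] [48, 36, 64, 146, 206, 1272] false))) (.node (.node (.leaf (.rl 4 4 [12, 26, 57, 99, 122, 158] [146] [30, 48, 64, 30, 36, 146, 1712] false)) (.leaf (.rl 23 1 [20, 70, 81, 88, 155] [5722,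 5926] [5926] false))) (.leaf (.rl 4 4 [3, 44, 64, 91, 120, 158] [164, 484, 206, 3140] [30, 48, 48, 48, 160] false)))))) (.node (.node (.node (.node (.node (.leaf (.rl 1 4 [18, 31, 64, 79] [28, 64, 30, 48, 30, 138] [10, 6, 8, 6, 10, 10, 8, 28, 30, 30, 138] true)) (.leaf .dfn)) (.node (.leaf (.rl 7 1 [13, 72, 65, 92, 132, 144] [2230] [] false)) (.leaf .dfn))) (.node (.node (.leaf (.rl 4 4 [33, 42, 53, 102, 123, 151, 167] [146, 206, 896] [48, 164, 484] false)) (.leaf (.rl 4 4 [14, 31, 59, 89, 133, 171, 167] [31, 31, 49, 37, 622] [32, 30, 64, 35, 49, 50, 42, 44, 44, 42, 95, 45, 5212] false))) (.leaf (.rl 10 1 [24, 70, 56, 92, 130, 159, 167] [3254] [] false)))) (.node (.node (.node (.leaf (.rl 4 4 [10, 29, 49, 98, 132, 171, 167] [138, 142, 184, 184, 142, 141, 185, 289, 185, 143, 680] [48, 64, 34, 34, 154] false)) (.leaf (.rl 10 1 [12, 74, 67, 101, 154, 166] [4790] [] false))) (.node (.leaf (.rl 10 1 [24, 30, 55, 103,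 114, 168] [2742] [] false)) (.leaf .dfn))) (.node (.node (.leaf (.rl 4 4 [12, 69, 59, 103, 88, 171] [146] [48, 34, 34, 138, 288, 184, 288, 141, 185, 185, 185, 143, 506] false)) (.leaf (.rl 23 1 [33, 69, 49, 90, 117, 171, 167] [5814] [] false))) (.leaf (.rl 10 1 [11, 28, 38, 93, 133, 168] [3766] [] false))))) (.node (.node (.node (.node (.leaf (.rl 4 4 [33, 29, 63, 90, 119, 154] [138, 184, 184, 184, 142, 185, 143, 185, 185, 280] [64, 48, 64, 36, 160] false)) (.leaf (.rl 7 1 [3, 72, 49, 98, 124, 154, 167] [4534] [] false))) (.node (.leaf (.rl 4 4 [24, 40, 51, 89, 116, 143] [150, 204] [48, 34, 64, 36, 35, 49, 50, 94, 42, 44, 44, 43, 43, 45, 43, 43, 658] false)) (.leaf .dfn))) (.node (.node (.leaf (.rl 4 4 [14, 46, 64, 90, 114, 144, 166] [146, 206, 568] [34, 64, 48, 34, 34, 146] false)) (.leaf (.rl 5 4 [3, 31, 52, 92, 88, 171, 167] [43, 45, 43, 3148, 157, 529, 1372] [43, 45, 5196] false))) (.leaf (.rl 4 4 [21, 98, 130,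 168] [160] [48, 30, 48, 48, 34, 160, 344, 262, 345, 263, 2130] false)))) (.node (.node (.node (.leaf (.rl 4 4 [6, 27, 58, 100, 117, 155] [146, 207, 682] [36, 48, 31, 49, 37, 622] false)) (.leaf (.rl 5 4 [17, 68, 60, 92, 120, 170, 167] [43, 43, 45, 45, 188, 528, 452, 236, 157, 237, 4364, 4396] [42, 42, 44, 44, 42, 45, 4720] false))) (.leaf (.rl 10 1 [12, 73, 64, 117, 170] [2998] [] false))) (.node (.node (.leaf (.rl 7 1 [6, 27, 66, 93, 117, 152, 166] [1974] [] false)) (.leaf (.rl 7 4 [18, 73, 50, 94, 130, 157, 166] [207, 207, 5402] [207, 207, 3448, 207, 207, 5402] false))) (.leaf (.rl 4 4 [15, 73, 51, 91, 134, 170, 166] [166] [64, 32, 30, 174, 520, 142, 184, 288, 143, 185, 185, 276] false))))))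

def kSrc26 : Tr Src :=
  .node (.node (.node (.node (.node (.node (.leaf (.rl 5 4 [11, 42, 49, 103, 114, 155] [45, 84] [44, 94, 45, 43, 114, 94, 84] false)) (.leaf (.rl 10 1 [9, 29, 54, 120, 154, 166] [4214] [] false))) (.node (.leaf (.rl 7 1 [13, 41, 51, 97, 122, 159] [2166] [] false)) (.leaf (.rl 5 4 [15, 43, 56, 102, 130, 152, 167] [95, 1104, 528, 6246] [44, 43, 95, 45, 5212, 5926] false)))) (.node (.node (.leaf (.rl 4 4 [4, 27, 58, 93, 133, 159, 167] [146, 207, 207, 1036] [34, 32, 64, 32, 160] false)) (.leaf (.rl 5 1 [9, 30, 64, 79] [43, 44, 94, 44, 44, 45, 45, 43, 5238] [45, 45, 43, 5238] false))) (.leaf (.rl 7 1 [12, 45, 61, 96, 119, 156, 166] [3190] [] false)))) (.node (.node (.node (.leaf (.rl 7 1 [33, 39, 51, 132, 156, 167] [630] [] false)) (.leaf (.rl 14 1 [14, 74, 59, 101, 130, 157, 167] [4726] [] false))) (.node (.leaf (.rl 4 4 [19, 73, 63, 95, 134, 171] [154] [48, 64, 49, 37, 622, 1364] false)) (.leaf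 .dfn))) (.node (.node (.leaf (.rl 7 1 [3, 30, 61, 102, 121, 170, 166] [1654] [] false)) (.leaf (.rl 5 4 [19, 29, 38, 91, 112, 158] [43, 45, 43, 43, 80, 44, 94, 43, 45, 45, 5458] [44, 44, 43, 43, 45, 45, 5236] false))) (.leaf (.rl 4 4 [69, 52, 99, 134, 151, 167] [160, 345, 2144] [48, 36, 64, 32, 35, 49, 35, 134] false))))) (.node (.node (.node (.node (.leaf (.rl 4 4 [33, 44, 51, 91, 134, 143, 166] [138, 184, 288, 288, 140, 289, 143, 289, 143, 350] [64, 34, 48, 30, 160] false)) (.leaf (.rl 14 1 [14, 40, 66, 89, 133, 168] [4470] [] false))) (.node (.leaf (.rl 4 4 [18, 45, 65, 82, 114, 155] [150, 204] [36, 64, 48, 166, 170, 169, 209, 2270] false)) (.leaf .dfn))) (.node (.node (.leaf (.rl 4 4 [39, 65, 102, 130, 156, 167] [146] [34, 30, 48, 34, 150, 204, 207, 207, 1264] false)) (.leaf (.rl 10 1 [45, 65, 81, 118, 169, 167] [5494] [] false))) (.leaf (.rl 4 4 [11, 73, 38, 82, 122, 152] [160, 345, 2998] [48, 36, 34, 64, 30,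 146] false)))) (.node (.node (.node (.leaf (.rl 4 2 [14, 69, 54, 94, 121, 171] [146] [34, 48, 48, 36, 164, 484] false)) (.leaf (.rl 5 4 [8, 41, 64, 102, 123, 169, 167] [43, 45, 45, 43, 226] [770, 206, 4332, 4396] false))) (.leaf (.rl 5 1 [14, 31, 60, 89, 88, 157, 167] [2934] [] false))) (.node (.node (.leaf (.rl 7 1 [4, 42, 57, 79, 133, 143] [1910] [] false)) (.leaf (.rl 5 4 [10, 45, 52, 102, 131, 171, 167] [43, 43, 45, 45, 5236, 5926] [44, 43, 95, 1498, 5290] false))) (.leaf (.rl 10 1 [21, 74, 99, 114, 166] [3958] [] false)))))) (.node (.node (.node (.node (.node (.leaf (.rl 5 1 [5, 31, 56, 100, 120, 151, 167] [246] [] false)) (.leaf (.rl 5 1 [5, 32, 55, 82, 115, 151] [95, 44, 42, 42, 43, 45, 95, 4342] [43, 45, 95, 4342] false))) (.node (.leaf (.rl 7 1 [21, 72, 56, 80, 124, 171, 166] [2294] [] false)) (.leaf .dfn))) (.node (.node (.leaf (.rl 4 4 [8, 30, 61, 79, 134, 167] [146] [164, 484, 206, 994] false)) (.leaf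 (.rl 23 1 [11, 30, 96, 117, 155, 167] [5366] [] false))) (.leaf (.rl 10 1 [20, 27, 66, 82, 116, 153, 166] [3318] [] false)))) (.node (.node (.node (.leaf (.rl 4 4 [13, 39, 37, 101, 131, 154, 166] [31, 65, 49, 31, 70, 64, 34, 48, 64, 32, 146] [34, 64, 48, 34, 146] false)) (.leaf (.rl 7 1 [22, 46, 50, 103, 119, 168] [4854] [] false))) (.node (.leaf (.rl 4 4 [6, 32, 49, 93, 117, 151, 167] [154] [36, 64, 30, 30, 138, 184, 288, 140, 143, 289, 143, 350] false)) (.leaf .dfn))) (.node (.node (.leaf (.rl 4 4 [24, 71, 57, 96, 124, 158] [146] [32, 48, 48, 30, 154, 156, 452, 237, 529, 1514] false)) (.leaf (.rl 5 4 [10, 68, 98, 157, 167] [45, 43, 43, 45, 1976] [324, 206, 5348] false))) (.leaf (.rl 10 1 [21, 73, 52, 98, 121] [3830] [] false))))) (.node (.node (.node (.node (.leaf (.rl 7 1 [3, 42, 52, 97, 116, 157, 166] [502] [] false)) (.leaf (.rl 7 1 [16, 26, 61, 89, 120, 168, 167] [4598] [] false))) (.node (.leaf (.rl 4 4 [17,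 39, 65, 103, 122] [150, 204] [34, 32, 30, 166, 194, 168, 171, 209, 195, 551, 209, 169, 195, 516] false)) (.leaf .dfn))) (.node (.node (.leaf (.rl 4 4 [13, 68, 63, 100, 133, 155, 167] [146] [32, 64, 48, 32, 35, 49, 35, 134, 44, 94, 42, 44, 44, 43, 45, 43, 43, 904] false)) (.leaf (.rl 5 4 [32, 132, 155] [43, 45, 45, 43, 226] [44, 44, 94, 42, 45, 45, 43, 95, 3686, 5328, 5350] false))) (.leaf (.rl 10 1 [11, 26, 58, 95, 134, 155] [3574] [] false)))) (.node (.node (.node (.leaf (.rl 4 4 [27, 50, 91, 122, 152, 167] [146] [48, 34, 64, 48, 34, 30, 160, 472, 484] false)) (.leaf .dfn)) (.leaf (.rl 9 1 [15, 70, 57, 90, 133, 168] [3062] [] false))) (.node (.node (.leaf (.rl 10 1 [13, 44, 65, 80, 117, 153, 167] [2038] [] false)) (.leaf (.rl 7 4 [7, 70, 61, 81, 115, 156] [5312, 5350] [207, 207, 2654, 6114] false))) (.leaf (.rl 7 1 [20, 72, 61, 103, 133, 171, 167] [4086] [] false))))))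

def kSrc27 : Tr Src :=
  .node kSrc25 kSrc26

def kSrc28 : Tr Src :=
  .node kSrc24 kSrc27

def kSrc29 : Tr Src :=
  .node kSrc21 kSrc28

def kSrc30 : Tr Src :=
  .node kSrc14 kSrc29

def kSrc31 : Tr Src :=
  .node (.node (.node (.node (.node (.node (.leaf .dfn) (.leaf (.rl 5 4 [13, 73, 66, 89, 122, 154] [43, 43, 45, 202, 206, 2858] [45, 43, 43, 45, 1290] false))) (.node (.leaf (.rl 4 4 [5, 46, 58, 91, 133, 171] [146] [48, 36, 34, 48, 48, 160, 262, 345, 1370] false)) (.leaf (.rl 9 4 [11, 68, 54, 89, 134, 143, 166] [2956, 6114] [6114] false)))) (.node (.node (.leaf (.rl 4 4 [5, 71, 60, 90, 114, 169, 167] [146, 724] [36, 34, 64, 32, 154] false)) (.leaf (.rl 12 1 [19, 31, 50, 91, 113, 154, 167] [169, 551, 170, 550, 170, 5122] [5122] false))) (.leaf (.rl 7 1 [6, 52, 81, 169] [3074] [] false)))) (.node (.node (.node (.leaf (.rl 7 1 [33, 40, 64, 97, 123, 158, 167] [514] [] false)) (.leaf (.rl 14 1 [12, 40, 62, 93, 120,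 144] [4610] [] false))) (.node (.leaf (.rl 7 1 [15, 45, 61, 80, 118, 155, 166] [2562] [] false)) (.leaf .dfn))) (.node (.node (.leaf (.rl 7 1 [14, 39, 52, 94, 124, 170] [1538] [] false)) (.leaf (.rl 5 4 [5, 26, 58, 81, 132, 143, 167] [43, 45, 45, 43, 226, 262, 344, 263, 5354] [44, 42, 42, 44, 43, 45, 5196] false))) (.leaf (.rl 4 4 [18, 43, 63, 92, 119, 153, 167] [160] [64, 34, 34, 146, 206, 206, 2476] false))))) (.node (.node (.node (.node (.leaf (.rl 10 1 [12, 26, 53, 101, 132, 157, 167] [258] [] false)) (.leaf (.rl 16 1 [10, 72, 56, 101, 114, 143, 166] [4354] [] false))) (.node (.leaf (.rl 7 1 [6, 46, 38, 121, 169, 166] [2306] [] false)) (.leaf .dfn))) (.node (.node (.leaf (.rl 4 4 [17, 31, 49, 98, 134, 169, 166] [146] [36, 64, 48, 34, 34, 146, 206, 690] false)) (.leaf (.rl 5 4 [9, 31, 52, 89, 113, 155, 166] [43, 43, 45, 202, 1026] [44, 44, 42, 95, 45, 5212] false))) (.leaf (.rl 4 4 [33, 28, 64, 102, 168, 166]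 [160, 2900] [48, 48, 34, 166] false)))) (.node (.node (.node (.leaf (.rl 4 4 [23, 28, 51, 89, 118, 143, 167] [31, 65, 49, 31, 70, 48, 64, 30, 30, 150, 204] [34, 64, 150, 204] false)) (.leaf (.rl 7 1 [22, 73, 37, 103, 112, 156] [4866] [] false))) (.leaf (.rl 4 4 [17, 31, 62, 93, 124, 167] [154] [36, 64, 48, 34, 34, 146, 206, 660] false))) (.node (.node (.leaf (.rl 4 4 [7, 69, 65, 92, 113, 153, 167] [146] [34, 34, 138, 288, 288, 184, 142, 289, 143, 652] false)) (.leaf (.rl 5 4 [20, 32, 58, 82, 122, 153, 166] [43, 43, 45, 45, 188, 529, 5592] [94, 42, 44, 42, 95, 5392] false))) (.leaf (.rl 4 4 [11, 27, 103, 133, 159] [160] [30, 48, 30, 30, 164, 484, 207, 950] false)))))) (.node (.node (.node (.node (.node (.leaf (.rl 5 1 [8, 27, 60, 90, 120, 159] [130] [] false)) (.leaf (.rl 5 4 [18, 27, 52, 100, 113, 158, 166] [43, 45, 45, 43, 226] [94, 43, 95, 45, 45, 556, 207, 3644] false))) (.node (.leaf (.rl 7 1 [17, 32, 57, 80,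 118, 144] [2178] [] false)) (.leaf (.rl 7 4 [13, 30, 63, 93, 132, 157, 166] [808, 6256] [6256] false)))) (.node (.node (.leaf (.rl 4 4 [16, 28, 38, 100, 130, 171, 166] [146] [48, 64, 36, 30, 32, 160, 344, 262, 345, 263, 472, 484] false)) (.leaf (.rl 21 1 [10, 31, 38, 92, 122, 152, 166] [5250] [] false))) (.leaf (.rl 9 1 [9, 43, 60, 101, 112, 169, 166] [3202] [] false)))) (.node (.node (.node (.leaf (.rl 4 4 [21, 42, 57, 99, 131, 153, 167] [138, 142, 184, 142, 185, 185, 143, 506] [64, 30, 48, 32, 31, 31, 49, 37, 622] false)) (.leaf (.rl 10 1 [14, 41, 49, 93, 153, 167] [4738] [] false))) (.node (.leaf (.rl 4 4 [27, 57, 92, 124, 151, 167] [154, 452, 156, 237, 453, 529, 1592] [48, 36, 48, 160] false)) (.leaf .dfn))) (.node (.node (.leaf (.rl 4 4 [20, 28, 62, 80, 131, 155] [146, 207, 784] [36, 32, 48, 48, 160] false)) (.leaf (.rl 5 4 [20, 29, 61, 89, 170, 166] [43, 45, 43, 43, 80, 44, 43, 45, 45, 5236] [42, 42, 44, 43,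 45, 95, 4342, 4396] false))) (.leaf (.rl 7 1 [13, 46, 65, 95, 132, 169, 167] [3714] [] false))))) (.node (.node (.node (.node (.leaf (.rl 9 1 [39, 65, 101, 118, 159] [386] [] false)) (.leaf (.rl 7 1 [39, 52, 91, 120, 171] [4482] [] false))) (.node (.leaf (.rl 4 4 [3, 74, 64, 93, 134, 143] [150, 204, 1018] [32, 64, 48, 64, 30, 154] false)) (.leaf .dfn))) (.node (.node (.leaf (.rl 7 1 [7, 40, 59, 79, 122, 151, 166] [1410] [] false)) (.leaf (.rl 23 1 [13, 39, 65, 82, 118, 157] [5506] [] false))) (.leaf (.rl 10 1 [24, 40, 58, 99, 124, 144, 166] [3458] [] false)))) (.node (.node (.node (.leaf (.rl 4 2 [5, 41, 54, 104, 114] [146] [34, 34, 32, 146] false)) (.leaf (.rl 10 1 [8, 26, 57, 96, 119, 154] [4994] [] false))) (.leaf (.rl 4 4 [6, 32, 49, 93, 119, 168, 167] [154, 236, 529, 2438] [64, 34, 64, 36, 34, 160] false))) (.node (.node (.leaf (.rl 7 1 [22, 28, 55, 81, 88, 151, 166] [1922] [] false)) (.leaf (.rl 5 4 [73, 37,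 102, 134] [43, 5194, 5350] [44, 44, 42, 3706, 3186, 208, 208, 5128] true))) (.leaf (.rl 4 4 [19, 29, 63, 82, 131, 159, 166] [164, 484] [34, 64, 48, 30, 34, 138, 184, 141, 143, 185, 185, 143, 402] false))))))

def kSrc32 : Tr Src :=
  .node (.node (.node (.node (.node (.node (.leaf (.rl 1 4 [8, 45, 52, 114, 169, 166] [28, 48, 64, 36, 32, 35, 49, 50] [6, 10, 10, 8, 6, 10, 10, 6, 40] false)) (.leaf (.rl 5 4 [22, 71, 37, 79, 113, 153, 167] [43, 43, 45, 202, 207, 1098] [44, 44, 42, 45, 45, 43, 226] false))) (.node (.leaf (.rl 7 1 [6, 32, 94, 113, 152] [2114] [] false)) (.leaf (.rl 5 4 [4, 73, 38, 99, 130, 171, 166] [43, 43, 45, 202, 206, 5290, 5082, 5188, 5080, 5188, 6168] [94, 43, 95, 6198] true)))) (.node (.node (.leaf (.rl 7 1 [5, 70, 37, 90, 117, 151, 167] [1090] [] false)) (.leaf (.rl 10 1 [22, 63, 96, 131, 143] [344, 263, 345, 5186] [263, 345, 5186] false))) (.leaf (.rl 10 1 [19, 32, 54, 99, 120, 154, 166] [3138]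 [] false)))) (.node (.node (.node (.leaf (.rl 4 4 [16, 70, 67, 80, 113, 152] [138, 288, 142, 288, 288, 142, 289, 143, 289, 143, 350] [154] false)) (.leaf (.rl 9 1 [17, 74, 56, 91, 131, 151, 167] [4674] [] false))) (.node (.leaf (.rl 4 4 [4, 41, 51, 96, 166] [150, 204] [64, 48, 64, 36, 32, 160, 262, 1232] false)) (.leaf .dfn))) (.node (.node (.leaf (.rl 4 4 [21, 73, 59, 96, 88, 169] [146, 206, 206, 976] [48, 48, 34, 30, 160] false)) (.leaf (.rl 5 4 [20, 37, 102, 131, 159] [43, 45, 45, 43, 226, 345, 263, 2176] [5362] false))) (.leaf (.rl 4 4 [18, 26, 63, 103, 134, 169] [160, 262, 345, 3540] [48, 36, 30, 160] false))))) (.node (.node (.node (.node (.leaf (.rl 7 1 [18, 71, 37, 82, 144, 166] [322] [] false)) (.leaf (.rl 14 1 [19, 70, 67, 104, 122, 168, 167] [4418] [] false))) (.node (.leaf (.rl 4 4 [15, 40, 59, 96, 113, 155, 166] [150, 204] [48, 36, 64, 160, 263, 345, 510] false)) (.leaf .dfn))) (.node (.node (.leaf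 (.rl 9 1 [23, 30, 58, 96, 88, 169] [1346] [] false)) (.leaf (.rl 5 4 [17, 69, 49, 79, 116, 154] [43, 43, 45, 202, 5372] [94, 43, 45, 5196] false))) (.leaf (.rl 10 1 [22, 45, 63, 94, 134, 154, 167] [3394] [] false)))) (.node (.node (.node (.leaf (.rl 4 2 [12, 74, 62, 102, 118, 159, 166] [146] [48, 48, 48, 154] false)) (.leaf (.rl 7 1 [7, 71, 66, 94, 124, 166] [4930] [] false))) (.leaf (.rl 10 1 [23, 45, 67, 89, 113, 144] [2882] [] false))) (.node (.node (.leaf (.rl 4 4 [33, 70, 57, 89, 131, 170, 166] [146] [48, 48, 34, 48, 35, 49, 50, 44, 44, 42, 42, 44, 43, 43, 45, 43, 43, 904] false)) (.leaf (.rl 23 1 [13, 71, 54, 95, 121, 168] [5762, 5926] [5926] false))) (.leaf (.rl 4 4 [14, 68, 66, 98, 113, 169, 167] [164, 484] [64, 36, 48, 154, 156, 529, 2942] false)))))) (.node (.node (.node (.node (.node (.leaf (.rl 1 4 [39, 91, 113, 143] [28, 48, 36, 48, 48, 32, 154] [10, 6, 8, 6, 10, 6, 10, 10, 10, 6, 40] false)) (.leaf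 .dfn)) (.node (.leaf (.rl 10 1 [15, 30, 60, 101, 130, 158] [2242] [] false)) (.leaf .dfn))) (.node (.node (.leaf (.rl 7 1 [8, 63, 99, 119, 159, 167] [1218] [] false)) (.leaf (.rl 4 4 [12, 30, 54, 82, 116, 144, 166] [31, 31, 49, 37, 622] [34, 64, 30, 146, 5310] false))) (.leaf (.rl 10 1 [24, 30, 57, 101, 114, 170, 167] [3266] [] false)))) (.node (.node (.node (.leaf (.rl 7 1 [4, 29, 50, 94, 117, 152, 166] [706] [] false)) (.leaf (.rl 10 1 [19, 31, 51, 101, 130, 155] [4802] [] false))) (.node (.leaf (.rl 10 1 [23, 74, 49, 91, 131, 171, 166] [2754] [] false)) (.leaf (.rl 4 4 [4, 70, 66, 81, 134] [160, 262, 344, 5472, 5926, 5930, 5090, 5088, 6844] [64, 30, 32, 48, 160] false)))) (.node (.node (.leaf (.rl 4 4 [14, 32, 60, 81, 130, 156, 166] [146, 206, 664] [48, 64, 34, 32, 160] false)) (.leaf (.rl 5 4 [10, 32, 62, 103, 115, 144] [45, 95, 3024, 157, 237, 529, 5426] [5362] false))) (.leaf (.rl 4 4 [3, 68, 61, 81, 115,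 153] [160] [34, 30, 174, 520, 142, 288, 288, 184, 141, 185, 143, 294] false))))) (.node (.node (.node (.node (.leaf (.rl 4 4 [24, 39, 56, 101, 113, 171] [138, 140, 288, 142, 185, 143, 185, 185, 280] [48, 48, 36, 30, 146, 207, 388] true)) (.leaf (.rl 14 1 [19, 73, 67, 94, 134, 143, 166] [4546] [] false))) (.node (.leaf (.rl 4 4 [4, 43, 65, 92, 117, 159] [150, 204, 854] [30, 48, 32, 154] false)) (.leaf .dfn))) (.node (.node (.leaf (.rl 4 4 [18, 69, 56, 90, 134, 151, 166] [146] [36, 64, 31, 49, 37, 622, 207, 207, 684] false)) (.leaf (.rl 5 4 [9, 26, 50, 80, 155, 167] [43, 45, 43, 3148] [44, 44, 43, 43, 45, 45, 43, 632, 207, 5332] false))) (.leaf (.rl 4 4 [12, 32, 38, 97, 119, 166] [160, 262, 344, 2810] [32, 30, 146] false)))) (.node (.node (.node (.leaf (.rl 4 4 [22, 32, 66, 91, 134, 156, 167] [146, 206, 362] [48, 30, 48, 30, 154] false)) (.leaf (.rl 5 4 [16, 30, 59, 88, 167] [45, 43, 95, 45, 45, 556, 207, 4494] [42,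 42, 44, 43, 43, 45, 45, 95, 4556] false))) (.leaf (.rl 9 1 [11, 32, 50, 79, 115, 152, 167] [3010] [] false))) (.node (.node (.leaf (.rl 7 1 [18, 41, 54, 95, 88, 154, 167] [1986] [] false)) (.leaf .dfn)) (.leaf (.rl 7 1 [19, 28, 54, 88, 169, 166] [4034] [] false))))))

def kSrc33 : Tr Src :=
  .node kSrc31 kSrc32

def kSrc34 : Tr Src :=
  .node (.node (.node (.node (.node (.node (.leaf (.rl 1 1 [21, 26] [11, 7, 11, 11, 11, 7, 11, 7, 11, 6, 10, 6, 10, 6, 10, 10, 10, 6, 10, 28] [28] false)) (.leaf (.rl 5 4 [6, 71, 56, 81, 131, 156, 166] [43, 43, 45, 202] [94, 42, 44, 44, 43, 45, 43, 95, 588, 345, 3958] false))) (.node (.leaf (.rl 7 1 [21, 45, 50, 96, 132, 154] [2082] [] false)) (.leaf (.rl 21 1 [9, 31, 55, 82, 115, 151] [5081, 5188, 5082, 5080, 6176] [6176] true)))) (.node (.node (.leaf (.rl 4 4 [11, 74, 57, 98, 118, 158] [146] [30, 64, 48, 56, 44, 44, 94, 42, 45, 43, 43, 45, 434] false)) (.leaf (.rl 28 1 [11, 43,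 64, 101, 143, 166] [5154] [] false))) (.leaf (.rl 4 4 [10, 74, 64, 79, 134, 143] [154] [48, 30, 64, 166, 550, 169, 171, 195, 209, 504] false)))) (.node (.node (.node (.leaf (.rl 4 4 [28, 64, 100, 114, 152] [138, 184, 288, 140, 288, 141, 143, 185, 185, 143, 290] [34, 64, 30, 166] false)) (.leaf (.rl 14 1 [14, 43, 67, 89, 132, 144, 166] [4642] [] false))) (.node (.leaf (.rl 4 4 [11, 42, 50, 96, 112, 156, 167] [150, 204, 206, 1962] [30, 32, 64, 48, 32, 146] false)) (.leaf .dfn))) (.node (.node (.leaf (.rl 4 4 [21, 26, 62, 101, 119, 151, 166] [146, 207, 1380] [30, 34, 154] false)) (.leaf (.rl 23 1 [13, 46, 64, 100, 114, 158] [5666] [] false))) (.leaf (.rl 4 4 [3, 31, 58, 92, 122, 155, 166] [160, 2390] [30, 32, 64, 48, 146] false))))) (.node (.node (.node (.node (.leaf (.rl 6 1 [21, 26, 51, 101, 118, 144, 166] [290] [] false)) (.leaf (.rl 4 4 [11, 27, 66, 96, 116, 155, 167] [138, 142, 288, 288, 184, 140, 4288] [30, 30,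 30, 164, 484] false))) (.node (.leaf (.rl 7 1 [21, 44, 67, 99, 121, 166] [2338] [] false)) (.leaf .dfn))) (.node (.node (.leaf (.rl 4 4 [18, 74, 55, 104, 131, 152, 166] [146] [48, 48, 48, 30, 166, 550, 208, 170, 195, 209, 551, 686] false)) (.leaf (.rl 7 1 [17, 44, 55, 89, 117, 155] [5410] [] false))) (.leaf (.rl 4 4 [19, 72, 67, 98, 117, 168, 167] [160] [48, 30, 36, 30, 160, 263, 345, 263, 962] false)))) (.node (.node (.node (.leaf (.rl 4 4 [7, 58, 94, 124, 156, 167] [31, 65, 49, 31, 70, 48, 64, 30, 36, 30, 146] [30, 32, 34, 150, 204] false)) (.leaf (.rl 14 1 [20, 29, 59, 96, 121, 169, 167] [4898] [] false))) (.leaf (.rl 9 1 [24, 42, 38, 103, 121, 170] [2850] [] false))) (.node (.node (.leaf (.rl 4 4 [23, 27, 63, 99, 120, 155, 166] [146] [32, 64, 146, 1338] false)) (.leaf (.rl 25 1 [16, 30, 37, 93, 113, 168, 166] [5922] [] false))) (.leaf (.rl 10 1 [17, 68, 98, 115, 152, 166] [3874] [] false)))))) (.node (.node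 (.node (.node (.node (.leaf .dfn) (.leaf (.rl 5 4 [18, 46, 62, 97, 122, 170] [45, 43, 43, 45, 1976] [44, 44, 94, 43, 43, 45, 45, 95, 242, 207, 207, 3470] false))) (.node (.leaf (.rl 7 1 [14, 49, 80, 118, 152] [2210] [] false)) (.leaf .dfn))) (.node (.node (.leaf (.rl 4 4 [33, 30, 54, 100, 122, 144, 166] [146] [30, 64, 30, 48, 138, 288, 288, 184, 184, 140, 289, 143, 289, 143, 350] false)) (.leaf (.rl 4 4 [24, 71, 63, 80, 112, 171] [31, 56, 42, 44, 43, 43, 45, 45, 5236] [30, 48, 48, 48, 146] false))) (.leaf (.rl 4 4 [21, 29, 63, 93, 124, 170, 166] [37, 49, 49, 49, 60, 48, 64, 36, 48, 30, 160] [48, 32, 48, 48, 160] false)))) (.node (.node (.node (.leaf (.rl 7 1 [13, 74, 37, 102, 115, 156, 167] [674] [] false)) (.leaf (.rl 10 1 [17, 46, 53, 80, 118, 144, 167] [4770] [] false))) (.node (.leaf (.rl 9 1 [13, 43, 50, 117, 155, 166] [2722] [] false)) (.leaf .dfn))) (.node (.node (.leaf (.rl 4 4 [24, 44, 50, 91, 123, 156]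 [146] [48, 64, 48, 32, 174, 520, 184, 288, 184, 289, 289, 143, 652] false)) (.leaf (.rl 7 1 [15, 74, 50, 104, 112, 159, 166] [5794] [] false))) (.leaf (.rl 4 4 [30, 62, 103, 157] [160] [64, 32, 36, 30, 30, 160, 3516] false))))) (.node (.node (.node (.node (.leaf (.rl 4 4 [4, 45, 58, 102, 120, 152, 166] [138, 288, 142, 288, 142, 141, 185, 143, 185, 185, 280] [48, 64, 30, 36, 154] false)) (.leaf (.rl 7 1 [19, 30, 52, 93, 119, 169] [4514] [] false))) (.node (.leaf (.rl 4 4 [18, 37, 104, 117, 155, 166] [150, 204, 1654] [30, 48, 64, 48, 160] false)) (.leaf .dfn))) (.node (.node (.leaf (.rl 4 4 [4, 74, 54, 82, 117, 171, 167] [146] [64, 30, 32, 174, 520, 184, 184, 288, 142, 141, 143, 185, 185, 143, 402] false)) (.leaf (.rl 5 4 [33, 72, 37, 94, 117, 167] [43, 45, 43, 3148, 156, 452, 157, 529, 5224] [42, 95, 45, 45, 250] false))) (.leaf (.rl 4 4 [18, 43, 99, 123, 151, 167] [160] [36, 64, 35, 49, 35, 134, 94, 42, 45, 45,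 43, 2996] false)))) (.node (.node (.node (.leaf (.rl 4 2 [14, 26, 62, 80, 88, 152] [146] [64, 48, 32, 34, 64, 160] false)) (.leaf (.rl 14 1 [12, 27, 37, 96, 133, 143, 166] [5026] [] false))) (.leaf (.rl 9 1 [20, 42, 52, 82, 120, 157, 166] [2978] [] false))) (.node (.node (.leaf (.rl 7 1 [22, 46, 55, 92, 152] [1954] [] false)) (.leaf (.rl 5 4 [19, 45, 60, 91, 120, 153, 167] [43, 45, 45, 95, 1216, 206, 5190] [94, 42, 44, 43, 45, 5196] false))) (.leaf (.rl 4 4 [12, 70, 37, 92, 117, 157, 166] [35, 49, 35, 134, 94, 42, 45, 912] [36, 34, 32, 30, 150, 204] false))))))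

def kSrc35 : Tr Src :=
  .node (.node (.node (.node (.node (.node (.leaf (.rl 4 4 [15, 41, 63, 82, 119, 170] [31, 35, 49, 50, 44, 94, 43, 45, 43, 43, 90] [48, 64, 30, 35, 49, 50] false)) (.leaf (.rl 5 4 [5, 32, 58, 103, 112, 169, 167] [43, 45, 43, 3148, 452, 237, 453, 529, 2912] [42, 95, 2934] false))) (.node (.leaf (.rl 7 1 [21, 29, 93, 121, 168, 167] [2146] [] false)) (.leaf (.rl 5 4 [20, 27, 57, 96, 134, 159] [1818, 207, 6218] [94, 42, 45, 43, 95, 6198] false)))) (.node (.node (.leaf (.rl 4 4 [4, 27, 66, 97, 134, 154] [146, 602] [34, 64, 48, 36, 154] false)) (.leaf (.rl 23 1 [5, 68, 62, 89, 124, 158, 166] [5218] [] false))) (.leaf (.rl 4 4 [33, 70, 57, 89, 112, 156, 167] [154, 452, 236, 157, 453, 698] [30, 64, 48, 36, 160] false)))) (.node (.node (.node (.leaf (.rl 9 1 [12, 62, 98, 123, 151, 166] [610] [] false)) (.leaf (.rl 10 1 [16, 40, 52, 90, 117, 143, 166] [4706] [] false))) (.node (.leaf (.rl 9 1 [21,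 32, 55, 101, 124, 152, 166] [2658] [] false)) (.leaf .dfn))) (.node (.node (.leaf (.rl 7 1 [15, 70, 65, 80, 123, 143] [1634] [] false)) (.leaf (.rl 5 4 [19, 31, 57, 100, 112, 171, 166] [45, 43, 43, 45, 45, 122, 45, 45, 43, 5238] [44, 44, 94, 42, 95, 2606] false))) (.leaf (.rl 4 4 [10, 69, 50, 102, 118, 171] [160, 345, 1344] [36, 30, 35, 49, 50] false))))) (.node (.node (.node (.node (.leaf (.rl 10 1 [8, 30, 38, 97, 116, 155] [354] [] false)) (.leaf (.rl 7 1 [16, 43, 64, 101, 116, 167] [4450] [] false))) (.node (.leaf (.rl 4 4 [5, 30, 57, 79, 131, 144, 166] [150, 204] [48, 30, 32, 154, 236, 453, 157, 529, 1372] false)) (.leaf .dfn))) (.node (.node (.leaf (.rl 10 1 [20, 31, 63, 90, 120, 170, 166] [1378] [] false)) (.leaf (.rl 10 1 [20, 73, 59, 122, 154, 167] [5474] [] false))) (.leaf (.rl 4 4 [11, 42, 65, 93, 133, 154] [160] [48, 30, 64, 35, 49, 35, 134, 43, 43, 45, 45, 256] false)))) (.node (.node (.node (.leaf (.rl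 4 2 [33, 72, 65, 99, 122, 169, 166] [146] [32, 48, 64, 36, 32, 160] false)) (.leaf (.rl 14 1 [23, 28, 59, 102, 117, 155, 166] [4962] [] false))) (.leaf (.rl 9 1 [10, 71, 38, 82, 119, 169, 167] [2914] [] false))) (.node (.node (.leaf (.rl 4 4 [20, 72, 63, 89, 131, 169] [146] [32, 31, 35, 49, 50, 94, 44, 44, 43, 95, 218] false)) (.leaf (.rl 5 4 [15, 27, 64, 99, 115, 154, 167] [3764, 262, 344, 262, 345, 263, 5228, 5350] [94, 42, 44, 42, 95, 5392] false))) (.leaf (.rl 4 4 [11, 40, 103, 130, 151, 166] [164, 484] [48, 36, 30, 30, 138, 184, 288, 288, 184, 289, 289, 143, 652] false)))))) (.node (.node (.node (.node (.node (.leaf (.rl 1 4 [23, 38, 101, 122, 152] [40] [8, 6, 10, 6, 10, 6, 10, 6, 10, 10, 10, 28, 48, 30, 30, 166] false)) (.leaf (.rl 17 1 [23, 28, 49, 103, 132, 157, 166] [4322] [] false))) (.node (.leaf (.rl 7 1 [14, 70, 55, 102, 117, 159, 166] [2274] [] false)) (.leaf .dfn))) (.node (.node (.leaf (.rl 4 4 [19,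 31, 58, 103, 131, 157] [146] [30, 48, 64, 30, 36, 31, 35, 49, 50, 42, 44, 44, 42, 45, 45, 43, 95, 1134] false)) (.leaf (.rl 23 1 [18, 69, 58, 79, 134, 156, 167] [5346] [] false))) (.leaf (.rl 5 1 [14, 70, 52, 80, 123, 171] [3298] [] false)))) (.node (.node (.node (.leaf (.rl 4 4 [16, 45, 63, 96, 130, 171] [31, 65, 49, 31, 70, 48, 32, 36, 154] [48, 36, 30, 32, 160] false)) (.leaf (.rl 14 1 [3, 72, 49, 91, 118, 155, 166] [4834] [] false))) (.node (.leaf (.rl 4 4 [20, 42, 54, 89, 121, 170] [154, 237, 1668] [48, 64, 32, 36, 160] false)) (.leaf (.rl 4 4 [6, 31, 53, 102, 121, 159, 167] [138, 184, 184, 184, 4286, 4396, 4398, 4400, 6868] [48, 36, 64, 48, 30, 146] false)))) (.node (.node (.leaf (.rl 4 4 [11, 39, 37, 79, 118, 158, 166] [146] [34, 48, 64, 48, 30, 160, 344, 262, 345, 1370] false)) (.leaf (.rl 5 4 [15, 29, 52, 100, 115, 154, 167] [43, 45, 45, 43, 43, 45, 3760, 207, 2530] [5194, 5350] false))) (.leaf (.rl 4 4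 [19, 30, 56, 90, 133, 159, 167] [160, 344, 262, 345, 263, 2164] [31, 49, 37, 622] false))))) (.node (.node (.node (.node (.leaf (.rl 4 4 [29, 53, 104, 122, 158] [138, 288, 184, 288, 143, 185, 185, 143, 402, 412] [32, 64, 32, 34, 164] true)) (.leaf (.rl 7 1 [22, 28, 64, 97, 112, 152] [4578] [] false))) (.node (.leaf (.rl 7 1 [7, 46, 99, 118, 151, 167] [2530] [] false)) (.leaf .dfn))) (.node (.node (.leaf (.rl 4 4 [16, 44, 37, 82, 120, 151, 166] [146, 974] [34, 48, 30, 154] false)) (.leaf (.rl 5 4 [23, 43, 58, 98, 134] [43, 45, 43, 3148] [94, 42, 44, 44, 43, 43, 45, 45, 188, 528, 5596] false))) (.leaf (.rl 4 4 [7, 32, 67, 101, 112, 169] [160] [34, 32, 64, 32, 160, 263, 494] false)))) (.node (.node (.node (.leaf (.rl 7 1 [17, 74, 62, 95, 116, 159, 167] [994] [] false)) (.leaf (.rl 12 1 [6, 30, 64, 79] [169, 551, 208, 208, 208, 168, 5086] [5086] false))) (.leaf (.rl 10 1 [16, 32, 58, 82, 133, 166] [3042] [] false)))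 (.node (.node (.leaf (.rl 7 1 [18, 29, 59, 99, 132, 171] [2018] [] false)) (.leaf (.rl 9 1 [19, 31, 62, 90, 117, 171, 166] [156, 6114] [6114] false))) (.leaf (.rl 7 1 [15, 29, 38, 100, 120, 169, 167] [4066] [] false))))))

def kSrc36 : Tr Src :=
  .node kSrc34 kSrc35

def kSrc37 : Tr Src :=
  .node kSrc33 kSrc36

def kSrc38 : Tr Src :=
  .node (.node (.node (.node (.node (.node (.leaf (.root [2, 2, 0, 2, 2, 0, 2, 0, 2, 0, 2, 0, 2, 4, 10, 8, 6, 10, 10, 8, 6, 14, 18] [] false)) (.leaf (.rl 5 4 [7, 40, 64, 93, 88, 155] [43, 43, 45, 202] [94, 43, 43, 45, 43, 95, 588, 262, 344, 263, 345, 2590] false))) (.node (.leaf (.rl 9 1 [9, 27, 38, 90, 122, 171, 166] [2066] [] false)) (.leaf (.rl 21 4 [24, 74, 100, 130, 157, 166] [6144] [5188, 5746, 6144] false)))) (.node (.node (.leaf (.rl 4 4 [17, 41, 62, 94, 115, 169, 166] [146, 206, 206, 800] [30, 64, 30, 146] false)) (.leaf (.rl 4 4 [7, 28, 65, 103, 134, 159, 166] [150, 204]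 [30, 36, 64, 34, 150, 204, 207, 5138] false))) (.leaf (.rl 4 4 [22, 71, 61, 97, 112, 152, 166] [154] [36, 32, 34, 160, 262, 344, 1940] false)))) (.node (.node (.node (.leaf (.rl 7 1 [15, 74, 66, 98, 119, 168] [530] [] false)) (.leaf (.rl 14 1 [10, 40, 50, 91, 133, 151] [4626] [] false))) (.node (.leaf (.rl 4 4 [12, 27, 51, 93, 130, 155] [150, 204] [48, 32, 37, 49, 54, 64, 34, 48, 64, 32, 160] false)) (.leaf (.rl 5 4 [3, 46, 52, 94, 118, 155, 167] [45, 43, 43, 45, 45, 122, 44, 44, 43, 43, 45, 45, 5458, 5926, 5928, 5092, 6654] [44, 1134] false)))) (.node (.node (.leaf (.rl 4 4 [20, 73, 59, 80, 155] [146] [36, 48, 48, 34, 146, 1008] false)) (.leaf (.rl 10 1 [7, 32, 60, 81, 117, 155, 167] [5650] [] false))) (.leaf (.rl 4 4 [3, 73, 59, 89, 114, 152, 166] [160, 345, 2466] [34, 64, 32, 36, 30, 146] false))))) (.node (.node (.node (.node (.leaf (.rl 4 2 [4, 26, 37] [138] [48, 32, 48, 48, 166] false)) (.leaf (.rl 16 1 [22,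 41, 81, 120, 166] [4370] [] false))) (.node (.leaf (.rl 7 1 [15, 39, 58, 93, 112, 151] [2322] [] false)) (.leaf (.rl 5 4 [3, 29, 38, 97, 118, 144, 166] [45, 43, 124, 43, 95, 45, 5212, 5926, 5928, 6396] [94, 42, 44, 44, 43, 45, 5196] false)))) (.node (.node (.leaf (.rl 4 4 [17, 44, 66, 90, 123, 159] [146] [34, 64, 30, 48, 160, 263, 340] false)) (.leaf (.rl 5 4 [3, 70, 52, 96, 124, 170] [43, 43, 45, 202, 207, 207, 1862] [42, 42, 44, 5196] false))) (.leaf (.rl 4 4 [12, 73, 63, 103, 117, 168] [160, 345, 263, 486] [30, 64, 48, 32, 34, 160] false)))) (.node (.node (.node (.leaf (.rl 4 4 [22, 73, 59, 94, 88, 143] [31, 65, 49, 31, 70, 36, 48, 48, 34, 30, 146] [36, 64, 30, 30, 160] false)) (.leaf (.rl 14 1 [12, 70, 53, 80, 88, 169, 166] [4882] [] false))) (.leaf (.rl 4 4 [14, 46, 62, 98, 131, 171, 167] [154, 528, 236, 157, 453, 346] [34, 32, 64, 48, 30, 160] false))) (.node (.node (.leaf (.rl 4 4 [10, 31, 57, 100, 116, 144,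 167] [146] [64, 32, 34, 154, 528, 452, 236, 157, 237, 529, 1532] false)) (.leaf (.rl 5 4 [7, 31, 103, 119, 171, 167] [43, 43, 45, 45, 188, 528, 156, 237, 5144, 5350] [42, 44, 43, 95, 2640] false))) (.leaf (.rl 10 1 [5, 26, 38, 95, 122, 159] [3858] [] false)))))) (.node (.node (.node (.node (.node (.leaf (.rl 4 1 [5, 61, 89, 119, 155, 166] [146] [] false)) (.leaf (.rl 5 4 [23, 70, 63, 104, 121, 153, 167] [43, 95, 45, 45, 324, 207, 1262] [45, 45, 43, 374] false))) (.node (.leaf (.rl 10 1 [16, 45, 60, 104, 133, 166] [2194] [] false)) (.leaf (.rl 21 4 [13, 74, 66, 113, 159, 167] [5189, 5081, 6052, 6186] [5080, 6186] false)))) (.node (.node (.leaf (.rl 4 4 [7, 72, 63, 89, 133, 144] [146, 206, 206, 1028] [30, 32, 64, 48, 34, 146] false)) (.leaf (.rl 21 1 [18, 29, 52, 89, 88, 144, 167] [5266] [] false))) (.leaf (.rl 4 4 [22, 71, 50, 96, 124, 154] [154, 528, 236, 156, 237, 529, 2902] [64, 30, 48, 32, 146] false)))) (.node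 (.node (.node (.leaf (.rl 4 4 [33, 26, 55, 90, 119, 159, 167] [138, 184, 288, 184, 288, 140, 289, 143, 289, 143, 564] [48, 34, 48, 48, 32, 160] false)) (.leaf (.rl 10 1 [15, 29, 63, 100, 117, 170, 167] [4754] [] false))) (.node (.leaf (.rl 4 4 [20, 42, 65, 99, 131, 153] [154, 453, 1682] [48, 64, 34, 30, 160] false)) (.leaf (.rl 5 4 [5, 41, 65, 104, 122, 156, 166] [45, 43, 124, 44, 42, 42, 44, 43, 95, 45, 5212, 5926, 5928, 6776] [42, 42, 44, 42, 45, 45, 612] false)))) (.node (.node (.leaf (.rl 4 4 [15, 70, 52, 96, 114, 151] [146, 206, 238] [48, 36, 64, 30, 32, 146] false)) (.leaf (.rl 5 4 [23, 28, 49, 104, 122, 144, 166] [43, 95, 45, 45, 324, 5318] [42, 42, 44, 43, 45, 5196] false))) (.leaf (.rl 4 4 [20, 29, 50, 79, 118, 171, 167] [160] [36, 48, 36, 160, 345, 263, 962] false))))) (.node (.node (.node (.node (.leaf (.rl 6 1 [6, 27, 56, 91, 121, 168] [402] [] false)) (.leaf (.rl 17 1 [13, 72, 52, 82, 133, 151, 166]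 [4498] [] false))) (.node (.leaf (.rl 4 4 [33, 26, 50, 95, 117, 169, 167] [150, 204, 1778] [36, 34, 64, 32, 164, 484] false)) (.leaf (.rl 5 4 [20, 29, 61, 89, 170, 166] [43, 45, 43, 43, 80, 44, 43, 45, 45, 5236, 5926, 5930, 5928, 5088, 6522] [42, 42, 44, 43, 45, 95, 4342, 4396] false)))) (.node (.node (.leaf (.rl 4 4 [15, 28, 53, 103, 123, 157] [146, 642] [64, 36, 31, 31, 49, 37, 622] false)) (.leaf (.rl 24 1 [14, 74, 65, 104, 120, 159, 166] [5522] [] false))) (.leaf (.rl 4 4 [8, 71, 56, 82, 121, 152] [160] [30, 48, 48, 48, 31, 31, 49, 37, 622, 207, 1180] false)))) (.node (.node (.node (.leaf (.rl 7 1 [8, 40, 63, 102, 124, 169, 167] [914] [] false)) (.leaf (.rl 17 1 [10, 28, 56, 82, 88, 156] [5010] [] false))) (.leaf (.rl 4 4 [17, 27, 53, 91, 117, 153] [154, 528, 1234] [34, 64, 31, 56] false))) (.node (.node (.leaf (.rl 7 1 [4, 73, 52, 94, 119, 158] [1938] [] false)) (.leaf (.rl 5 4 [13, 39, 50, 96, 123, 144, 166]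 [43, 95, 45, 5212, 5926] [44, 94, 42, 45, 45, 43, 95, 45, 102, 42, 42, 44, 95, 45, 5212, 5926] false))) (.leaf (.rl 4 4 [17, 45, 64, 95, 132, 171, 167] [31, 35, 49, 50, 44, 94, 42, 44, 44, 43, 45, 45, 43, 226] [48, 64, 154] false))))))

def kSrc39 : Tr Src :=
  .node (.node (.node (.node (.node (.node (.leaf (.rl 1 2 [14, 44, 63, 93, 121, 153, 167] [40] [10, 8, 6, 10, 10, 6, 10, 6, 8, 6, 10, 10, 40] false)) (.leaf (.rl 5 4 [24, 74, 65, 90, 119, 159] [43, 43, 45, 202, 207, 207, 1726] [44, 94, 45, 45, 476] false))) (.node (.leaf (.rl 10 1 [8, 46, 54, 80, 120, 144, 167] [2130] [] false)) (.leaf (.rl 22 1 [22, 73, 54, 81, 122, 170, 167] [6226] [] false)))) (.node (.node (.leaf (.rl 7 1 [13, 28, 51, 81, 115, 169, 167] [1106] [] false)) (.leaf (.rl 4 4 [21, 44, 62, 100, 133, 151, 167] [31, 35, 49, 50, 44, 94, 42, 44, 43, 45, 5196] [30, 64, 48, 166] false))) (.leaf (.rl 7 1 [19, 30, 58, 89, 169, 166] [3154] [] false))))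 (.node (.node (.node (.leaf (.rl 4 4 [23, 46, 61, 100, 123, 168] [138, 140, 288, 184, 140, 185, 289, 185, 185, 298] [64, 32, 34, 150, 204] false)) (.leaf (.rl 14 1 [28, 62, 98, 130, 143, 166] [4690] [] false))) (.node (.leaf (.rl 4 2 [10, 70, 49, 94, 124, 153, 166] [154] [34, 32, 64, 48, 160] false)) (.leaf (.rl 5 4 [12, 30, 59, 81, 118, 144, 166] [45, 43, 43, 45, 1976, 5322, 5926, 5928, 6724] [44, 42, 42, 44, 44, 43, 45, 45, 95, 4556] false)))) (.node (.node (.leaf (.rl 4 4 [13, 73, 57, 90, 133, 152, 166] [146, 207, 207, 1352] [64, 48, 64, 32, 30, 166] false)) (.leaf (.rl 5 4 [14, 31, 51, 93, 122, 170] [43, 45, 45, 43, 226] [94, 42, 95, 3024, 528, 452, 236, 453, 529, 5510] false))) (.leaf (.rl 4 4 [22, 42, 60, 101, 116, 158] [160, 345, 263, 263, 334] [36, 64, 36, 31, 31, 49, 37, 622] false))))) (.node (.node (.node (.node (.leaf (.rl 10 1 [3, 45, 51, 101, 114, 152, 166] [338] [] false)) (.leaf (.rl 14 1 [7, 73,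 64, 93, 117, 159] [4434] [] false))) (.node (.leaf (.rl 4 4 [22, 61, 101, 134, 153] [150, 204] [48, 48, 32, 48, 154, 528, 236, 157, 237, 1668] false)) (.leaf (.rl 4 4 [13, 39, 52, 99, 122] [31, 35, 49, 50, 42, 44, 44, 42, 95, 45, 5212, 5926, 5092, 5090, 5088, 6458] [36, 146] false)))) (.node (.node (.leaf (.rl 4 4 [19, 44, 65, 81, 133, 158] [146, 206, 1266] [34, 32, 64, 48, 146] false)) (.leaf (.rl 5 4 [20, 69, 66, 81, 118, 151, 166] [43, 43, 45, 202, 674] [44, 94, 42, 42, 45, 43, 5362] false))) (.leaf (.rl 4 4 [14, 41, 49, 82, 132, 156, 167] [160, 262, 2882] [32, 48, 48, 48, 146] false)))) (.node (.node (.node (.leaf (.rl 7 1 [13, 68, 62, 90, 118, 171] [850] [] false)) (.leaf (.rl 7 1 [5, 46, 37, 90, 134, 157, 166] [4946] [] false))) (.leaf (.rl 4 4 [10, 30, 66, 90, 122, 152, 166] [154, 156, 452, 157, 2672] [48, 32, 64, 154] false))) (.node (.node (.leaf (.rl 4 4 [15, 28, 65, 89, 117, 171] [146] [36, 30, 30, 30,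 138, 185, 1452] false)) (.leaf (.rl 24 1 [13, 30, 61, 104, 123, 153, 167] [5970] [] false))) (.leaf (.rl 10 1 [13, 41, 59, 79, 131, 157, 167] [3922] [] false)))))) (.node (.node (.node (.node (.node (.leaf (.rl 7 1 [11, 68, 101, 130, 153, 167] [210] [] false)) (.leaf (.rl 4 4 [15, 44, 67, 95, 132, 171] [138, 184, 288, 184, 142, 140, 4280] [48, 64, 36, 32, 164, 484] false))) (.node (.leaf (.rl 4 4 [12, 39, 67, 96, 131, 144, 166] [150, 204] [48, 64, 36, 30, 35, 49, 35, 134, 94, 42, 44, 42, 45, 43, 43, 45, 45, 240] false)) (.leaf (.rl 4 4 [3, 72, 58, 94, 123, 159, 167] [35, 49, 35, 134, 44, 43, 5194, 5350, 5108, 5106, 5352, 5106, 6336] [36, 64, 36, 30, 160] false)))) (.node (.node (.leaf (.rl 4 4 [23, 74, 63, 98, 132] [146] [64, 48, 36, 34, 146, 206, 206, 940] false)) (.leaf (.rl 5 4 [14, 45, 59, 95, 117, 155, 166] [43, 43, 45, 202, 206, 940] [44, 44, 42, 45, 5196] false))) (.leaf (.rl 9 1 [16, 46, 38, 90, 131, 154,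 166] [3282] [] false)))) (.node (.node (.node (.leaf (.rl 7 1 [24, 43, 60, 100, 121, 143] [722] [] false)) (.leaf (.rl 7 1 [4, 68, 53, 98, 117, 155] [4818] [] false))) (.node (.leaf (.rl 4 4 [19, 73, 63, 82, 119, 158] [154, 452, 156, 237, 428] [48, 64, 32, 154] false)) (.leaf .dfn))) (.node (.node (.leaf (.rl 4 4 [33, 70, 49, 79, 133, 170] [146, 207, 207, 892] [48, 64, 30, 166] false)) (.leaf (.rl 5 4 [5, 68, 50, 114, 158, 167] [43, 45, 45, 43, 43, 45, 3760] [94, 44, 44, 43, 95, 2606, 206, 5328, 5350] false))) (.leaf (.rl 4 4 [5, 30, 50, 90, 120, 153] [160] [30, 36, 30, 30, 164, 484, 3284] false))))) (.node (.node (.node (.node (.leaf (.rl 4 4 [23, 53, 80, 132, 157] [138, 142, 184, 142, 141, 185, 185, 185, 143, 284] [48, 48, 30, 48, 36, 146] false)) (.leaf (.rl 7 1 [24, 32, 64, 101, 130] [4562] [] false))) (.node (.leaf (.rl 4 4 [16, 45, 57, 81, 123, 153, 167] [150, 204, 206, 206, 994] [31, 31, 49, 37, 622] false))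 (.leaf (.rl 5 4 [71, 53, 91, 151, 167] [45, 43, 43, 45, 1976, 5314, 5926, 5930, 5090, 6596] [42, 42, 44, 43, 45, 5196] false)))) (.node (.node (.leaf (.rl 4 4 [12, 40, 38, 92, 133, 153, 166] [146] [32, 30, 64, 30, 150, 204, 207, 207, 682] false)) (.leaf (.rl 14 1 [7, 70, 54, 97, 130, 170, 166] [5586] [] false))) (.leaf (.rl 4 4 [3, 44, 49, 101, 131, 170, 167] [160] [64, 34, 154, 528, 452, 156, 237, 453, 529, 2200] false)))) (.node (.node (.node (.leaf (.rl 4 4 [9, 68, 63, 104, 115, 153] [146, 206, 940] [32, 34, 64, 48, 160] false)) (.leaf (.rl 5 4 [10, 39, 55, 89, 114, 152, 167] [43, 43, 45, 45, 43, 632, 4614] [44, 94, 42, 45, 95, 4342, 4396] false))) (.leaf (.rl 7 1 [15, 30, 56, 96, 112, 170, 166] [3026] [] false))) (.node (.node (.leaf (.rl 10 1 [7, 70, 58, 90, 131, 157] [2002] [] false)) (.leaf (.rl 25 1 [15, 30, 67, 104, 117, 156] [5114, 6098] [6098] false))) (.leaf (.rl 4 4 [19, 40, 51, 94, 122, 144, 166] [31,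 31, 49, 37, 622, 3920] [48, 36, 48, 48, 32, 146] false))))))

def kSrc40 : Tr Src :=
  .node kSrc38 kSrc39

def kSrc41 : Tr Src :=
  .node (.node (.node (.node (.node (.node (.leaf (.rl 4 1 [17, 70, 51, 95, 118, 155] [50] [] false)) (.leaf (.rl 5 4 [21, 72, 57, 92, 115, 158, 167] [43, 43, 45, 202, 207, 3396] [42, 42, 44, 95, 45, 3346] false))) (.node (.leaf (.rl 10 1 [14, 32, 52, 104, 134, 144, 167] [2098] [] false)) (.leaf (.rl 5 4 [9, 42, 56, 93, 115, 155, 166] [43, 43, 45, 202, 5332, 5188, 5080, 5188, 5080, 5188, 6168] [] false)))) (.node (.node (.leaf (.rl 4 4 [14, 45, 101, 120, 152] [146, 206, 206, 1008] [36, 30, 48, 31, 31, 49, 37, 622] false)) (.leaf (.rl 21 1 [19, 73, 61, 98, 117, 144] [5170] [] false))) (.leaf (.rl 4 4 [3, 72, 65, 98, 124, 157, 167] [154] [36, 48, 30, 30, 150, 204, 207, 207, 2428] false)))) (.node (.node (.node (.leaf (.rl 7 1 [73, 67, 100, 112, 157] [562] [] false)) (.leaf (.rl 14 1 [14,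 40, 56, 130, 171] [4658] [] false))) (.node (.leaf (.rl 4 4 [22, 61, 80, 131, 144, 167] [150, 204] [32, 30, 64, 48, 34, 160, 345, 2466] false)) (.leaf (.rl 5 4 [14, 31, 51, 93, 122, 170] [43, 45, 45, 43, 226, 5716, 5926, 5928, 5930, 5088, 6690] [94, 42, 95, 3024] false)))) (.node (.node (.leaf (.rl 7 1 [21, 74, 62, 89, 119, 154] [1586] [] false)) (.leaf (.rl 5 4 [16, 69, 55, 79, 114, 169, 166] [43, 45, 45, 43, 226, 345, 4166] [44, 94, 42, 44, 43, 43, 45, 45, 5236] false))) (.leaf (.rl 10 1 [33, 40, 53, 82, 114, 156] [3634] [] false))))) (.node (.node (.node (.node (.leaf (.rl 4 4 [8, 32, 61, 93, 123, 157, 166] [138, 184, 288, 184, 288, 185, 143, 294] [48, 30, 32, 64, 32, 160] false)) (.leaf (.rl 14 1 [15, 72, 38, 91, 121, 158] [4402] [] false))) (.node (.leaf (.rl 4 4 [23, 32, 60, 94, 130, 157] [150, 204] [48, 34, 64, 35, 49, 35, 134, 94, 43, 45, 202] false)) (.leaf (.rl 5 4 [20, 42, 52, 100, 118, 152, 167] [45,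 43, 43, 45, 434, 206, 206, 5308, 5926, 5930, 5928, 5088, 6424] [45, 43, 95, 1134] false)))) (.node (.node (.leaf (.rl 4 4 [4, 73, 50, 81, 123, 159, 167] [146, 1210] [64, 30, 30, 30, 146] false)) (.leaf (.rl 5 4 [6, 32, 81, 123, 169, 167] [43, 43, 45, 202, 207, 2082] [42, 44, 44, 42, 45, 45, 43, 5238] false))) (.leaf (.rl 10 1 [11, 30, 61, 81, 114, 171, 166] [3378] [] false)))) (.node (.node (.node (.leaf (.rl 4 2 [22, 26, 38, 101, 122, 152] [146] [36, 48, 30, 36, 146] false)) (.leaf (.rl 14 1 [12, 30, 49, 81, 120, 171, 166] [4914] [] false))) (.leaf (.rl 4 4 [13, 72, 67, 94, 133, 152] [154] [36, 30, 36, 31, 31, 49, 37, 622, 207, 628] false))) (.node (.node (.leaf (.rl 4 4 [10, 31, 56, 104, 124, 171, 166] [146, 206, 1222] [64, 48, 48, 30, 160] false)) (.leaf (.rl 23 1 [6, 39, 49, 99, 118, 154, 167] [5536, 5926] [5926] false))) (.leaf (.rl 4 4 [28, 66, 97, 113, 143, 167] [164, 484, 2944] [64, 48, 34, 48, 164, 484]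 false)))))) (.node (.node (.node (.node (.node (.leaf (.rl 1 4 [22, 32, 55, 82, 115, 151] [28, 48, 34, 174] [10, 10, 6, 10, 10, 6, 10, 8, 6, 10, 28] false)) (.leaf (.rl 7 4 [18, 31, 57, 92, 131, 152, 166] [956] [207, 3672, 528, 452, 236, 157, 453, 529, 2502] false))) (.node (.leaf (.rl 7 1 [13, 28, 66, 102, 121, 171, 167] [2226] [] false)) (.leaf (.rl 4 4 [6, 71, 61, 99, 114, 170, 166] [31, 56, 42, 42, 44, 5194, 5350, 5108, 5352, 5178, 6304] [32, 48, 64, 30, 48, 146] false)))) (.node (.node (.leaf (.rl 4 4 [19, 45, 56, 116, 143] [146, 950] [48, 64, 32, 36, 160] false)) (.leaf (.rl 4 4 [20, 73, 52, 103, 120, 151, 167] [31, 56, 42, 44, 44, 43, 95, 45, 5212] [48, 48, 146] false))) (.leaf (.rl 4 2 [33, 40, 49, 91, 153] [160] [34, 64, 32, 36, 30, 160] false)))) (.node (.node (.node (.leaf (.rl 4 4 [5, 28, 51, 80, 116, 154] [138, 288, 142, 288, 142, 141, 185, 289, 185, 143, 680] [64, 48, 36, 34, 150, 204] false)) (.leaf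 (.rl 10 1 [5, 68, 55, 82, 133, 169] [4786] [] false))) (.node (.leaf (.rl 4 4 [3, 46, 63, 80, 121, 158, 166] [154, 452, 236, 453, 529, 2460] [48, 48, 48, 164, 484] false)) (.leaf (.rl 5 4 [33, 69, 37, 94, 123, 168, 167] [43, 43, 45, 45, 188, 528, 236, 156, 237, 5548, 5926, 5930, 6814] [94, 44, 43, 43, 95, 45, 3786] false)))) (.node (.node (.leaf (.rl 4 4 [18, 73, 37, 99, 119, 144, 167] [146] [64, 48, 32, 174, 520, 184, 288, 184, 142, 141, 143, 185, 185, 143, 290] false)) (.leaf (.rl 24 1 [22, 26, 50, 96, 131, 169] [5810] [] false))) (.leaf (.rl 10 1 [17, 70, 53, 79, 115, 143, 167] [3762] [] false))))) (.node (.node (.node (.node (.leaf (.rl 4 4 [10, 43, 57, 81, 121, 157, 167] [138, 142, 184, 288, 184, 142, 141, 143, 185, 185, 143, 402] [64, 30, 32, 35, 49, 35, 134] false)) (.leaf (.rl 14 1 [19, 72, 53, 96, 132, 168, 166] [4530] [] false))) (.node (.leaf (.rl 4 4 [3, 31, 38, 93, 118, 154] [150, 204, 207, 948] [48,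 64, 48, 30, 30, 154] false)) (.leaf (.rl 5 4 [7, 70, 63, 94, 158, 166] [43, 45, 45, 43, 226, 344, 5640, 5926, 5930, 6558] [94, 42, 42, 95, 5392] false)))) (.node (.node (.leaf (.rl 4 4 [8, 73, 67, 99, 88, 155] [146] [48, 48, 36, 34, 138, 184, 288, 185, 185, 185, 143, 284] false)) (.leaf (.rl 5 4 [16, 68, 37, 97, 123] [43, 45, 43, 3148] [44, 44, 43, 45, 43, 43, 658, 206, 5546] false))) (.leaf (.rl 7 1 [14, 42, 67, 101, 88, 143] [3506] [] false)))) (.node (.node (.node (.leaf (.rl 4 4 [24, 32, 55, 95, 119, 153, 167] [146, 320] [64, 30, 64, 48, 30, 146] false)) (.leaf (.rl 14 1 [4, 70, 67, 94, 88, 169, 166] [5042] [] false))) (.leaf (.rl 10 1 [15, 69, 50, 97, 114, 152, 167] [2994] [] false))) (.node (.node (.leaf (.rl 7 1 [16, 30, 38, 94, 130, 155, 166] [1970] [] false)) (.leaf (.rl 7 4 [11, 71, 65, 79, 115, 155] [207, 5298, 5926] [944, 345, 5370, 5926] false))) (.leaf (.rl 4 4 [15, 46, 54, 82, 115, 170, 166] [166,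 208, 550, 170, 195, 209, 3256] [64, 36, 164, 484] false))))))

def kSrc42 : Tr Src :=
  .node (.node (.node (.node (.node (.node (.leaf (.rl 5 4 [4, 43, 57, 81, 114, 171, 167] [45, 84, 94, 45, 45, 74] [44, 44, 94, 45, 45, 74] false)) (.leaf (.rl 7 1 [10, 26, 59, 94, 144, 167] [4210] [] false))) (.node (.leaf (.rl 7 1 [17, 31, 64, 104, 88, 156] [2162] [] false)) (.leaf (.rl 7 1 [6, 46, 58, 82, 130, 156] [6256] [] false)))) (.node (.node (.leaf (.rl 4 4 [18, 74, 63, 101, 123, 158] [146] [36, 48, 30, 30, 146, 960] false)) (.leaf (.rl 4 4 [7, 29, 54, 103, 117, 143, 167] [35, 49, 35, 134] [48, 64, 34, 48, 31, 35, 49, 50, 94, 44, 44, 42, 95, 45, 5212] false))) (.leaf (.rl 9 1 [10, 40, 37, 96, 121, 169, 166] [3186] [] false)))) (.node (.node (.node (.leaf (.rl 7 1 [24, 39, 62, 92, 119, 153] [626] [] false)) (.leaf (.rl 10 1 [4, 70, 62, 102, 113, 153, 166] [4722] [] false))) (.node (.leaf (.rl 4 4 [20, 28, 65, 102, 116,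 144, 166] [154] [36, 64, 30, 166, 208, 208, 194, 171, 551, 209, 1114] false)) (.leaf (.rl 4 4 [12, 40, 61, 90, 113, 144, 167] [35, 49, 35, 134, 44, 94, 42, 44, 43, 95, 45, 5212, 5926, 5930, 5092, 5090, 5088, 6748] [48, 30, 32, 64, 32, 154] false)))) (.node (.node (.leaf (.rl 7 1 [9, 50, 99, 88, 156, 167] [1650] [] false)) (.leaf (.rl 5 4 [16, 43, 55, 97, 134, 159, 167] [43, 45, 43, 43, 90, 94, 42, 44, 44, 95, 5392] [44, 5392] false))) (.leaf (.rl 4 4 [13, 71, 37, 98, 131, 156, 166] [160] [48, 32, 64, 34, 160, 3424] false))))) (.node (.node (.node (.node (.leaf (.rl 4 4 [13, 41, 66, 99, 118, 169] [138, 288, 288, 142, 185, 289, 185, 185, 298] [36, 64, 48, 35, 49, 50] false)) (.leaf (.rl 7 1 [7, 71, 61, 96, 132, 159, 166] [4466] [] false))) (.node (.leaf (.rl 4 4 [11, 43, 55, 93, 88, 151, 166] [150, 204, 206, 1910] [32, 48, 64, 48, 34, 30, 146] false)) (.leaf (.rl 5 4 [4, 70, 63, 79, 88, 159] [43, 45, 45, 43, 226,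 263, 5826, 5926, 5930, 6500] [42, 44, 43, 45, 45, 43, 226] false)))) (.node (.node (.leaf (.rl 7 1 [3, 42, 52, 79, 121, 171, 166] [1394] [] false)) (.leaf (.rl 5 4 [5, 39, 64, 95, 134, 155] [43, 43, 45, 202] [45, 43, 1684, 5260] false))) (.leaf (.rl 4 4 [3, 74, 63, 98, 130, 170] [160, 3084] [64, 30, 48, 34, 160] false)))) (.node (.node (.node (.leaf (.rl 4 2 [20, 69, 67, 90, 123, 156] [146] [30, 48, 48, 48, 31, 31, 49, 37, 622] false)) (.leaf (.rl 5 4 [24, 42, 51, 89, 118, 143, 167] [43, 45, 45, 43, 226] [42, 44, 44, 43, 43, 45, 45, 43, 2160, 207, 4732] false))) (.leaf (.rl 7 1 [18, 42, 38, 79, 119, 157, 166] [2930] [] false))) (.node (.node (.leaf (.rl 7 1 [10, 45, 61, 91, 151, 167] [1906] [] false)) (.leaf (.rl 5 4 [7, 72, 55, 89, 130, 143, 167] [43, 43, 45, 45, 5236, 5926] [94, 44, 43, 43, 80, 44, 94, 42, 44, 44, 43, 45, 45, 5236, 5926] false))) (.leaf (.rl 10 1 [23, 32, 54, 103, 115, 143, 166] [3954] [] false))))))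 (.node (.node (.node (.node (.node (.leaf (.rl 5 1 [13, 46, 67, 93, 124, 156, 166] [242] [] false)) (.leaf (.rl 4 4 [7, 44, 97, 88, 144, 166] [138, 140, 288, 4286] [36, 64, 30, 30, 35, 49, 35, 134] false))) (.node (.leaf (.rl 7 1 [19, 69, 58, 81, 120, 143, 166] [2290] [] false)) (.leaf (.rl 5 4 [24, 29, 66, 89, 120, 158, 166] [45, 43, 43, 45, 45, 122, 94, 42, 95, 45, 5212, 5926, 5090, 5088, 6370] [44, 44, 5194, 5350] false)))) (.node (.node (.leaf (.rl 4 4 [7, 30, 49, 93, 88, 157, 167] [146, 207, 207, 1242] [48, 48, 32, 164, 484] false)) (.leaf (.rl 5 4 [43, 37, 89, 121, 169, 166] [43, 43, 45, 202, 994] [95, 45, 5212] false))) (.leaf (.rl 10 1 [19, 39, 37, 132, 171, 166] [3314] [] false)))) (.node (.node (.node (.leaf (.rl 4 4 [14, 29, 51, 95, 123, 171, 167] [31, 65, 49, 31, 70, 30, 36, 30, 160] [48, 32, 48, 48, 160] false)) (.leaf (.rl 7 1 [9, 43, 60, 102, 115, 159, 166] [4850] [] false))) (.node (.leaf (.rl 4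 4 [15, 58, 97, 112, 151, 166] [154, 528, 236, 156, 358] [48, 48, 48, 30, 146] false)) (.leaf .dfn))) (.node (.node (.leaf (.rl 4 4 [14, 32, 57, 100, 120, 170] [146, 207, 614] [36, 32, 64, 48, 160] false)) (.leaf (.rl 5 4 [5, 44, 53, 81, 120, 170, 167] [45, 43, 43, 45, 1976, 206, 206, 5610] [94, 43, 45, 45, 95, 4556] false))) (.leaf (.rl 10 1 [19, 71, 98, 119, 153, 166] [3826] [] false))))) (.node (.node (.node (.node (.leaf (.rl 10 1 [7, 28, 65, 91, 88, 159] [498] [] false)) (.leaf (.rl 7 1 [5, 27, 53, 101, 123, 144, 166] [4594] [] false))) (.node (.leaf (.rl 7 1 [33, 41, 104, 130, 170, 166] [2546] [] false)) (.leaf (.rl 5 4 [15, 40, 62, 101, 118, 153] [43, 43, 45, 45, 188, 453, 529, 5510, 5926, 5930, 6616] [42, 44, 44, 42, 45, 4720] false)))) (.node (.node (.leaf (.rl 4 4 [5, 62, 90, 119, 167] [146] [30, 36, 174, 520, 142, 288, 288, 140, 185, 289, 185, 185, 298] false)) (.leaf (.rl 5 4 [6, 29, 63, 89, 116, 156,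 167] [43, 45, 45, 43, 226, 262, 344, 3266] [42, 44, 44, 43, 5194, 5350] false))) (.leaf (.rl 10 1 [15, 74, 61, 89, 123, 152, 166] [3570] [] false)))) (.node (.node (.node (.leaf (.rl 4 4 [16, 29, 62, 99, 119, 157] [146] [48, 64, 48, 30, 146, 206, 746] false)) (.leaf (.rl 12 1 [20, 45, 60, 81, 123, 151, 167] [169, 209, 171, 208, 170, 208, 168, 5102] [5102] true))) (.leaf (.rl 4 4 [20, 41, 59, 99, 116, 171, 166] [154] [34, 32, 64, 48, 146, 207, 2518] false))) (.node (.node (.leaf (.rl 7 1 [19, 29, 55, 102, 122, 152, 166] [2034] [] false)) (.leaf (.rl 7 4 [11, 29, 62, 104, 132, 143] [207, 207, 2114, 6124] [5584, 5926] false))) (.leaf (.rl 7 1 [15, 27, 96, 122, 169] [4082] [] false))))))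

def kSrc43 : Tr Src :=
  .node kSrc41 kSrc42

def kSrc44 : Tr Src :=
  .node kSrc40 kSrc43

def kSrc45 : Tr Src :=
  .node kSrc37 kSrc44

def kSrc46 : Tr Src :=
  .node (.node (.node (.node (.node (.node (.leaf (.rl 0 1 [] [4] [] false)) (.leaf (.rl 5 4 [11, 26, 54, 92, 120, 154, 166] [43, 43, 45, 202, 207, 2330] [44, 42, 42, 45, 43, 43, 45, 1290] false))) (.node (.leaf (.rl 7 1 [21, 62, 94, 115, 155, 166] [2058] [] false)) (.leaf (.rl 30 1 [9, 32, 62, 95, 134, 154] [6154] [] false)))) (.node (.node (.leaf (.rl 4 4 [5, 71, 59, 96, 118] [146] [32, 34, 64, 48, 35, 49, 35, 134, 42, 44, 43, 95, 260] false)) (.leaf (.rl 12 1 [26, 38, 101, 122, 152] [208, 5130] [5130] true))) (.leaf (.rl 10 1 [18, 40, 66, 79, 124, 156, 166] [3082] [] false)))) (.node (.node (.node (.leaf (.rl 4 4 [7, 46, 66, 102, 119, 171, 166] [138, 142, 140, 288, 185, 185, 185, 143, 506] [30, 64, 36, 32, 48, 160] false)) (.leaf (.rl 14 1 [13, 26, 58,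 90, 132, 167] [4618] [] false))) (.node (.leaf (.rl 4 4 [24, 40, 61, 101, 88, 169] [150, 204, 206, 972] [34, 30, 30, 154] false)) (.leaf (.rl 4 4 [33, 46, 79, 131, 169] [154, 528, 236, 156, 529, 5248, 5926, 5088, 6660] [34, 32, 36, 30, 150, 204] false)))) (.node (.node (.leaf (.rl 7 1 [22, 73, 37, 102, 114, 159, 166] [1546] [] false)) (.leaf (.rl 24 1 [16, 45, 58, 99, 114, 169] [5642] [] false))) (.leaf (.rl 4 4 [7, 26, 49, 98, 114, 152] [160] [30, 32, 64, 32, 146, 2134] false))))) (.node (.node (.node (.node (.leaf (.rl 1 4 [22, 45, 53, 104, 132, 157, 166] [40] [6, 8, 6, 10, 10, 10, 8, 28, 30, 48, 64, 48, 160] false)) (.leaf (.rl 16 1 [15, 44, 96, 115, 156] [4362] [] false))) (.node (.leaf (.rl 7 1 [4, 74, 59, 82, 134, 153] [2314] [] false)) (.leaf (.rl 4 4 [24, 73, 65, 95, 117, 169, 167] [154, 5224, 5926, 5928, 5930, 6406] [64, 48, 30, 32, 164, 484] false)))) (.node (.node (.leaf (.rl 4 4 [33, 70, 62, 95, 112,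 153, 167] [146, 1174] [64, 48, 64, 154] false)) (.leaf (.rl 14 1 [9, 45, 64, 91, 124, 153, 166] [5386] [] false))) (.leaf (.rl 4 4 [13, 70, 60, 82, 120, 151, 167] [160, 2618] [36, 34, 31, 49, 37, 622] false)))) (.node (.node (.node (.leaf (.rl 4 4 [24, 42, 51, 89, 118, 143, 167] [31, 65, 49, 31, 70, 32, 64, 160] [30, 34, 30, 30, 146] false)) (.leaf (.rl 14 1 [3, 39, 37, 81, 122, 171, 167] [4874] [] false))) (.leaf (.rl 4 4 [12, 49, 98, 124, 151, 167] [154, 528, 156, 453, 157, 157, 237, 386] [48, 36, 64, 32, 30, 160] false))) (.node (.node (.leaf (.rl 4 4 [24, 73, 55, 99, 134, 170, 167] [146, 1108] [34, 64, 30, 164, 484] false)) (.leaf (.rl 5 4 [17, 32, 52, 133, 144] [43, 43, 45, 45, 188, 528, 452, 237, 4364, 4396] [44, 44, 94, 43, 5194, 5350] false))) (.leaf (.rl 10 1 [11, 32, 96, 134, 153, 167] [3850] [] false)))))) (.node (.node (.node (.node (.node (.leaf (.rl 4 1 [23, 32, 55, 82, 115, 151] [31, 32, 138] [138]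 false)) (.leaf (.rl 5 4 [3, 26, 62, 96, 117, 143] [43, 45, 43, 43, 90, 42, 95, 3298] [44, 95, 3298] false))) (.node (.leaf (.rl 7 1 [17, 46, 50, 102, 171] [2186] [] false)) (.leaf (.rl 7 4 [70, 60, 96, 132, 156] [207, 5134, 5080, 6186] [6256] false)))) (.node (.node (.leaf (.rl 4 4 [24, 74, 67, 80, 131, 144, 167] [146, 206, 206, 446] [36, 34, 164, 484] false)) (.leaf (.rl 23 1 [11, 28, 62, 82, 134, 171, 166] [5258] [] false))) (.leaf (.rl 7 1 [12, 57, 80, 134, 167] [3210] [] false)))) (.node (.node (.node (.leaf (.rl 4 4 [21, 46, 65, 100, 120, 170, 166] [138] [64, 35, 65, 214, 520, 184, 288, 142, 184, 184, 143, 289, 143, 185, 648] false)) (.leaf (.rl 10 1 [20, 68, 54, 102, 118, 143] [4746] [] false))) (.node (.leaf (.rl 4 4 [10, 46, 66, 103, 122, 154, 166] [154] [48, 64, 36, 31, 31, 49, 37, 622, 1416] false)) (.leaf (.rl 4 4 [14, 68, 57, 96, 119, 158, 167] [31, 35, 49, 50, 43, 5362, 5926, 5930, 5092, 6790] [64,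 30, 48, 31, 31, 49, 37, 622] false)))) (.node (.node (.leaf (.rl 4 4 [17, 74, 51, 95, 115, 154, 167] [146] [48, 64, 32, 36, 34, 146, 1214] false)) (.leaf (.rl 5 4 [10, 39, 56, 80, 123, 157, 167] [43, 45, 43, 43, 80, 44, 94, 42, 44, 44, 43, 43, 45, 45, 5236] [94, 44, 42, 42, 45, 912] false))) (.leaf (.rl 4 4 [22, 45, 52, 90, 121, 170] [160] [64, 34, 49, 35, 134, 44, 44, 42, 42, 45, 43, 2996] false))))) (.node (.node (.node (.node (.leaf (.rl 10 1 [70, 62, 112, 170] [394] [] false)) (.leaf (.rl 7 1 [10, 68, 65, 89, 119, 152, 166] [4490] [] false))) (.node (.leaf (.rl 4 4 [19, 39, 65, 92, 118, 171, 166] [150, 204] [30, 64, 48, 30, 64, 160, 262, 344, 263, 345, 1212] false)) (.leaf (.rl 4 4 [13, 44, 50, 92, 120, 158, 166] [146, 5610, 5926, 5928, 5092, 5090, 6526] [48, 36, 30, 32, 160] false)))) (.node (.node (.leaf (.rl 7 1 [4, 74, 51, 80, 113, 152, 166] [1418] [] false)) (.leaf (.rl 5 4 [3, 65, 81, 122, 157] [43, 45,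 43, 3148] [44, 43, 43, 45, 4104, 207, 5436] false))) (.leaf (.rl 10 1 [10, 40, 64, 81, 116, 156] [3466] [] false)))) (.node (.node (.node (.leaf (.rl 7 1 [19, 26, 60, 103, 134, 171, 166] [906] [] false)) (.leaf (.rl 14 1 [16, 31, 65, 95, 113, 170, 166] [5002] [] false))) (.leaf (.rl 4 4 [8, 29, 38, 103, 131, 155, 166] [154] [36, 30, 37, 49, 54, 34, 64, 48, 36, 30, 154] false))) (.node (.node (.leaf (.rl 7 1 [23, 32, 60, 94, 168, 166] [1930] [] false)) (.leaf (.rl 5 4 [7, 46, 38, 103, 115, 159, 167] [43, 5194, 5350] [42, 44, 43, 43, 116, 94, 42, 44, 5194, 5350] false))) (.leaf (.rl 4 4 [3, 41, 55, 90, 114, 158, 166] [31, 35, 49, 50, 44, 94, 42, 44, 43, 45, 43, 43, 1678] [48, 64, 30, 32, 146] false))))))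

def kSrc47 : Tr Src :=
  .node (.node (.node (.node (.node (.node (.leaf (.rl 1 4 [12, 69, 62, 89, 113, 154] [28, 34, 64, 56] [10, 10, 6, 10, 6, 10, 10, 6, 10, 10, 10, 40] false)) (.leaf (.rl 5 4 [5, 69, 60, 92, 114, 155] [43, 43, 45, 202] [42, 42, 44, 43, 45, 45, 43, 43, 45, 3760, 207, 1596] false))) (.node (.leaf (.rl 10 1 [17, 29, 60, 98, 118, 169, 167] [2122] [] false)) (.leaf (.rl 7 1 [9, 46, 59, 102, 88, 155, 167] [6218] [] false)))) (.node (.node (.leaf (.rl 7 1 [6, 70, 60, 102, 151, 166] [1098] [] false)) (.leaf (.rl 4 4 [3, 39, 37, 99, 88, 171] [31, 35, 49, 50] [48, 30, 36, 146, 5190] false))) (.leaf (.rl 9 1 [13, 43, 54, 103, 88, 158] [3146] [] false)))) (.node (.node (.node (.leaf (.rl 4 4 [16, 68, 37, 81, 131, 166] [138, 142, 289, 185, 143, 185, 232] [48, 64, 30, 32, 160] false)) (.leaf (.rl 9 1 [12, 32, 67, 102, 133, 169, 166] [4682] [] false))) (.node (.leaf (.rl 4 4 [23, 43, 66, 81, 132, 157, 167]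 [150, 204, 206, 2586] [48, 36, 64, 154] false)) (.leaf (.rl 4 4 [9, 29, 52, 97, 122, 151, 167] [150, 204, 206, 206, 5816, 5926, 5092, 5090, 5088, 6722] [36, 49, 37, 622] false)))) (.node (.node (.leaf (.rl 4 4 [15, 28, 49, 101, 123, 143] [146] [30, 48, 31, 65, 49, 31, 70, 36, 30, 30, 30, 164, 484] false)) (.leaf (.rl 5 4 [24, 40, 52, 99, 121, 151, 167] [43, 45, 45, 43, 226] [94, 42, 44, 1818, 207, 5252] false))) (.leaf (.rl 4 4 [10, 70, 65, 104, 113, 155, 166] [160] [36, 65, 49, 31, 70, 30, 48, 64, 30, 160] false))))) (.node (.node (.node (.node (.leaf (.rl 10 1 [5, 66, 92, 133, 144] [330] [] false)) (.leaf (.rl 14 1 [11, 73, 49, 82, 113, 157] [4426] [] false))) (.node (.leaf (.rl 4 4 [7, 74, 66, 134, 152, 166] [150, 204, 206, 206, 2008] [48, 36, 64, 164, 484] false)) (.leaf (.rl 4 4 [23, 39, 62, 103, 119, 152] [146, 5816, 5926, 5930, 5928, 6470] [30, 32, 34, 30, 146] false)))) (.node (.node (.leaf (.rl 4 4 [24,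 73, 65, 101, 124, 144, 166] [146] [64, 30, 48, 36, 64, 146, 207, 942] false)) (.leaf (.rl 10 1 [12, 32, 65, 103, 132, 154] [5450] [] false))) (.leaf (.rl 4 4 [7, 74, 51, 89, 88, 159, 167] [160] [64, 32, 48, 35, 49, 35, 134, 44, 42, 45, 45, 43, 95, 1134] false)))) (.node (.node (.node (.leaf (.rl 4 2 [10, 70, 62, 103, 156] [146] [30, 36, 64, 34, 31, 31, 49, 37, 622] false)) (.leaf (.rl 5 4 [16, 71, 62, 79, 131, 168, 166] [43, 43, 45, 202] [94, 42, 44, 44, 43, 45, 45, 178, 262, 344, 262, 345, 4738] false))) (.leaf (.rl 9 1 [14, 40, 66, 81, 121, 144, 166] [2890] [] false))) (.node (.node (.leaf (.rl 4 4 [3, 72, 53, 96, 131, 143] [146] [34, 32, 36, 32, 164, 484, 207, 207, 1352] false)) (.leaf (.rl 23 1 [19, 74, 99, 115, 157, 166] [5658, 5926] [5926] false))) (.leaf (.rl 4 4 [17, 68, 53, 91, 117, 151, 167] [164, 484, 206, 1064] [64, 30, 48, 64, 34, 146] false)))))) (.node (.node (.node (.node (.node (.leaf (.rl 1 4 [20,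 28, 60, 103, 118, 151, 167] [28, 30, 30, 30, 150] [10, 10, 10, 6, 10, 10, 28, 48, 34, 30, 146] false)) (.leaf (.rl 1 4 [13, 68, 65, 98, 115, 143, 167] [28, 182, 520, 142, 288, 142, 4292] [8, 6, 10, 10, 8, 6, 10, 10, 8, 28] false))) (.node (.leaf (.rl 4 4 [14, 42, 50, 94, 133, 144, 167] [150, 204, 206, 574] [48, 36, 48, 36, 48, 146] false)) (.leaf (.rl 4 4 [7, 28, 65, 103, 134, 159, 166] [150, 204, 5140, 5350, 5178, 5106, 6332] [30, 36, 64, 34, 150, 204] false)))) (.node (.node (.leaf (.rl 7 1 [13, 39, 49, 89, 117, 168, 166] [1226] [] false)) (.leaf (.rl 5 2 [24, 32, 67, 91, 119, 154, 167] [43, 43, 45, 202] [94, 42, 44, 44, 43, 45, 45, 5236] false))) (.leaf (.rl 10 1 [16, 45, 65, 97, 130, 154] [3274] [] false)))) (.node (.node (.node (.leaf (.rl 7 1 [20, 31, 56, 104, 117, 171, 167] [714] [] false)) (.leaf (.rl 14 1 [22, 71, 54, 103, 113, 168, 167] [4810] [] false))) (.node (.leaf (.rl 4 4 [11, 26, 50, 80, 121, 157]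 [154] [36, 48, 30, 36, 166, 170, 168, 209, 171, 209, 1478] false)) (.leaf .dfn))) (.node (.node (.leaf (.rl 4 4 [9, 39, 53, 80, 133, 156, 167] [146, 1458] [64, 30, 36, 31, 31, 49, 37, 622] false)) (.leaf (.rl 9 1 [9, 41, 38, 102, 134, 153, 167] [5834] [] false))) (.leaf (.rl 4 4 [18, 44, 52, 95, 119, 159, 166] [160] [64, 48, 36, 30, 160, 3744] false))))) (.node (.node (.node (.node (.leaf (.rl 10 1 [6, 31, 58, 92, 114, 157] [458] [] false)) (.leaf (.rl 14 1 [22, 69, 66, 92, 112, 159, 167] [4554] [] false))) (.node (.leaf (.rl 4 4 [9, 26, 53, 91, 88, 169, 166] [150, 204] [48, 64, 30, 64, 30, 160, 262, 344, 263, 1982] false)) (.leaf (.rl 4 4 [5, 27, 52, 81, 121, 152] [164, 484, 5700, 5926, 5928, 5930, 6592] [36, 30, 64, 48, 164, 484] false)))) (.node (.node (.leaf (.rl 4 4 [21, 73, 59, 96, 121, 171, 167] [146, 207, 1328] [36, 64, 48, 32, 146] false)) (.leaf (.rl 5 4 [16, 42, 60, 94, 112] [43, 45, 43, 3148, 529, 1034]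 [44, 94, 42, 44, 43, 95, 45, 5212] false))) (.leaf (.rl 4 4 [23, 32, 53, 104, 119, 157] [160, 344, 263, 345, 378] [64, 30, 36, 150, 204] false)))) (.node (.node (.node (.leaf (.rl 4 4 [16, 28, 60, 90, 113, 155, 167] [146] [34, 48, 30, 34, 146, 206, 364] false)) (.leaf (.rl 5 4 [22, 30, 63, 95, 113, 156] [43, 43, 45, 45, 43, 2160, 207, 207, 4614] [94, 42, 44, 43, 45, 45, 95, 4556] false))) (.leaf (.rl 9 1 [24, 26, 64, 100, 134, 144, 167] [3018] [] false))) (.node (.node (.leaf (.rl 4 4 [16, 39, 52, 79, 123] [146, 788] [48, 30, 64, 36, 32, 160] false)) (.leaf (.rl 25 1 [8, 46, 56, 80, 120, 168, 167] [5118, 5118, 5114, 6086] [6086] false))) (.leaf (.rl 10 1 [3, 70, 53, 93, 119, 153, 166] [4042] [] false))))))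

def kSrc48 : Tr Src :=
  .node kSrc46 kSrc47

def kSrc49 : Tr Src :=
  .node (.node (.node (.node (.node (.node (.leaf (.rl 1 1 [22, 26] [11, 7, 9, 7, 11, 7, 9, 11, 11, 11, 7, 9, 10, 6, 10, 10, 10, 8, 6, 10, 6, 8, 6, 10, 40] [40] true)) (.leaf (.rl 10 1 [10, 68, 67, 92, 117, 152] [4138] [] false))) (.node (.leaf (.rl 7 1 [18, 29, 59, 99, 112, 144, 166] [2090] [] false)) (.leaf (.rl 21 1 [33, 42, 61, 102, 122, 170] [5082, 6186] [6186] false)))) (.node (.node (.leaf (.rl 4 4 [12, 40, 50, 97, 88, 170, 167] [146, 316] [48, 30, 48, 30, 160] false)) (.leaf (.rl 10 1 [24, 71, 59, 92, 119, 168, 167] [5162] [] false))) (.leaf (.rl 4 4 [11, 32, 66, 94, 88, 169, 167] [154, 528, 452, 236, 157, 453, 529, 1058] [36, 64, 160] false)))) (.node (.node (.node (.leaf (.rl 7 1 [20, 42, 56, 96, 117, 152, 166] [554] [] false)) (.leaf (.rl 14 1 [7, 32, 57, 100, 133, 166] [4650] [] false))) (.node (.leaf (.rl 4 4 [12, 72, 62, 100, 130,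 171, 167] [150, 204, 207, 1010] [48, 30, 64, 48, 31, 56] false)) (.leaf (.rl 4 4 [8, 26, 37, 98, 121, 168] [164, 484, 5646, 5926, 5930, 5090, 5088, 6694] [64, 36, 32, 30, 150, 204] false)))) (.node (.node (.leaf (.rl 7 1 [6, 46, 61, 96, 133, 155, 167] [1578] [] false)) (.leaf (.rl 5 4 [18, 42, 90, 115, 167] [43, 45, 45, 43, 226, 263, 5422] [44, 94, 42, 44, 44, 43, 43, 95, 218] false))) (.leaf (.rl 4 4 [23, 30, 55, 82, 134, 158] [160] [48, 30, 64, 31, 35, 49, 50, 44, 94, 42, 44, 43, 43, 45, 1976] false))))) (.node (.node (.node (.node (.leaf (.rl 6 1 [20, 26, 63, 82, 151, 167] [298] [] false)) (.leaf (.rl 4 4 [6, 46, 61, 104, 151, 166] [138, 142, 184, 184, 184, 4280] [34, 30, 48, 138, 184, 288, 288, 184, 140, 4286] true))) (.node (.leaf (.rl 4 4 [24, 70, 49, 98, 113, 170] [150, 204, 206, 2172] [48, 64, 32, 30, 154] false)) (.leaf (.rl 4 4 [22, 32, 49, 95, 114, 171, 167] [146, 206, 206, 5260, 5926, 5930, 5928, 5930,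 6430] [32, 36, 48, 64, 34, 146] false)))) (.node (.node (.leaf (.rl 4 4 [33, 32, 52, 101, 133, 152, 167] [146] [30, 48, 32, 31, 35, 49, 50, 42, 42, 44, 912] false)) (.leaf (.rl 5 4 [23, 39, 37, 92, 131, 166] [43, 43, 45, 202, 207, 2690] [42, 44, 43, 43, 45, 45, 5236] false))) (.leaf (.rl 10 1 [5, 40, 102, 155] [3370] [] false)))) (.node (.node (.node (.leaf (.rl 4 4 [11, 29, 60, 99, 132, 152, 167] [31, 65, 49, 31, 70, 34, 48, 30, 34, 160] [64, 34, 32, 160] false)) (.leaf (.rl 14 1 [11, 42, 64, 89, 112, 170] [4906] [] false))) (.leaf (.rl 4 4 [8, 73, 67, 81, 133, 152, 166] [154, 452, 236, 157, 453, 2326] [48, 30, 64, 32, 146] false))) (.node (.node (.leaf (.rl 4 4 [11, 39, 51, 103, 119, 168, 167] [146] [48, 32, 36, 32, 35, 49, 35, 134, 94, 42, 44, 43, 45, 43, 95, 588] false)) (.leaf (.rl 23 1 [4, 72, 65, 91, 114, 169, 167] [5724, 5926] [5926] false))) (.leaf (.rl 4 2 [24, 39, 37, 104, 130, 153, 166] [164, 484] [64,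 48, 30, 30, 35, 49, 35, 134] false)))))) (.node (.node (.node (.node (.node (.leaf (.rl 4 1 [13, 29, 49] [166] [] false)) (.leaf (.rl 5 4 [26, 38, 100, 116, 155, 166] [45, 84, 94, 44, 42, 42, 95, 3298] [94, 44, 44, 95, 3298] false))) (.node (.leaf (.rl 4 4 [6, 32, 58, 98, 132] [146] [64, 48, 64, 32, 30, 35, 49, 35, 134, 44, 44, 94, 45, 912] false)) (.leaf (.rl 4 4 [22, 70, 51, 99, 117, 159, 167] [146, 5546, 5104, 5352, 5178, 6298] [30, 36, 64, 30, 164, 484] false)))) (.node (.node (.leaf (.rl 4 4 [19, 73, 55, 112, 171, 167] [146, 1050] [64, 34, 34, 31, 49, 37, 622] false)) (.leaf (.rl 4 4 [6, 71, 61, 99, 114, 170, 166] [31, 56, 42, 42, 44, 5194] [32, 48, 64, 30, 48, 146] false))) (.leaf (.rl 4 2 [5, 73, 60, 104, 123, 157, 166] [160] [30, 64, 164, 484] false)))) (.node (.node (.node (.leaf (.rl 4 4 [3, 56, 82, 88, 153, 166] [138, 288, 288, 142, 289, 143, 652] [30, 64, 166] false)) (.leaf (.rl 14 1 [8, 28, 52, 95,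 130, 155] [4778] [] false))) (.node (.leaf (.rl 9 1 [23, 45, 60, 81, 117, 151, 166] [2730] [] false)) (.leaf (.rl 4 4 [24, 59, 90, 134, 170, 166] [160, 344, 263, 345, 263, 5508, 5926, 5088, 6812] [64, 48, 64, 32, 35, 49, 50] false)))) (.node (.node (.leaf (.rl 4 4 [17, 41, 60, 81, 119, 170, 166] [146, 728] [48, 64, 30, 36, 30, 160] false)) (.leaf (.rl 5 4 [33, 28, 64, 97, 120, 155, 167] [43, 95, 45, 45, 324, 4420] [42, 42, 44, 44, 5194, 5350] false))) (.leaf (.rl 10 1 [4, 69, 89, 168, 166] [3754] [] false))))) (.node (.node (.node (.node (.leaf (.rl 10 1 [18, 69, 53, 90, 114, 167] [426] [] false)) (.leaf (.rl 7 1 [19, 28, 63, 104, 116, 143, 167] [4522] [] false))) (.node (.leaf (.rl 4 4 [20, 45, 65, 100, 132, 166] [150, 204, 207, 2118] [32, 30, 64, 36, 48, 146] false)) (.leaf (.rl 4 4 [5, 29, 51, 91, 120, 158, 167] [150, 204, 207, 5358, 5926, 5930, 5092, 6554] [36, 32, 64, 48, 32, 146] false)))) (.node (.node (.leaf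 (.rl 4 4 [4, 74, 67, 100, 157] [146, 562] [36, 32, 64, 32, 160] false)) (.leaf (.rl 5 4 [12, 39, 37, 99, 123, 144, 167] [43, 45, 43, 3148] [94, 44, 43, 95, 45, 5212, 5240, 5406, 5101, 5241, 5339, 5536] false))) (.leaf (.rl 4 4 [22, 27, 52, 97, 115, 155] [160] [36, 32, 34, 154, 452, 156, 529, 2398] false)))) (.node (.node (.node (.leaf (.rl 4 4 [20, 42, 65, 102, 116, 144, 166] [146] [34, 48, 30, 35, 49, 35, 134, 45, 45, 608] false)) (.leaf (.rl 14 1 [5, 69, 51, 81, 133, 154, 167] [5034] [] false))) (.leaf (.rl 7 1 [5, 41, 66, 79, 113, 158] [2986] [] false))) (.node (.node (.leaf (.rl 4 4 [4, 29, 60, 102, 117, 167] [146, 207, 1864] [30, 36, 64, 30, 150, 204] false)) (.leaf (.rl 5 4 [7, 46, 38, 91, 115, 159] [43, 43, 45, 45, 5458, 5926] [44, 116, 94, 44, 43, 43, 45, 45, 5458, 5926] false))) (.leaf (.rl 4 4 [16, 45, 50, 90, 118, 154, 167] [166, 208, 208, 194, 208, 170, 168, 171, 209, 171, 551, 209, 1114] [36, 48, 48,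 32, 48, 160] false))))))

def kSrc50 : Tr Src :=
  .node (.node (.node (.node (.node (.node (.leaf (.rl 5 4 [21, 68, 60, 100, 118, 169, 166] [43, 45, 43, 43, 80, 44, 94, 45, 43, 43, 90] [94, 43, 90] false)) (.leaf (.rl 5 4 [16, 46, 67, 82, 118, 144, 166] [43, 45, 45, 43, 226] [94, 45, 95, 128, 94, 44, 44, 43, 45, 45, 43, 226] false))) (.node (.leaf (.rl 7 1 [13, 69, 59, 99, 131, 159] [2154] [] false)) (.leaf (.rl 9 1 [73, 52, 82, 168, 167] [6246] [] false)))) (.node (.node (.leaf (.rl 4 4 [12, 69, 54, 89, 115, 167] [146, 207, 628] [30, 32, 48, 35, 49, 35, 134] false)) (.leaf (.rl 28 1 [22, 29, 37, 96, 133, 171] [5226] [] false))) (.leaf (.rl 4 4 [8, 73, 52, 92, 134, 158, 167] [154, 452, 236, 157, 3150] [32, 64, 32, 30, 154] false)))) (.node (.node (.node (.leaf (.rl 4 4 [33, 28, 67, 82, 88, 155, 167] [138, 140, 288, 288, 185, 185, 276, 550, 208, 168, 550, 169, 171, 209, 171, 209, 616] [] false)) (.leaf (.rl 10 1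 [21, 26, 59, 102, 114, 159, 166] [4714] [] false))) (.node (.leaf (.rl 4 4 [21, 26, 37] [154] [34, 48, 48, 48, 35, 49, 50, 44, 44, 94, 42, 45, 45, 43, 268] false)) (.leaf (.rl 4 4 [8, 29, 57, 92, 123, 156, 166] [146, 5286, 5926, 5930, 5928, 5090, 5088, 6744] [32, 48, 32, 64, 30, 160] false)))) (.node (.node (.leaf (.rl 4 4 [22, 74, 57, 96, 112, 144, 167] [146] [64, 34, 48, 34, 174, 520, 142, 184, 142, 288, 141, 185, 289, 185, 143, 680] false)) (.leaf (.rl 5 4 [20, 28, 65, 102, 116, 144, 166] [43, 45, 43, 43, 90, 44, 42, 42, 44, 44, 95, 45, 5212] [42, 44, 44, 43, 95, 45, 1426] false))) (.leaf (.rl 4 4 [18, 97, 130, 168] [160] [31, 70, 30, 48, 64, 30, 48, 160] false))))) (.node (.node (.node (.node (.leaf (.rl 7 1 [3, 61, 102, 133, 152, 167] [362] [] false)) (.leaf (.rl 7 1 [19, 32, 65, 100, 133, 171, 166] [4458] [] false))) (.node (.leaf (.rl 4 4 [4, 41, 55, 101, 152, 167] [150, 204] [34, 48, 48, 48, 30, 146, 206,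 206, 1800] false)) (.leaf (.rl 4 4 [12, 45, 54, 98, 115, 158, 166] [164, 484, 207, 207, 5304, 5926, 5928, 5930, 5090, 6488] [32, 48, 32, 36, 146] false)))) (.node (.node (.leaf (.rl 7 1 [7, 71, 67, 102, 132, 166] [1386] [] false)) (.leaf (.rl 5 4 [12, 74, 64, 95, 120, 169, 167] [43, 43, 45, 202] [42, 44, 42, 45, 43, 43, 45, 45, 122, 42, 42, 44, 95, 5282] false))) (.leaf (.rl 4 4 [10, 39, 64, 100, 88, 152, 167] [160] [34, 64, 32, 36, 31, 49, 37, 622, 207, 2684] false)))) (.node (.node (.node (.leaf (.rl 4 2 [8, 68, 54, 96, 112, 154, 166] [146] [64, 32, 34, 160] false)) (.leaf (.rl 5 4 [32, 55, 98, 130, 156, 167] [43, 45, 43, 3148, 528, 452, 156, 453, 4386] [44, 44, 42, 42, 45, 43, 2996] false))) (.leaf (.rl 10 1 [23, 42, 58, 113, 158, 167] [2922] [] false))) (.node (.node (.leaf (.rl 4 4 [33, 46, 56, 82, 133, 151, 167] [146] [64, 138, 184, 288, 184, 184, 141, 185, 289, 185, 143, 680] false)) (.leaf (.rl 22 1 [23,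 44, 66, 104, 116, 152, 167] [5994] [] false))) (.leaf (.rl 7 1 [24, 42, 66, 91, 132, 144, 166] [3946] [] false)))))) (.node (.node (.node (.node (.node (.leaf (.rl 1 4 [12, 39, 67, 96, 131, 144, 166] [40, 44, 42, 42, 44, 43, 43, 45, 45, 188] [6, 10, 6, 28, 64, 36, 48, 154] false)) (.leaf (.rl 16 1 [19, 69, 63, 91, 113, 171] [4330] [] false))) (.node (.leaf (.rl 7 1 [18, 70, 62, 104, 123, 152, 166] [2282] [] false)) (.leaf (.rl 4 4 [8, 45, 55, 91, 119, 171, 166] [146, 5216, 5926, 5928, 5930, 5088, 6368] [30, 36, 164, 484] false)))) (.node (.node (.leaf (.rl 4 4 [19, 73, 61, 97, 122, 155] [146] [48, 36, 30, 34, 138, 142, 184, 184, 142, 140, 289, 289, 143, 652] false)) (.leaf (.rl 10 1 [6, 40, 94, 152] [5354] [] false))) (.leaf (.rl 4 4 [14, 69, 56, 80, 133, 154] [160, 262, 1164] [34, 64, 48, 32, 146] false)))) (.node (.node (.node (.leaf (.rl 7 1 [23, 43, 64, 96, 114, 168] [746] [] false)) (.leaf (.rl 7 1 [33, 43,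 52, 99, 117, 152, 166] [4842] [] false))) (.node (.leaf (.rl 9 1 [24, 26, 67, 104, 116, 170, 167] [2794] [] false)) (.leaf .dfn))) (.node (.node (.leaf (.rl 4 4 [8, 30, 57, 94, 134, 170, 167] [146] [64, 32, 36, 154, 528, 236, 453, 529, 1058] false)) (.leaf (.rl 5 4 [71, 53, 91, 151, 167] [45, 43, 43, 45, 1976, 5314] [42, 42, 44, 43, 45, 5196] false))) (.leaf (.rl 10 1 [11, 41, 59, 94, 124, 170, 167] [3818] [] false))))) (.node (.node (.node (.node (.leaf (.rl 10 1 [22, 31, 59, 82, 114, 152, 167] [490] [] false)) (.leaf (.rl 7 1 [14, 40, 55, 82, 115, 167] [4586] [] false))) (.node (.leaf (.rl 7 1 [6, 41, 63, 121, 157, 167] [2538] [] false)) (.leaf (.rl 4 4 [20, 73, 52, 103, 120, 151, 167] [31, 56, 42, 44, 44, 43, 95, 45, 5212, 5926, 5092, 6618] [48, 48, 146] false)))) (.node (.node (.leaf (.rl 4 4 [3, 46, 52, 94, 123, 152, 167] [146] [32, 64, 35, 49, 35, 134, 44, 44, 42, 95, 45, 45, 324] false)) (.leaf (.rl 5 4 [3,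 74, 37, 79, 112, 169] [43, 45, 43, 3148, 236, 529, 5248] [94, 44, 44, 43, 43, 45, 4104] false))) (.leaf (.rl 10 1 [12, 26, 63, 100, 118, 151] [3562] [] false)))) (.node (.node (.node (.leaf (.rl 4 4 [19, 73, 63, 93, 116, 167] [146, 206, 720] [34, 30, 48, 34, 146] false)) (.leaf (.rl 12 1 [13, 30, 37, 80, 132, 166] [551, 169, 208, 208, 208, 168, 5096] [5096] false))) (.leaf (.rl 4 4 [4, 42, 66, 79, 132, 153, 167] [154, 236, 157, 2850] [64, 36, 34, 32, 160] false))) (.node (.node (.leaf (.rl 7 1 [21, 44, 53, 98, 122, 168, 166] [2026] [] false)) (.leaf (.rl 7 4 [33, 71, 60, 96, 120, 156, 167] [2110] [5372, 5274, 5118, 6086] false))) (.leaf (.rl 4 4 [18, 32, 96, 124] [31, 31, 49, 37, 622] [48, 48, 36, 48, 166, 208, 208, 208, 169, 209, 171, 894] false))))))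

def kSrc51 : Tr Src :=
  .node kSrc49 kSrc50

def kSrc52 : Tr Src :=
  .node kSrc48 kSrc51

def kSrc53 : Tr Src :=
  .node (.node (.node (.node (.node (.node (.leaf .dfn) (.leaf (.rl 7 1 [10, 62, 90, 130, 170, 166] [4122] [] false))) (.node (.leaf (.rl 7 1 [8, 73, 66, 104, 120, 158, 167] [2074] [] false)) (.leaf (.rl 21 1 [20, 45, 60, 81, 123, 151, 167] [5081, 5234, 6168] [6168] false)))) (.node (.node (.leaf (.rl 4 4 [7, 72, 63, 89, 113, 152] [146, 1046] [32, 30, 166] false)) (.leaf (.rl 28 1 [8, 63, 131, 144, 167] [5146] [] false))) (.leaf (.rl 4 4 [12, 26, 62, 99, 120, 170, 167] [154, 156, 237, 529, 2486] [30, 34, 30, 160] false)))) (.node (.node (.node (.leaf (.rl 7 1 [71, 53, 93, 124, 159, 167] [538] [] false)) (.leaf (.rl 14 1 [7, 27, 58, 82, 116, 167] [4634] [] false))) (.node (.leaf (.rl 4 4 [16, 27, 58, 104, 116, 159, 166] [150, 204] [64, 48, 34, 48, 31, 31, 49, 37, 622, 207, 2182] false)) (.leaf .dfn)))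 (.node (.node (.leaf (.rl 4 4 [16, 71, 56, 97, 130, 154, 167] [146] [30, 48, 32, 64, 30, 146, 1136] false)) (.leaf (.rl 5 4 [17, 29, 58, 82, 115, 158, 166] [43, 45, 45, 43, 226, 5482] [94, 44, 43, 43, 45, 43, 43, 904] false))) (.leaf (.rl 4 4 [3, 40, 59, 82, 123, 156, 167] [160, 3384] [34, 48, 48, 30, 48, 160] false))))) (.node (.node (.node (.node (.leaf (.rl 4 2 [23, 44, 38, 91, 116, 168, 166] [138] [64, 30, 64, 30, 146] false)) (.leaf (.rl 4 4 [8, 46, 49, 92, 132, 154] [138, 140, 4286] [64, 30, 48, 31, 31, 49, 37, 622] false))) (.node (.leaf (.rl 7 1 [17, 39, 49, 97, 120, 158, 166] [2330] [] false)) (.leaf .dfn))) (.node (.node (.leaf (.rl 4 4 [10, 44, 65, 79, 121, 143, 166] [146] [48, 36, 30, 30, 166, 208, 208, 208, 194, 169, 209, 171, 894] false)) (.leaf (.rl 7 1 [9, 73, 65, 89, 124, 155] [5402] [] false))) (.leaf (.rl 4 4 [18, 43, 50, 101, 118, 156, 167] [160] [30, 34, 32, 30, 150, 204, 206, 206, 1330] false))))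 (.node (.node (.node (.leaf (.rl 4 4 [3, 73, 66, 79, 117, 144, 167] [31, 65, 49, 31, 70, 30, 64, 48, 36, 30, 166] [48, 64, 36, 48, 166] false)) (.leaf (.rl 14 1 [9, 32, 60, 114, 144] [4890] [] false))) (.leaf (.rl 7 1 [7, 69, 90, 121, 158, 166] [2842] [] false))) (.node (.node (.leaf (.rl 4 4 [20, 26, 63, 80, 117, 170, 166] [146, 207, 336] [30, 64, 48, 30, 30, 160] false)) (.leaf (.rl 5 4 [72, 63, 95, 112, 157, 167] [45, 43, 124, 42, 5196] [45, 5196] false))) (.leaf (.rl 10 1 [7, 74, 52, 99, 117, 153, 166] [3866] [] false)))))) (.node (.node (.node (.node (.node (.leaf (.rl 4 1 [24, 32, 55, 82, 115, 151] [49, 37, 32, 48, 32, 36, 154] [154] false)) (.leaf (.rl 5 4 [18, 53, 81, 117, 144, 167] [45, 95, 3024] [94, 44, 44, 43, 45, 43, 43, 90, 42, 45, 95, 2934] false))) (.node (.leaf (.rl 5 1 [9, 72, 58, 97, 132, 155] [2202] [] false)) (.leaf .dfn))) (.node (.node (.leaf (.rl 4 4 [43, 65, 102, 123, 156, 166] [146] [30,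 64, 48, 30, 30, 146, 206, 318] false)) (.leaf (.rl 4 4 [6, 31, 58, 79, 113, 152, 166] [166, 194, 168, 5102] [48, 30, 64, 48, 34, 146] false))) (.leaf (.rl 4 4 [21, 73, 60, 93, 119, 153, 167] [154, 157, 529, 2124] [30, 48, 32, 150, 204] false)))) (.node (.node (.node (.leaf (.rl 7 1 [22, 53, 89, 130, 158, 167] [666] [] false)) (.leaf (.rl 10 1 [17, 30, 37, 97, 134, 144, 167] [4762] [] false))) (.node (.leaf (.rl 9 1 [15, 70, 65, 96, 88, 168, 167] [2714] [] false)) (.leaf .dfn))) (.node (.node (.leaf (.rl 4 4 [15, 71, 65, 96, 120, 153] [146] [64, 36, 146, 1492] false)) (.leaf (.rl 24 1 [8, 32, 51, 100, 112, 159, 167] [5786] [] false))) (.leaf (.rl 4 4 [23, 44, 37, 104, 130, 143] [160] [32, 34, 31, 56, 94, 266] false))))) (.node (.node (.node (.node (.leaf (.rl 7 1 [14, 26, 53, 131, 151, 166] [410] [] false)) (.leaf (.rl 7 1 [13, 68, 49, 100, 113, 171] [4506] [] false))) (.node (.leaf (.rl 7 1 [16, 39, 61, 91, 116,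 144, 167] [2458] [] false)) (.leaf .dfn))) (.node (.node (.leaf (.rl 4 4 [4, 73, 53, 101, 133, 157, 167] [146] [48, 64, 48, 36, 49, 35, 134, 94, 44, 44, 42, 42, 45, 45, 612] false)) (.leaf (.rl 23 1 [22, 31, 55, 82, 88, 171, 166] [5530] [] false))) (.leaf (.rl 7 1 [71, 61, 97, 121, 170, 167] [3482] [] false)))) (.node (.node (.node (.leaf (.rl 4 2 [14, 70, 59, 99, 114, 158, 166] [146] [30, 48, 32, 64, 30, 160] false)) (.leaf (.rl 5 4 [20, 32, 52, 99, 123, 154, 167] [43, 45, 43, 43, 80, 94, 44, 44, 43, 45, 45, 95, 4556] [42, 4720] false))) (.leaf (.rl 9 1 [17, 74, 60, 100, 124, 154, 166] [2970] [] false))) (.node (.node (.leaf (.rl 7 1 [9, 30, 63, 102, 113, 158, 167] [1946] [] false)) (.leaf (.rl 5 4 [20, 43, 64, 89, 123, 170] [45, 43, 88, 94, 42, 44, 44, 95, 5392] [94, 42, 44, 42, 95, 5392] false))) (.leaf (.rl 4 4 [16, 40, 59, 81, 134, 167] [31, 35, 49, 50, 45, 43, 2996] [36, 48, 48, 48, 30, 146] false))))))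

def kSrc54 : Tr Src :=
  .node (.node (.node (.node (.node (.node (.leaf (.rl 1 4 [7, 28, 66, 97, 114, 159, 166] [40] [10, 8, 6, 10, 6, 10, 10, 8, 6, 28, 36, 48, 48, 31, 56] false)) (.leaf (.rl 5 4 [16, 40, 50, 98, 133, 154, 166] [43, 45, 43, 3148, 528, 452, 156, 237, 529, 3626] [94, 42, 45, 43, 43, 198] false))) (.node (.leaf (.rl 4 4 [22, 71, 51, 100, 134, 166] [146] [34, 64, 36, 48, 174, 520, 140, 288, 288, 184, 142, 141, 185, 289, 185, 143, 680] false)) (.leaf (.rl 22 1 [14, 72, 67, 89, 122, 153, 166] [6234] [] false)))) (.node (.node (.leaf (.rl 4 4 [33, 70, 57, 103, 132, 156, 166] [146, 207, 388] [48, 32, 36, 32, 160] false)) (.leaf (.rl 4 4 [9, 31, 38, 82, 114, 154] [35, 49, 35, 134] [48, 64, 32, 30, 166, 208, 168, 5096] false))) (.leaf (.rl 9 1 [15, 27, 64, 130, 171, 166] [3162] [] false)))) (.node (.node (.node (.leaf (.rl 4 4 [23, 55, 79, 122, 156, 167] [138, 184, 184, 143, 185, 185, 143, 290] [64, 48,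 32, 64, 32, 160] false)) (.leaf (.rl 14 1 [8, 68, 65, 93, 114, 159, 167] [4698] [] false))) (.node (.leaf (.rl 4 2 [24, 32, 59, 104, 121, 151] [154] [64, 30, 32, 31, 31, 49, 37, 622] false)) (.leaf .dfn))) (.node (.node (.leaf (.rl 4 4 [19, 26, 56, 103, 117, 171, 167] [146] [48, 35, 49, 35, 134, 94, 42, 45, 43, 632] false)) (.leaf (.rl 5 4 [5, 71, 67, 90, 132, 155, 166] [45, 43, 43, 45, 45, 122, 42, 44, 44, 42, 95, 45, 5212] [44, 95, 45, 5212] false))) (.leaf (.rl 4 4 [23, 50, 93, 133, 143, 167] [160] [48, 48, 32, 164, 484, 2136] false))))) (.node (.node (.node (.node (.leaf (.rl 9 1 [20, 30, 38, 81, 123, 159] [346] [] false)) (.leaf (.rl 14 1 [18, 32, 56, 90, 124, 158] [4442] [] false))) (.node (.leaf (.rl 4 4 [9, 28, 61, 88, 143, 166] [150, 204, 207, 382] [64, 32, 154] false)) (.leaf .dfn))) (.node (.node (.leaf (.rl 4 4 [9, 68, 59, 81, 118, 159, 166] [146, 207, 1348] [48, 48, 48, 30, 32, 154] false)) (.leaf (.rl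 5 4 [19, 44, 58, 103, 119, 155, 166] [43, 43, 45, 202, 206, 206, 5308] [42, 42, 44, 44, 43, 45, 45, 43, 43, 736] false))) (.leaf (.rl 4 4 [9, 27, 57, 94, 155, 167] [160, 262, 344, 262, 442] [34, 32, 64, 32, 30, 146] false)))) (.node (.node (.node (.leaf (.rl 7 1 [24, 41, 38, 79, 124, 156] [858] [] false)) (.leaf (.rl 14 1 [17, 45, 64, 90, 113, 156, 167] [4954] [] false))) (.leaf (.rl 4 4 [4, 29, 38, 98, 117, 159, 167] [154, 452, 237, 453, 529, 1592] [64, 48, 34, 64, 32, 160] false))) (.node (.node (.leaf (.rl 4 4 [17, 74, 65, 99, 133, 170] [146] [48, 32, 36, 31, 31, 49, 37, 622, 207, 1788] false)) (.leaf (.rl 10 1 [27, 49, 124, 155] [5978] [] false))) (.leaf (.rl 7 1 [14, 71, 65, 79, 121, 156, 166] [3930] [] false)))))) (.node (.node (.node (.node (.node (.leaf (.rl 1 4 [18, 30, 55, 81, 121, 153, 166] [28, 32, 36, 34, 138] [10, 10, 6, 8, 6, 10, 6, 10, 40] false)) (.leaf (.rl 4 4 [19, 29, 60, 81, 123, 151, 167] [138,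 140, 288, 142, 184, 4288] [64, 36, 32, 34, 31, 31, 49, 37, 622] false))) (.node (.leaf (.rl 4 4 [13, 43, 52, 91, 121, 144] [150, 204, 206, 206, 2138] [36, 32, 64, 48, 166] false)) (.leaf .dfn))) (.node (.node (.leaf (.rl 7 1 [12, 32, 67, 91, 119, 155, 166] [1242] [] false)) (.leaf (.rl 5 4 [14, 32, 55, 81, 133, 167] [43, 43, 45, 202, 206, 5190] [94, 44, 43, 43, 1678] false))) (.leaf (.rl 10 1 [10, 30, 56, 91, 114, 169, 167] [3290] [] false)))) (.node (.node (.node (.leaf (.rl 7 1 [11, 42, 61, 101, 115, 158] [730] [] false)) (.leaf (.rl 7 1 [15, 46, 54, 93, 116, 169, 166] [4826] [] false))) (.node (.leaf (.rl 4 4 [5, 52, 80, 116, 144, 166] [154] [64, 48, 64, 34, 154, 529, 1172] false)) (.leaf (.rl 4 4 [6, 28, 57, 90, 158, 166] [138, 142, 184, 140, 4286, 4396, 4400, 4400, 4338, 6864] [30, 34, 30, 30, 30, 146] false)))) (.node (.node (.leaf (.rl 4 4 [20, 41, 62, 94, 117, 157] [146, 1006] [34, 48, 64, 48, 32, 160] false))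 (.leaf (.rl 5 4 [8, 31, 57, 95, 116] [43, 45, 45, 43, 43, 45, 3760, 206, 5190] [44, 44, 94, 45, 5196] false))) (.leaf (.rl 4 4 [7, 70, 99, 114, 157] [160, 262, 344, 262, 345, 263, 1740] [622] false))))) (.node (.node (.node (.node (.leaf (.rl 10 1 [3, 29, 51, 95, 120, 170, 166] [474] [] false)) (.leaf (.rl 7 1 [14, 70, 50, 100, 116, 151, 166] [4570] [] false))) (.node (.leaf (.rl 4 4 [24, 40, 62, 96, 116, 158] [150, 204] [64, 36, 30, 150, 204, 206, 2272] false)) (.leaf .dfn))) (.node (.node (.leaf (.rl 4 4 [5, 46, 58, 95, 134, 144, 167] [146] [30, 64, 36, 30, 164, 484, 642] false)) (.leaf (.rl 5 4 [4, 28, 52, 92, 121, 157, 167] [43, 45, 43, 3148] [95, 120, 42, 42, 44, 42, 95, 5392] false))) (.leaf (.rl 4 4 [11, 43, 54, 102, 121, 153, 166] [160, 2192] [32, 48, 64, 36, 32, 160] false)))) (.node (.node (.node (.leaf (.rl 7 1 [20, 70, 62, 94, 133, 156, 166] [986] [] false)) (.leaf (.rl 12 1 [12, 29, 49] [5078] [] false)))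 (.leaf (.rl 7 1 [69, 52, 98, 114, 155] [3034] [] false))) (.node (.node (.leaf (.rl 10 1 [11, 44, 57, 101, 113, 153] [2010] [] false)) (.leaf (.rl 25 1 [15, 30, 67, 104, 117, 156] [5119, 5273, 5274, 5272, 5118, 6098] [6098] false))) (.leaf (.rl 4 4 [22, 46, 38, 100, 123, 166] [31, 31, 49, 37, 622] [48, 48, 48, 160, 262, 344, 262, 1066] false))))))

def kSrc55 : Tr Src :=
  .node kSrc53 kSrc54

def kSrc56 : Tr Src :=
  .node (.node (.node (.node (.node (.node (.leaf (.rl 1 2 [5, 26, 65, 98, 115, 169, 167] [28] [10, 8, 6, 10, 10, 10, 8, 6, 10, 10, 6, 28] false)) (.leaf (.rl 5 4 [13, 44, 67, 102, 122, 169] [43, 43, 45, 202, 578] [44, 44, 42, 42, 44, 43, 43, 45, 43, 95, 1498] false))) (.node (.leaf (.rl 10 1 [6, 70, 103, 130, 168, 167] [2106] [] false)) (.leaf (.rl 9 1 [23, 42, 38, 91, 112, 158] [156, 453, 6202] [453, 6202] false)))) (.node (.node (.leaf (.rl 4 4 [11, 68, 65, 101, 121, 166] [146] [48, 64, 48, 30, 56,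 94, 476] false)) (.leaf (.rl 4 4 [22, 42, 66, 89, 124, 155, 167] [164, 484, 5140] [48, 48, 48, 32, 160] false))) (.leaf (.rl 4 4 [13, 73, 59, 98, 121, 153] [154, 452, 236, 453, 157, 529, 2680] [34, 32, 34, 31, 49, 37, 622] false)))) (.node (.node (.node (.leaf (.rl 7 1 [3, 45, 49, 82, 123, 152, 166] [570] [] false)) (.leaf (.rl 9 1 [15, 27, 50, 79, 132, 168] [4666] [] false))) (.node (.leaf (.rl 4 4 [6, 43, 58, 80, 132, 155] [150, 204] [48, 64, 48, 36, 35, 49, 35, 134, 44, 94, 43, 45, 43, 95, 1550] false)) (.leaf .dfn))) (.node (.node (.leaf (.rl 4 4 [33, 43, 57, 100, 120, 168] [146] [36, 64, 32, 30, 30, 146, 207, 1032] false)) (.leaf (.rl 5 4 [8, 28, 64, 103, 88, 169, 166] [43, 45, 45, 43, 226, 344, 5472] [94, 45, 43, 5362] false))) (.leaf (.rl 10 1 [13, 73, 49, 97, 113, 168] [3642] [] false))))) (.node (.node (.node (.node (.leaf (.rl 10 1 [16, 39, 50, 92, 117, 169, 166] [314] [] false)) (.leaf (.rl 14 1 [4, 29,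 63, 102, 168, 166] [4410] [] false))) (.node (.leaf (.rl 4 4 [3, 74, 51, 96, 119, 170, 167] [150, 204, 207, 1876] [48, 48, 48, 30, 36, 146] false)) (.leaf .dfn))) (.node (.node (.leaf (.rl 7 1 [20, 45, 49, 103, 112, 157] [1338] [] false)) (.leaf (.rl 5 4 [14, 72, 67, 80, 120, 152, 166] [43, 43, 45, 202] [94, 43, 45, 45, 256, 345, 5168] false))) (.leaf (.rl 7 1 [17, 31, 62, 99, 132, 154] [3386] [] false)))) (.node (.node (.node (.leaf (.rl 4 2 [23, 26, 55, 82, 115, 151] [146] [34, 34, 32, 154] false)) (.leaf (.rl 10 1 [27, 64, 98, 117, 170] [4922] [] false))) (.leaf (.rl 4 4 [8, 29, 67, 90, 115, 154, 166] [154, 528, 452, 157, 529, 1854] [48, 36, 64, 30, 166] false))) (.node (.node (.leaf (.rl 4 4 [20, 41, 59, 104, 134, 156] [146] [64, 32, 160, 263, 345, 263, 1056] false)) (.leaf (.rl 23 1 [17, 32, 55, 104, 133, 154, 166] [5874, 5926] [5926] false))) (.leaf (.rl 4 4 [20, 46, 52, 103, 122, 158] [164, 484, 206, 1806]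 [36, 64, 32, 30, 30, 160] false)))))) (.node (.node (.node (.node (.node (.leaf (.rl 9 1 [9, 43, 53, 80, 117, 154] [186] [] false)) (.leaf .dfn)) (.node (.leaf (.rl 7 1 [15, 70, 50, 102, 117, 159] [2234] [] false)) (.leaf .dfn))) (.node (.node (.leaf (.rl 7 1 [7, 73, 51, 103, 121, 157, 167] [1210] [] false)) (.leaf (.rl 23 1 [24, 26, 38, 102, 114, 156, 167] [5306] [] false))) (.leaf (.rl 10 1 [15, 29, 37, 90, 123, 159, 167] [3258] [] false)))) (.node (.node (.node (.leaf (.rl 4 4 [19, 46, 63, 99, 115, 154, 166] [138, 184, 184, 140, 288, 184, 143, 289, 143, 185, 648] [48, 36, 64, 164, 484] false)) (.leaf (.rl 10 1 [7, 31, 52, 99, 118, 157] [4794] [] false))) (.node (.leaf (.rl 7 1 [9, 40, 64, 103, 113, 158, 166] [2746] [] false)) (.leaf .dfn))) (.node (.node (.leaf (.rl 4 4 [15, 71, 61, 90, 132, 157] [146, 207, 316] [36, 34, 30, 164, 484] false)) (.leaf (.rl 5 4 [19, 30, 56, 90, 168] [43, 95, 45, 45, 324, 5794] [42,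 42, 44, 44, 43, 43, 45, 45, 95, 4556] false))) (.leaf (.rl 10 1 [18, 44, 49, 96, 124, 144, 167] [3770] [] false))))) (.node (.node (.node (.node (.leaf (.rl 4 4 [5, 26, 59, 95, 119, 151, 167] [138, 184, 184, 184, 143, 185, 185, 143, 402] [64, 48, 64, 36, 32, 146] false)) (.leaf (.rl 7 1 [18, 29, 49, 91, 112, 154, 166] [4538] [] false))) (.node (.leaf (.rl 4 4 [22, 42, 57, 98, 130, 144] [150, 204] [34, 48, 30, 30, 35, 49, 35, 134, 42, 44, 44, 42, 1818] false)) (.leaf .dfn))) (.node (.node (.leaf (.rl 4 4 [7, 41, 65, 100, 115, 171, 167] [146, 207, 424] [48, 48, 48, 32, 36, 160] false)) (.leaf (.rl 5 4 [8, 27, 60, 104, 88, 151] [43, 45, 43, 3148] [44, 94, 42, 44, 43, 45, 45, 43, 374, 207, 5524] false))) (.leaf (.rl 4 4 [22, 30, 63, 80, 119, 157] [160] [30, 36, 49, 37, 622, 207, 3292] false)))) (.node (.node (.node (.leaf (.rl 4 4 [10, 30, 66, 96, 124, 169, 167] [146, 206, 760] [34, 48, 34, 166] false)) (.leaf (.rl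 5 4 [22, 29, 60, 100, 119, 169, 167] [1818, 206, 4368, 4396] [42, 44, 43, 45, 45, 95, 4556] false))) (.leaf (.rl 7 1 [13, 39, 56, 99, 144, 166] [3002] [] false))) (.node (.node (.leaf (.rl 7 1 [5, 44, 66, 79, 133, 156, 166] [1978] [] false)) (.leaf (.rl 7 4 [14, 39, 60, 79, 124, 151] [5328, 5350] [3812, 5328, 5350] false))) (.leaf (.rl 4 4 [13, 27, 52, 91, 122, 159, 166] [166, 550, 208, 194, 169, 171, 209, 171, 551, 958] [34, 64, 48, 34, 146] false))))))

def kSrc57 : Tr Src :=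
  .node (.node (.node (.node (.node (.node (.leaf (.rl 5 4 [7, 28, 56, 96, 132, 154, 167] [43, 45, 45, 43, 95, 45, 102] [44, 94, 43, 45, 45, 122, 44, 94, 42, 45, 45, 43, 95, 45, 102] false)) (.leaf (.rl 5 4 [15, 39, 51, 80, 115, 152, 166] [43, 45, 45, 43, 226] [94, 42, 45, 45, 43, 374, 206, 206, 1938] false))) (.node (.leaf (.rl 10 1 [5, 28, 49, 82, 118, 157, 166] [2170] [] false)) (.leaf (.rl 5 4 [18, 74, 51, 100, 133, 143, 166] [43, 45, 45, 95, 1216, 207, 6218] [94, 45, 43, 95, 6198] false)))) (.node (.node (.leaf (.rl 4 4 [21, 43, 63, 96, 130, 171] [146] [48, 48, 36, 164, 484, 826] false)) (.leaf (.rl 23 1 [12, 44, 67, 90, 124, 168, 167] [5242] [] false))) (.leaf (.rl 10 1 [3, 44, 62, 90, 112, 143, 166] [3194] [] false)))) (.node (.node (.node (.leaf (.rl 4 4 [10, 29, 58, 101, 88, 158, 166] [138, 184, 184, 140, 288, 184, 141, 185, 185, 185, 143, 506] [64, 32, 48, 64, 36, 154] false)) (.leaf (.rl 14 1 [6, 29,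 51, 81, 132, 159, 167] [4730] [] false))) (.node (.leaf (.rl 4 4 [5, 71, 59, 80, 134, 171] [154, 528, 236, 156, 237, 529, 1598] [64, 36, 160] false)) (.leaf .dfn))) (.node (.node (.leaf (.rl 7 1 [18, 70, 56, 104, 115, 171] [1658] [] false)) (.leaf (.rl 5 4 [21, 46, 55, 89, 118, 154, 166] [43, 45, 43, 43, 80, 94, 44, 44, 43, 45, 45, 5236] [42, 44, 44, 43, 43, 45, 45, 5236] false))) (.leaf (.rl 4 4 [12, 68, 37, 91, 114, 143] [160, 344, 263, 3438] [32, 34, 64, 48, 34, 160] false))))) (.node (.node (.node (.node (.leaf (.rl 4 4 [33, 74, 58, 99, 133, 156, 167] [138, 288, 185, 185, 298] [34, 48, 64, 34, 34, 146] false)) (.leaf (.rl 7 1 [33, 44, 53, 80, 112, 159, 166] [4474] [] false))) (.node (.leaf (.rl 4 4 [17, 70, 49, 95, 166] [150, 204] [34, 32, 35, 65, 214, 520, 184, 184, 142, 289, 143, 289, 143, 350] false)) (.leaf .dfn))) (.node (.node (.leaf (.rl 4 4 [39, 62, 80, 121, 157, 167] [146] [30, 48, 36, 64, 30, 166,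 208, 194, 168, 171, 195, 209, 856] false)) (.leaf (.rl 5 4 [24, 74, 53, 80, 116, 143, 166] [43, 43, 45, 202, 206, 5294, 5350] [94, 43, 5194, 5350] false))) (.leaf (.rl 4 4 [9, 70, 65, 95, 88, 152, 166] [160] [30, 32, 64, 48, 164, 484, 207, 207, 1708] false)))) (.node (.node (.node (.leaf (.rl 4 2 [21, 69, 55, 98, 130, 143, 166] [146] [30, 64, 166] false)) (.leaf (.rl 5 4 [17, 71, 57, 81, 134, 158, 167] [43, 45, 45, 43, 226, 262, 344, 262, 345, 263, 4722] [94, 42, 45, 45, 95, 1216] false))) (.leaf (.rl 7 1 [20, 26, 67, 94, 117, 154] [2938] [] false))) (.node (.node (.leaf (.rl 9 1 [10, 31, 65, 104, 88, 151, 166] [1914] [] false)) (.leaf (.rl 5 4 [23, 45, 50, 82, 115, 155] [45, 43, 95, 45, 45, 556, 207, 207, 5844] [44, 44, 43, 43, 45, 45, 95, 4556] false))) (.leaf (.rl 4 4 [21, 44, 67, 90, 119, 151] [164, 484] [48, 34, 30, 174, 520, 288, 288, 142, 289, 289, 143, 652] false)))))) (.node (.node (.node (.node (.node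 (.leaf (.rl 5 1 [18, 69, 49, 94, 131, 168, 167] [250] [] false)) (.leaf (.rl 14 1 [33, 46, 50, 104, 121, 155, 166] [4346] [] false))) (.node (.leaf (.rl 7 1 [15, 31, 38, 90, 119, 153, 167] [2298] [] false)) (.leaf .dfn))) (.node (.node (.leaf (.rl 4 4 [15, 71, 38, 95, 120, 144, 167] [146, 207, 570] [64, 48, 36, 30, 64, 160] false)) (.leaf (.rl 5 4 [74, 66, 95, 118, 156] [43, 43, 45, 202, 1582] [94, 42, 95, 5282] false))) (.leaf (.rl 4 4 [13, 39, 38, 82, 131, 153, 167] [160] [34, 48, 48, 32, 146, 206, 984] false)))) (.node (.node (.node (.leaf (.rl 4 4 [6, 39, 57, 104, 113, 168, 167] [31, 65, 49, 31, 70, 32, 34, 64, 48, 160] [34, 48, 64, 34, 48, 160] false)) (.leaf (.rl 7 1 [18, 46, 37, 98, 131, 153] [4858] [] false))) (.node (.leaf (.rl 4 4 [12, 61, 100, 122, 152, 167] [154] [36, 32, 31, 35, 49, 50, 44, 44, 42, 45, 43, 43, 45, 45, 256] false)) (.leaf (.rl 4 4 [10, 27, 54, 81, 134, 168, 167] [138, 288, 184, 288,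 142, 141, 185, 185, 185, 143, 506, 522, 6896] [] false)))) (.node (.node (.leaf (.rl 4 4 [11, 71, 49, 95, 119, 153, 167] [146] [32, 48, 64, 164, 484, 207, 1064] false)) (.leaf (.rl 5 4 [22, 41, 59, 96, 112, 169] [45, 43, 43, 45, 1976, 207, 5416] [42, 44, 42, 45, 4720] false))) (.leaf (.rl 10 1 [33, 39, 59, 115, 154, 167] [3834] [] false))))) (.node (.node (.node (.node (.leaf (.rl 6 1 [16, 30, 55, 100, 133, 154] [506] [] false)) (.leaf (.rl 14 1 [13, 28, 51, 81, 132, 151, 167] [4602] [] false))) (.node (.leaf (.rl 4 4 [7, 43, 64, 122, 156] [150, 204] [48, 35, 49, 35, 134, 94, 44, 43, 45, 43, 43, 2000] false)) (.leaf .dfn))) (.node (.node (.leaf (.rl 7 1 [74, 58, 103, 88, 169, 167] [1530] [] false)) (.leaf (.rl 5 4 [12, 45, 61, 79, 119, 153, 166] [43, 45, 45, 43, 226, 262, 345, 263, 3434] [94, 44, 44, 95, 45, 5212] false))) (.leaf (.rl 10 1 [15, 74, 52, 96, 131, 169] [3578] [] false)))) (.node (.node (.node (.leaf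 (.rl 4 4 [12, 69, 59, 101, 124, 154, 166] [146] [34, 146, 700] false)) (.leaf (.rl 12 1 [16, 74, 50, 96, 131, 168, 166] [171, 194, 5112] [5112] false))) (.leaf (.rl 9 1 [7, 71, 64, 82, 131] [3066] [] false))) (.node (.node (.leaf (.rl 7 1 [11, 27, 53, 96, 168] [2042] [] false)) (.leaf (.rl 7 4 [23, 43, 61, 79, 122, 157] [5620] [206, 5784, 5926, 5090, 5931, 6134] false))) (.leaf (.rl 5 4 [24, 73, 49, 79, 113, 156, 166] [43, 43, 45, 202] [42, 45, 43, 226, 344, 262, 345, 263, 2698] false))))))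

def kSrc58 : Tr Src :=
  .node kSrc56 kSrc57

def kSrc59 : Tr Src :=
  .node kSrc55 kSrc58

def kSrc60 : Tr Src :=
  .node kSrc52 kSrc59

def kSrc61 : Tr Src :=
  .node kSrc45 kSrc60

def kSrc62 : Tr Src :=
  .node kSrc30 kSrc61

def kSrc63 : Tr Src :=
  .node (.node (.node (.node (.node (.node (.leaf (.own [1])) (.leaf (.rl 10 1 [3, 70, 67, 82, 133, 151, 167] [4096] [] false))) (.node (.leaf (.rl 4 4 [33, 70, 99, 134, 156, 167] [146] [48, 48, 34, 48, 31, 35, 49, 50, 42, 44, 44, 42, 45, 43, 43, 45, 45, 240] false)) (.leaf (.rl 21 1 [13, 31, 61, 79, 132, 155, 166] [6144] [] false)))) (.node (.node (.leaf (.rl 10 1 [13, 41, 66, 103, 134, 159] [1024] [] false)) (.leaf .dfn)) (.leaf (.rl 4 4 [16, 39, 58, 89, 117, 153, 167] [154, 453, 3048] [36, 32, 174, 520] false)))) (.node (.node (.node (.leaf (.rl 4 4 [15, 68, 58, 79, 117, 171] [138, 184, 140, 288, 185, 289, 185, 185, 298] [64, 32, 36, 48, 166] false)) (.leaf (.rl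 4 4 [17, 32, 65, 101, 114, 151, 167] [150, 204, 207, 4328] [34, 64, 32, 36, 30, 146] false))) (.node (.leaf (.rl 4 4 [33, 72, 61, 99, 118, 167] [150, 204] [30, 32, 64, 48, 34, 146, 207, 1106] false)) (.leaf .dfn))) (.node (.node (.leaf (.rl 4 4 [23, 69, 61, 90, 117, 153] [146] [48, 32, 64, 34, 160, 262, 344, 263, 1378] false)) (.leaf (.rl 10 1 [17, 40, 52, 103, 130, 166] [5632] [] false))) (.leaf (.rl 4 4 [6, 63, 90, 130, 171] [160, 344, 2152] [30, 36, 64, 34, 31, 31, 49, 37, 622] false))))) (.node (.node (.node (.node (.leaf (.rl 1 4 [8, 32, 49, 98, 120, 152] [40, 42, 42, 45, 178] [10, 6, 10, 6, 10, 8, 6, 10, 10, 10, 8, 6, 40] false)) (.leaf (.rl 4 4 [7, 70, 65, 102, 133, 144] [138, 142, 288, 288, 184, 142, 4286] [48, 48, 32, 31, 31, 49, 37, 622] false))) (.node (.leaf (.rl 4 4 [23, 70, 49, 98, 88, 143, 167] [150, 204] [48, 34, 64, 48, 166, 208, 208, 194, 209, 171, 551, 195, 560] false)) (.leaf .dfn))) (.node (.node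 (.leaf (.rl 7 1 [22, 31, 79, 113, 152] [1280] [] false)) (.leaf (.rl 5 4 [39, 37, 89, 88, 168, 167] [43, 43, 45, 202] [42, 45, 95, 128, 42, 44, 42, 95, 45, 5212] false))) (.leaf (.rl 10 1 [20, 40, 66, 98, 114, 153, 167] [3328] [] false)))) (.node (.node (.node (.leaf (.rl 7 1 [15, 40, 60, 80, 121, 151] [768] [] false)) (.leaf (.rl 4 4 [13, 41, 37, 94, 120, 155, 167] [164, 484] [64, 30, 30, 30, 164, 484, 206, 206, 4480] false))) (.node (.leaf (.rl 7 1 [8, 42, 92, 130] [2816] [] false)) (.leaf (.rl 4 4 [72, 101, 88, 144, 167] [146, 206, 206, 896, 206, 6900] [64, 32, 36, 30, 160] false)))) (.node (.node (.leaf (.rl 7 1 [9, 32, 62, 92, 117, 158, 167] [1792] [] false)) (.leaf (.rl 10 1 [15, 44, 56, 93, 134, 157, 167] [5888] [] false))) (.leaf (.rl 10 1 [33, 69, 54, 89, 119, 152, 166] [3840] [] false)))))) (.node (.node (.node (.node (.node (.leaf (.rl 5 4 [12, 46, 67, 91, 124, 151] [45, 43, 88, 42, 44, 43, 45, 45, 126,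 43, 76] [] false)) (.leaf (.rl 5 4 [5, 27, 67, 79, 115, 143, 167] [43, 45, 45, 43, 226, 345, 4200] [44, 44, 42, 42, 45, 95, 2934] false))) (.node (.leaf (.rl 4 4 [23, 40, 62, 95, 132, 153, 166] [146, 206, 206, 846] [48, 34, 48, 34, 164, 484] false)) (.leaf (.rl 32 1 [6, 40, 56, 92, 152, 167] [6272] [] false)))) (.node (.node (.leaf (.rl 7 1 [20, 70, 60, 80, 112] [1152] [] false)) (.leaf (.rl 4 4 [4, 44, 49, 79, 130, 157, 166] [166, 194, 168, 5078] [64, 30, 48, 64, 146] false))) (.leaf (.rl 4 4 [20, 28, 54, 103, 112, 143, 167] [154] [32, 56, 44, 44, 95, 45, 45, 2966] false)))) (.node (.node (.node (.leaf (.rl 7 1 [9, 72, 56, 100, 130, 156, 166] [640] [] false)) (.leaf (.rl 4 4 [23, 32, 58, 97, 116, 155, 167] [160] [64, 48, 36, 34, 174, 520, 184, 288, 142, 184, 4280] false))) (.node (.leaf (.rl 10 1 [6, 44, 52, 101, 133, 158] [2688] [] false)) (.leaf .dfn))) (.node (.node (.leaf (.rl 4 4 [33, 42, 52, 91, 117, 171,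 167] [146, 207, 207, 864] [36, 32, 30, 64, 160] false)) (.leaf (.rl 5 4 [17, 73, 64, 89, 131, 153, 167] [43, 45, 43, 43, 80, 44, 43, 43, 45, 45, 5458] [44, 94, 43, 43, 45, 45, 5458] false))) (.leaf (.rl 4 4 [5, 68, 59, 93, 124, 170] [160, 263, 3364] [48, 30, 30, 160] false))))) (.node (.node (.node (.node (.leaf (.rl 4 4 [17, 26, 53, 102, 159, 166] [138, 184, 288, 142, 184, 142, 141, 185, 143, 185, 185, 280] [34, 64, 36, 30, 150, 204] false)) (.leaf (.rl 4 4 [21, 72, 67, 96, 121, 143, 167] [146] [48, 48, 30, 34, 138, 288, 142, 288, 288, 142, 4288] false))) (.node (.leaf (.rl 7 1 [16, 32, 61, 90, 143] [2432] [] false)) (.leaf .dfn))) (.node (.node (.leaf (.rl 4 4 [9, 43, 51, 91, 130, 155, 167] [146, 207, 207, 1012] [48, 32, 164, 484] false)) (.leaf (.rl 5 4 [5, 71, 54, 91, 122, 159] [43, 43, 45, 202, 207, 5318] [94, 44, 42, 42, 45, 45, 3984] false))) (.leaf (.rl 4 4 [16, 40, 63, 92, 122, 156] [160] [64, 48, 48, 31,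 49, 37, 622, 207, 207, 2220] false)))) (.node (.node (.node (.leaf (.rl 7 1 [33, 45, 104, 133, 167] [896] [] false)) (.leaf (.rl 5 4 [14, 65, 120, 156] [43, 45, 45, 43, 226] [42, 42, 44, 44, 42, 45, 912, 206, 206, 4850] false))) (.leaf (.rl 7 1 [4, 72, 50, 103, 134, 143, 167] [2944] [] false))) (.node (.node (.leaf (.rl 4 4 [10, 30, 61, 81, 123, 153, 166] [146, 1694] [64, 48, 32, 36, 32, 146] false)) (.leaf (.rl 5 4 [9, 26, 104, 130, 156, 167] [45, 43, 95, 45, 45, 556, 207, 5268] [42, 45, 5196] false))) (.leaf (.rl 7 1 [6, 42, 60, 82, 112, 168, 167] [3968] [] false))))))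

def kSrc64 : Tr Src :=
  .node (.node (.node (.node (.node (.node (.leaf (.rl 1 2 [12, 42, 80, 113, 153, 167] [28] [10, 10, 10, 6, 8, 6, 10, 28] false)) (.leaf (.rl 7 1 [7, 71, 37, 101, 121, 159, 166] [4160] [] false))) (.node (.leaf (.rl 4 4 [12, 70, 66, 79, 124, 157, 166] [146] [48, 48, 30, 48, 31, 35, 49, 50, 94, 44, 95, 45, 45, 272] false)) (.leaf (.rl 9 1 [9, 41, 62, 79, 133, 159, 166] [6202] [] false)))) (.node (.node (.leaf (.rl 4 4 [9, 46, 61, 89, 124, 168] [146, 206, 984] [32, 64, 48, 64, 36, 146] false)) (.leaf (.rl 21 1 [19, 40, 58, 93, 88, 151, 167] [5184] [] false))) (.leaf (.rl 4 4 [13, 73, 59, 98, 115, 153, 167] [154, 452, 157, 453, 346] [48, 37, 622] false)))) (.node (.node (.node (.leaf (.rl 7 1 [18, 58, 102, 114, 166] [576] [] false)) (.leaf (.rl 4 4 [9, 31, 61, 99, 113, 144] [154] [36, 30, 64, 30, 150, 204, 4646] false))) (.node (.leaf (.rl 7 1 [9, 53, 92, 115, 151, 166] [2624] [] false)) (.leaf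 .dfn))) (.node (.node (.leaf (.rl 7 1 [7, 71, 67, 102, 122, 143, 166] [1600] [] false)) (.leaf (.rl 21 1 [14, 68, 37, 81, 130, 155] [5696] [] false))) (.leaf (.rl 4 4 [6, 42, 49, 97, 120, 171] [160] [48, 48, 36, 30, 174, 520, 142, 184, 184, 141, 143, 185, 185, 143, 402] false))))) (.node (.node (.node (.node (.leaf (.rl 4 4 [22, 42, 58, 96, 134, 143] [138, 142, 184, 184, 142, 140, 185, 289, 185, 185, 298] [64, 30, 36, 31, 35, 49, 50] false)) (.leaf (.rl 4 4 [18, 61, 130, 152, 166] [138, 288, 184, 184, 140, 4286, 4396] [32, 64, 30, 30, 146] false))) (.node (.leaf (.rl 7 1 [9, 32, 60, 98] [2368] [] false)) (.leaf .dfn))) (.node (.node (.leaf (.rl 4 4 [23, 69, 56, 102, 118, 169, 166] [146, 466] [32, 34, 30, 164, 484] false)) (.leaf (.rl 7 1 [23, 32, 50, 90, 113, 144, 167] [5440] [] false))) (.leaf (.rl 4 4 [24, 39, 64, 81, 159, 166] [160] [30, 160, 263, 345, 1588] false)))) (.node (.node (.node (.leaf (.rl 7 1 [14,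 31, 38, 98, 117, 153, 166] [832] [] false)) (.leaf (.rl 5 4 [22, 28, 38, 89, 133, 152, 166] [43, 43, 45, 202] [44, 94, 42, 44, 44, 43, 45, 45, 43, 226, 262, 344, 4750] false))) (.leaf (.rl 4 4 [4, 73, 66, 89, 130, 157, 167] [154, 528, 156, 2744] [32, 34, 64, 164, 484] false))) (.node (.node (.leaf (.rl 7 1 [23, 71, 57, 89, 124, 171, 167] [1856] [] false)) (.leaf (.rl 23 1 [15, 51, 92, 121, 151, 166] [5872, 5926] [5926] false))) (.leaf (.rl 4 4 [6, 28, 37, 100, 118, 151] [164, 484] [36, 64, 30, 35, 49, 35, 134, 94, 45, 45, 43, 3886] false)))))) (.node (.node (.node (.node (.node (.leaf (.rl 5 1 [4, 39, 65, 102, 116, 144, 166] [43, 43, 45, 45, 94, 44, 42, 42, 43, 43, 45, 43, 95, 192] [43, 43, 45, 43, 95, 192] true)) (.leaf (.rl 6 1 [24, 26, 38] [4288] [] false))) (.node (.leaf (.rl 4 4 [21, 27, 37] [150, 204, 2030] [64, 30, 160] false)) (.leaf .dfn))) (.node (.node (.leaf (.rl 4 4 [6, 40, 65, 102, 124, 154, 167] [146]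 [48, 48, 30, 36, 164, 484, 206, 206, 460] false)) (.leaf (.rl 4 4 [33, 72, 55, 90, 112, 171, 167] [31, 31, 49, 37, 622] [36, 32, 34, 154, 156, 452, 157, 529, 5224] false))) (.leaf (.rl 4 4 [16, 45, 54, 101, 119, 153] [160] [30, 48, 34, 31, 56, 44, 94, 42, 44, 43, 45, 45, 95, 1216] false)))) (.node (.node (.node (.leaf (.rl 4 4 [19, 68, 38, 99, 117, 169, 166] [138, 288, 184, 142, 288, 185, 289, 185, 143, 680] [64, 48, 64, 36, 32, 160] false)) (.leaf (.rl 4 4 [17, 65, 99, 124, 154] [160] [48, 36, 30, 30, 138, 184, 142, 4286, 4396] false))) (.node (.leaf (.rl 4 4 [11, 71, 63, 95, 122, 144, 167] [154, 237, 529, 237, 440] [64, 30, 34, 30, 160] false)) (.leaf (.rl 4 4 [20, 42, 50, 96, 134, 154, 167] [146, 207, 5298, 5926, 5092, 6840] [32, 154] false)))) (.node (.node (.leaf (.rl 7 1 [16, 43, 58, 89, 114, 151, 167] [1728] [] false)) (.leaf (.rl 5 4 [31, 60, 98, 134, 159, 167] [45, 95, 3024, 236, 156, 237, 453, 529, 1116]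 [42, 44, 43, 95, 45, 5212] false))) (.leaf (.rl 4 4 [11, 46, 58, 98, 118, 156, 166] [160, 344, 262, 3294] [48, 30, 48, 30, 150, 204] false))))) (.node (.node (.node (.node (.leaf (.rl 7 1 [6, 72, 99, 116, 151, 167] [448] [] false)) (.leaf (.rl 4 4 [13, 73, 59, 92, 115, 143, 166] [146, 207, 4486] [64, 48, 34, 64, 160] false))) (.node (.leaf (.rl 7 1 [14, 39, 61, 93, 121, 153, 166] [2496] [] false)) (.leaf .dfn))) (.node (.node (.leaf (.rl 7 1 [3, 74, 53, 90, 112, 166] [1472] [] false)) (.leaf (.rl 9 1 [8, 68, 51, 98, 113, 158, 166] [5568] [] false))) (.leaf (.rl 10 1 [5, 26, 38, 103, 153, 167] [3520] [] false)))) (.node (.node (.node (.leaf (.rl 7 1 [18, 40, 63, 101, 132, 157, 167] [960] [] false)) (.leaf (.rl 5 4 [12, 27, 61, 89, 132, 152, 166] [43, 45, 45, 43, 43, 736, 207, 207, 4930] [4342, 4396] false))) (.leaf (.rl 4 4 [6, 68, 90, 118, 157] [154, 236, 453, 157, 529, 1372] [36, 32, 30, 146] false))) (.node (.node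 (.leaf (.rl 4 4 [22, 74, 66, 79, 117, 171, 166] [146] [36, 48, 48, 34, 138, 142, 184, 142, 184, 289, 143, 289, 143, 564] false)) (.leaf (.rl 7 4 [70, 60, 102, 114, 151, 167] [207, 207, 2050, 206, 5342] [206, 206, 5342] false))) (.leaf (.rl 4 4 [4, 44, 62, 93, 130, 171] [31, 31, 49, 37, 622, 206, 3156] [30, 64, 30, 64, 31, 31, 49, 37, 622] false))))))

def kSrc65 : Tr Src :=
  .node kSrc63 kSrc64

def kSrc66 : Tr Src :=
  .node (.node (.node (.node (.node (.node (.leaf (.rl 1 1 [21, 26] [11, 7, 11, 7, 11, 11, 7, 9, 11, 7, 10, 6, 10, 10, 10, 6, 10, 6, 10, 10, 10, 8, 28] [28] true)) (.leaf (.rl 5 4 [18, 69, 80, 151, 167] [43, 43, 45, 202] [42, 44, 43, 43, 45, 246, 3400] false))) (.node (.leaf (.rl 4 4 [4, 73, 56, 99, 121, 159] [146] [36, 32, 64, 48, 30, 146, 207, 424] false)) (.leaf (.rl 21 1 [9, 31, 55, 82, 115, 151] [5234, 6176] [6176] false)))) (.node (.node (.leaf (.rl 10 1 [24, 69, 57, 94, 134, 168] [1056] []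 false)) (.leaf (.rl 4 4 [14, 32, 49, 95, 113, 155, 167] [154, 156, 237, 5144] [30, 32, 64, 48, 160] false))) (.leaf (.rl 9 1 [15, 46, 67, 100, 122, 153, 166] [3104] [] false)))) (.node (.node (.node (.leaf (.rl 4 4 [24, 70, 100, 113, 156] [138] [48, 36, 31, 65, 49, 31, 70, 36, 34, 30, 138] false)) (.leaf (.rl 4 4 [21, 46, 53, 81, 118, 151] [150, 204, 207, 207, 4404] [48, 34, 64, 160] false))) (.node (.leaf (.rl 7 1 [19, 70, 61, 81, 115, 154, 166] [2592] [] false)) (.leaf .dfn))) (.node (.node (.leaf (.rl 7 1 [11, 71, 52, 91, 144] [1568] [] false)) (.leaf (.rl 5 4 [7, 70, 63, 94, 158, 166] [43, 45, 45, 43, 226, 344, 5640] [94, 42, 42, 95, 5392] false))) (.leaf (.rl 9 1 [42, 94, 124, 155, 166] [3616] [] false))))) (.node (.node (.node (.node (.leaf (.rl 4 2 [12, 29, 65, 90, 120, 166] [138] [48, 48, 34, 160] false)) (.leaf (.rl 17 1 [7, 73, 57, 98, 132, 156] [4384] [] false))) (.node (.leaf (.rl 4 4 [20, 32, 53, 104,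 124, 169] [150, 204] [36, 34, 48, 30, 164, 484, 206, 206, 1318] false)) (.leaf .dfn))) (.node (.node (.leaf (.rl 7 1 [30, 52, 79, 131, 157] [1312] [] false)) (.leaf (.rl 5 4 [33, 46, 58, 93, 121, 159] [43, 43, 45, 202] [44, 44, 94, 43, 45, 43, 95, 1498, 207, 207, 5256] false))) (.leaf (.rl 10 1 [11, 68, 56, 104, 131, 166] [3360] [] false)))) (.node (.node (.node (.leaf (.rl 4 4 [9, 70, 60, 94, 122, 155] [31, 65, 49, 31, 70, 30, 48, 32, 164, 484] [32, 34, 30, 164, 484] false)) (.leaf (.rl 5 4 [6, 32, 67, 104, 118, 169, 166] [43, 43, 45, 202, 207, 207, 4446] [43, 45, 43, 43, 904] false))) (.leaf (.rl 4 4 [16, 28, 82, 123, 157, 167] [154] [34, 64, 30, 48, 150, 204, 206, 2492] false))) (.node (.node (.leaf (.rl 7 1 [24, 44, 66, 89, 114, 167] [1824] [] false)) (.leaf (.rl 5 4 [10, 31, 67, 99, 88, 159, 167] [45, 43, 124, 94, 42, 44, 42, 95, 5392] [44, 44, 42, 45, 5196] false))) (.leaf (.rl 4 4 [9, 69, 90, 121, 159, 167]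 [160] [36, 30, 64, 30, 166, 194, 209, 195, 209, 1054] false)))))) (.node (.node (.node (.node (.node (.leaf (.rl 4 1 [4] [160] [] false)) (.leaf (.rl 7 1 [24, 30, 50, 102, 115, 151] [4256] [] false))) (.node (.leaf (.rl 4 4 [23, 40, 55, 89, 122, 158] [146] [48, 36, 48, 36, 164, 484, 207, 207, 1122] false)) (.leaf .dfn))) (.node (.node (.leaf (.rl 4 4 [21, 73, 81, 116, 158, 166] [146] [64, 36, 30, 37, 49, 49, 49, 60, 34, 48, 64, 30, 146] false)) (.leaf (.rl 25 1 [15, 71, 58, 101, 115, 154, 167] [5280] [] false))) (.leaf (.rl 4 4 [21, 32, 55, 82, 115, 151] [37, 49, 49, 49, 60, 34, 48, 48, 48, 34, 160] [36, 30, 160] false)))) (.node (.node (.node (.leaf (.rl 4 4 [12, 32, 53, 101, 115, 152, 167] [138, 184, 184, 142, 289, 143, 652] [34, 30, 164, 484] false)) (.leaf (.rl 4 4 [9, 44, 67, 95, 133, 170, 166] [160] [32, 64, 32, 30, 160, 4738] false))) (.node (.leaf (.rl 4 4 [7, 68, 38, 94, 133, 152, 167] [154] [36, 48, 64,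 32, 31, 31, 49, 37, 622, 206, 1796] false)) (.leaf .dfn))) (.node (.node (.leaf (.rl 7 1 [24, 71, 59, 79, 120, 144, 167] [1696] [] false)) (.leaf (.rl 5 4 [23, 72, 56, 91, 131, 151, 167] [43, 95, 45, 45, 324, 206, 206, 4112] [94, 42, 44, 44, 5194, 5350] false))) (.leaf (.rl 10 1 [40, 49, 96, 116, 144, 166] [3744] [] false))))) (.node (.node (.node (.node (.leaf (.rl 4 4 [6, 29, 50, 81, 112, 168, 167] [138, 184, 140, 288, 141, 185, 143, 185, 185, 280] [30, 64, 30, 34, 154] false)) (.leaf (.rl 4 4 [17, 72, 37, 82, 121, 155, 167] [146] [48, 48, 34, 34, 154, 236, 157, 4436] false))) (.node (.leaf (.rl 4 4 [73, 56, 103, 124, 168, 166] [150, 204, 207, 1188] [36, 48, 48, 30, 160] false)) (.leaf .dfn))) (.node (.node (.leaf (.rl 7 1 [17, 44, 61, 102, 123, 171, 167] [1440] [] false)) (.leaf (.rl 5 4 [7, 46, 57, 89, 121, 153] [43, 45, 43, 3148, 528, 452, 4436] [42, 5236] false))) (.leaf (.rl 10 1 [11, 32, 98, 116] [3488]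 [] false)))) (.node (.node (.node (.leaf (.rl 7 1 [43, 57, 101, 132, 158, 167] [928] [] false)) (.leaf (.rl 5 4 [21, 41, 56, 104, 124, 166] [43, 95, 45, 45, 324, 207, 4518] [44, 94, 42, 44, 43, 43, 95, 218] false))) (.leaf (.rl 4 4 [11, 68, 65, 81, 118, 169] [154] [48, 32, 160, 1378] false))) (.node (.node (.leaf (.rl 4 4 [24, 71, 51, 98, 124, 155] [146] [64, 48, 66, 34, 64, 36, 34, 164, 484] false)) (.leaf (.rl 5 4 [15, 68, 65, 89, 88, 171, 166] [45, 212, 5342] [44, 94, 45, 5196] false))) (.leaf (.rl 10 1 [14, 41, 59, 99, 120, 159, 167] [4000] [] false))))))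

def kSrc67 : Tr Src :=
  .node (.node (.node (.node (.node (.node (.leaf (.rl 4 4 [14, 68, 55, 104, 114, 170, 167] [31, 65, 49, 31, 70, 48, 30, 48, 48, 31, 35, 49, 50] [48, 48, 31, 35, 49, 50] false)) (.leaf (.rl 7 1 [11, 40, 61, 90, 132, 152] [4192] [] false))) (.node (.leaf (.rl 4 4 [6, 40, 58, 92, 115, 156, 166] [146, 206, 1804] [32, 36, 48, 64, 154] false)) (.leaf (.rl 5 4 [10, 74, 63, 97, 120, 169] [45, 43, 124, 43, 95, 6198] [94, 42, 44, 44, 43, 45, 45, 43, 95, 6198] false)))) (.node (.node (.leaf (.rl 7 1 [9, 43, 54, 94, 112, 156, 166] [1120] [] false)) (.leaf (.rl 4 4 [9, 68, 61, 93, 121, 167] [35, 49, 35, 134, 42, 44, 43, 95, 45, 5212] [34, 30, 146] false))) (.leaf (.rl 7 1 [10, 43, 62, 93, 112, 171, 166] [3168] [] false)))) (.node (.node (.node (.leaf (.rl 4 4 [24, 41, 37, 91, 117, 153, 166] [138, 184, 184, 142, 141, 185, 143, 185, 185, 280] [49, 50] false)) (.leaf (.rl 4 4 [3, 41, 61, 95, 122, 153, 167]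 [160] [32, 34, 64, 30, 154, 528, 157, 529, 4682] false))) (.node (.leaf (.rl 4 2 [12, 31, 60, 79, 123, 151] [154] [182, 520] false)) (.leaf .dfn))) (.node (.node (.leaf (.rl 4 4 [14, 46, 64, 90, 130, 151, 167] [146] [64, 34, 34, 160, 345, 510] false)) (.leaf (.rl 5 4 [19, 31, 57, 100, 130, 170, 166] [45, 43, 43, 45, 45, 122, 42, 44, 44, 42, 42, 45, 43, 43, 45, 1976] [44, 94, 45, 45, 5236] false))) (.leaf (.rl 10 1 [11, 28, 67, 112, 143] [3680] [] false))))) (.node (.node (.node (.node (.leaf (.rl 4 4 [33, 72, 57, 98, 88, 168, 166] [138, 184, 288, 288, 141, 143, 185, 185, 143, 290] [48, 30, 48, 48, 34, 160] false)) (.leaf (.rl 4 4 [3, 46, 52, 94, 118, 155, 167] [146] [34, 65, 214, 520, 184, 140, 288, 184, 140, 4286, 4396] false))) (.node (.leaf (.rl 7 1 [24, 32, 59, 92, 118, 153] [2400] [] false)) (.leaf .dfn))) (.node (.node (.leaf (.rl 4 4 [10, 45, 63, 89, 112, 155, 166] [146, 207, 207, 1204] [48, 32, 48, 31, 49,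 37, 622] false)) (.leaf (.rl 5 4 [9, 46, 62, 79, 133, 143] [43, 43, 45, 202, 2938] [44, 5194, 5350] false))) (.leaf (.rl 10 1 [6, 43, 64, 94, 132, 156] [3424] [] false)))) (.node (.node (.node (.leaf (.rl 7 1 [21, 32, 55, 91, 119, 169] [864] [] false)) (.leaf (.rl 5 4 [7, 73, 52, 89, 124, 153, 166] [43, 45, 43, 3148, 528, 452, 237, 4364, 4396] [44, 43, 45, 45, 95, 242] false))) (.leaf (.rl 4 4 [18, 28, 61, 80, 120, 158, 166] [154] [64, 30, 30, 160, 262, 2344] false))) (.node (.node (.leaf (.rl 7 1 [21, 44, 54, 89, 116, 169, 167] [1888] [] false)) (.leaf (.rl 5 4 [8, 44, 60, 95, 169, 166] [45, 43, 43, 45, 434, 207, 5402] [42, 42, 44, 44, 43, 45, 5196] false))) (.leaf (.rl 4 4 [22, 68, 66, 93, 123, 169, 166] [164, 484] [48, 48, 32, 48, 146, 206, 206, 1504] false)))))) (.node (.node (.node (.node (.node (.leaf (.rl 10 1 [21, 70, 37, 93, 121, 144, 167] [224] [] false)) (.leaf (.rl 4 4 [21, 39, 67, 101, 119, 152, 167]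 [138, 184, 288, 142, 140, 4288] [34, 32, 36, 30, 150, 204] false))) (.node (.leaf (.rl 4 4 [14, 40, 62, 90, 134, 156, 167] [150, 204] [64, 34, 48, 34, 166, 208, 169, 171, 209, 171, 551, 209, 310] false)) (.leaf .dfn))) (.node (.node (.leaf (.rl 10 1 [8, 31, 65, 79, 112, 151] [1248] [] false)) (.leaf (.rl 5 4 [15, 63, 98, 131, 152, 166] [43, 43, 45, 202, 5216] [94, 42, 44, 44, 43, 45, 43, 43, 1678] false))) (.leaf (.rl 4 4 [19, 42, 64, 91, 115, 151] [160, 262, 344, 262, 345, 263, 216] [64, 30, 166] false)))) (.node (.node (.node (.leaf (.rl 4 4 [4, 61, 89, 119, 155, 166] [31, 65, 49, 31, 70, 48, 30, 64, 30, 146] [32, 36, 34, 146] false)) (.leaf (.rl 4 4 [16, 42, 61, 80, 118, 154, 166] [164, 484, 4502] [48, 30, 146] false))) (.node (.leaf (.rl 9 1 [30, 65, 102, 131, 156, 167] [2784] [] false)) (.leaf (.rl 4 4 [8, 69, 52, 95, 115, 154, 167] [138, 288, 288, 4286, 4396, 4398, 4400, 6860] [36, 34, 64, 32, 154] false))))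 (.node (.node (.leaf (.rl 7 1 [6, 46, 63, 100, 115, 144, 166] [1760] [] false)) (.leaf (.rl 21 1 [4, 29, 54, 97, 118, 169] [5856] [] false))) (.leaf (.rl 10 1 [27, 57, 103, 119, 144] [3808] [] false))))) (.node (.node (.node (.node (.leaf (.rl 4 4 [7, 44, 53, 102, 131, 155] [138, 142, 184, 142, 184, 141, 143, 185, 185, 143, 290] [36, 48, 36, 48, 160] false)) (.leaf (.rl 4 4 [24, 32, 49, 95, 88, 171, 167] [146] [48, 48, 64, 34, 31, 49, 37, 622, 206, 206, 4514] false))) (.node (.leaf (.rl 4 4 [33, 74, 63, 101, 123, 156, 167] [150, 204, 207, 1738] [30, 64, 32, 160] false)) (.leaf .dfn))) (.node (.node (.leaf (.rl 4 4 [12, 69, 63, 95, 122, 157, 166] [146] [64, 48, 36, 31, 65, 49, 31, 70, 36, 30, 64, 32, 146] false)) (.leaf (.rl 14 1 [12, 46, 37, 93, 121, 158, 166] [5600] [] false))) (.leaf (.rl 4 4 [11, 29, 62, 102, 121, 169, 166] [160] [48, 30, 36, 30, 35, 49, 35, 134, 42, 42, 44, 43, 43, 95, 45, 45, 2966] false))))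 (.node (.node (.node (.leaf (.rl 4 4 [9, 31, 67, 92, 131, 151] [146] [30, 48, 64, 48, 30, 154, 237, 418] false)) (.leaf (.rl 12 1 [6, 30, 64, 79] [209, 171, 551, 170, 208, 208, 168, 5086] [5086] false))) (.leaf (.rl 4 4 [23, 40, 62, 95, 113, 157, 166] [154, 528, 236, 157, 237, 3006] [30, 48, 36, 164, 484] false))) (.node (.node (.leaf (.rl 4 4 [22, 40, 50, 81, 118, 154, 167] [146] [35, 134, 44, 42, 42, 44, 43, 43, 45, 45, 476] false)) (.leaf (.rl 5 4 [9, 32, 52, 82, 112, 151, 166] [43, 43, 45, 45, 188] [94, 44, 95, 5392, 5272, 5116, 6098] false))) (.leaf (.rl 4 4 [12, 32, 55, 96, 123, 159, 167] [31, 31, 49, 37, 622] [64, 34, 48, 64, 49, 35, 134, 44, 94, 45, 45, 2706] false))))))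

def kSrc68 : Tr Src :=
  .node kSrc66 kSrc67

def kSrc69 : Tr Src :=
  .node kSrc65 kSrc68

def kSrc70 : Tr Src :=
  .node (.node (.node (.node (.node (.node (.leaf .dfn) (.leaf (.rl 7 1 [18, 29, 62, 99, 122, 155, 166] [4112] [] false))) (.node (.leaf (.rl 4 4 [23, 29, 50, 89, 124, 171, 166] [146, 207, 207, 1578] [48, 34, 48, 48, 146] false)) (.leaf (.rl 10 4 [8, 68, 52, 95, 133, 157, 166] [518, 6124] [6124] false)))) (.node (.node (.leaf (.rl 7 1 [23, 39, 51, 90, 133, 168] [1040] [] false)) (.leaf (.rl 4 4 [9, 69, 54, 79, 133, 151, 166] [150, 204] [48, 64, 36, 48, 166, 168, 5130] false))) (.leaf (.rl 9 1 [19, 69, 65, 96, 113, 143, 166] [3088] [] false)))) (.node (.node (.node (.leaf (.rl 4 4 [3, 73, 66, 90, 133, 157] [138, 184, 140, 288, 141, 185, 185, 185, 143, 284] [64, 150, 204] false)) (.leaf (.rl 4 4 [13, 45, 98, 120, 171, 166] [150, 204, 206, 4494] [36, 32, 48, 64, 48, 146] false))) (.node (.leaf (.rl 9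 1 [41, 55, 82, 131, 144] [2576] [] false)) (.leaf (.rl 4 4 [17, 26, 67, 90, 123, 156, 166] [31, 35, 49, 50, 5212, 5926, 5088, 6650] [32, 36, 48, 164, 484] false)))) (.node (.node (.leaf (.rl 4 4 [22, 43, 67, 99, 88, 159, 167] [146] [48, 48, 48, 31, 65, 49, 31, 70, 48, 34, 64, 36, 48, 146] false)) (.leaf (.rl 5 4 [20, 70, 50, 80, 168] [43, 45, 45, 43, 226] [94, 44, 42, 3764, 344, 263, 5644] false))) (.leaf (.rl 10 1 [3, 28, 50, 80, 115, 167] [3600] [] false))))) (.node (.node (.node (.node (.leaf (.rl 5 1 [24, 31, 55, 90, 122, 151, 167] [272] [] false)) (.leaf (.rl 4 4 [13, 28, 66, 95, 131, 169, 167] [138, 142, 184, 184, 4286] [48, 64, 36, 146] false))) (.node (.leaf (.rl 4 4 [3, 30, 63, 81, 114, 168, 166] [150, 204, 207, 576] [64, 48, 32, 160] false)) (.leaf (.rl 5 4 [5, 44, 53, 81, 120, 170, 167] [45, 43, 43, 45, 1976, 206, 206, 5610, 5926, 5930, 5092, 5090, 6392] [94, 43, 45, 45, 95, 4556] false)))) (.node (.node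 (.leaf (.rl 7 1 [15, 27, 59, 95, 121, 144] [1296] [] false)) (.leaf (.rl 5 4 [13, 72, 59, 80, 119, 159, 167] [43, 43, 45, 202, 207, 3246] [42, 5236] false))) (.leaf (.rl 10 1 [21, 28, 51, 96, 121, 156] [3344] [] false)))) (.node (.node (.node (.leaf (.rl 7 1 [16, 73, 54, 101, 133, 171, 166] [784] [] false)) (.leaf (.rl 4 4 [23, 31, 50, 95, 114, 151, 166] [31, 31, 49, 37, 622, 206, 4348] [64, 30, 30, 154] false))) (.leaf (.rl 7 1 [7, 39, 63, 80, 118, 152] [2832] [] false))) (.node (.node (.leaf (.rl 7 1 [9, 69, 52, 93, 88, 169, 166] [1808] [] false)) (.leaf (.rl 24 1 [18, 32, 57, 90, 112, 158, 166] [5904] [] false))) (.leaf (.rl 4 4 [19, 28, 62, 103, 132, 155, 167] [160] [32, 64, 48, 31, 31, 49, 37, 622, 206, 3594] false)))))) (.node (.node (.node (.node (.node (.leaf .dfn) (.leaf (.rl 5 4 [18, 40, 54, 103, 118, 154] [43, 45, 43, 43, 90, 44, 94, 42, 42, 45, 45, 43, 43, 45, 1290] [94, 42, 44, 42, 45, 212] false)))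 (.node (.leaf (.rl 4 4 [8, 73, 60, 90, 133, 153] [146, 206, 2078] [36, 48, 64, 30, 30, 146] false)) (.leaf (.rl 9 4 [3, 40, 52, 98, 116, 155, 166] [2802, 453, 6202] [453, 6202] false)))) (.node (.node (.leaf (.rl 7 1 [14, 40, 100, 122, 154, 166] [1168] [] false)) (.leaf (.rl 4 4 [21, 46, 60, 91, 113, 155, 167] [166, 171, 5206] [48, 34, 64, 48, 146] false))) (.leaf (.rl 7 1 [15, 73, 122, 171] [3216] [] false)))) (.node (.node (.node (.leaf (.rl 7 1 [19, 73, 64, 94, 115, 170] [656] [] false)) (.leaf (.rl 4 4 [14, 69, 50, 98, 134, 159] [160] [48, 64, 36, 48, 30, 146, 4586] false))) (.node (.leaf (.rl 9 1 [12, 44, 61, 102, 119, 144] [2704] [] false)) (.leaf (.rl 5 4 [33, 40, 52, 96, 134, 159, 166] [43, 45, 43, 43, 80, 42, 42, 44, 42, 95, 45, 5212, 5926, 5930, 5928, 5090, 6786] [94, 44, 42, 95, 5392] false)))) (.node (.node (.leaf (.rl 7 1 [44, 64, 94, 123, 152] [1680] [] false)) (.leaf (.rl 10 1 [3, 39, 50, 99, 130,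 158] [5776] [] false))) (.leaf (.rl 10 1 [13, 42, 52, 98, 133, 157] [3728] [] false))))) (.node (.node (.node (.node (.leaf (.rl 4 4 [12, 32, 53, 90, 115, 158] [138] [64, 36, 32, 35, 49, 50, 94, 44, 44, 42, 45, 43, 43, 45, 45, 256] false)) (.leaf (.rl 4 4 [7, 41, 51, 79, 156] [146, 206, 206, 4318] [48, 32, 48, 30, 160] false))) (.node (.leaf (.rl 7 1 [33, 45, 51, 90, 130, 152, 166] [2448] [] false)) (.leaf (.rl 5 4 [6, 30, 60, 81, 114, 154, 166] [43, 45, 43, 43, 90, 44, 94, 42, 42, 45, 43, 5362, 5926, 5090, 6534] [44, 42, 42, 44, 44, 42, 45, 43, 95, 45, 45, 556] false)))) (.node (.node (.leaf (.rl 7 1 [24, 27, 49, 99, 134, 156] [1424] [] false)) (.leaf (.rl 5 4 [7, 44, 97, 88, 144, 166] [43, 45, 43, 3148, 528, 156, 5148, 5350] [45, 324] false))) (.leaf (.rl 9 1 [12, 39, 67, 79, 134, 159, 167] [3472] [] false)))) (.node (.node (.node (.leaf (.rl 4 2 [19, 70, 67, 101, 121, 151, 167] [146] [48, 48, 48, 32, 154] false))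 (.leaf (.rl 5 4 [22, 29, 59, 101, 118, 168] [43, 45, 45, 43, 226, 345, 4456] [44, 44, 42, 45, 4720] false))) (.leaf (.rl 10 1 [9, 27, 66, 92, 134, 168, 167] [2960] [] false))) (.node (.node (.leaf (.rl 4 4 [23, 27, 52, 94, 114, 169] [146, 206, 206, 1504] [34, 48, 64, 30, 30, 160] false)) (.leaf (.rl 5 4 [23, 46, 62, 81, 118, 152] [43, 95, 45, 5212, 5926] [45, 45, 256, 262, 344, 5422, 5926] false))) (.leaf (.rl 5 1 [23, 70, 66, 91, 119, 159, 167] [3984] [] false))))))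

def kSrc71 : Tr Src :=
  .node (.node (.node (.node (.node (.node (.leaf (.rl 1 2 [6, 41, 81, 134, 155] [40] [10, 6, 8, 6, 10, 10, 10, 6, 8, 6, 40] false)) (.leaf (.rl 7 1 [19, 68, 56, 89, 132, 159, 166] [4176] [] false))) (.node (.leaf (.rl 4 4 [3, 69, 54, 114, 154, 166] [146, 1882] [36, 30, 36, 154] false)) (.leaf (.rl 5 4 [15, 46, 67, 81, 113, 156] [43, 45, 45, 43, 226, 344, 263, 345, 263, 5508, 5926] [42, 42, 45, 43, 95, 6198] false)))) (.node (.node (.leaf (.rl 4 4 [7, 69, 59, 102, 119, 168] [146] [48, 30, 32, 31, 31, 49, 37, 622, 207, 596] false)) (.leaf (.rl 21 1 [12, 28, 50, 92, 113, 158, 167] [5200] [] false))) (.leaf (.rl 4 4 [4, 72, 59, 91, 116, 157, 166] [154, 528, 237, 529, 1964] [64, 48, 30, 30, 146] false)))) (.node (.node (.node (.leaf (.rl 10 1 [4, 43, 64, 92, 120, 154] [592] [] false)) (.leaf (.rl 4 4 [22, 71, 55, 99, 118, 170] [154, 452, 4674] [64, 48, 30, 146] false))) (.node (.leaf (.rl 4 2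 [14, 70, 55, 94, 124, 157, 167] [154] [48, 30, 64, 48, 34, 154] false)) (.leaf (.rl 5 4 [3, 70, 60, 89, 112, 155, 166] [45, 43, 43, 45, 45, 122, 94, 43, 45, 45, 5236, 5926, 5930, 5090, 6712] [42, 44, 42, 45, 45, 95, 1216] false)))) (.node (.node (.leaf (.rl 4 4 [24, 32, 54, 99, 116, 156] [146] [48, 48, 32, 48, 30, 160, 345, 1344] false)) (.leaf (.rl 5 4 [19, 28, 37, 90, 116, 153, 166] [43, 45, 45, 43, 226, 5210] [94, 42, 44, 43, 95, 45, 5212] false))) (.leaf (.rl 4 4 [33, 39, 54, 79, 117, 169, 167] [160, 262, 344, 2152] [34, 31, 49, 37, 622] false))))) (.node (.node (.node (.node (.leaf (.rl 4 4 [6, 69, 66, 102, 115, 158, 166] [138, 184, 142, 184, 288, 185, 143, 294] [48, 48, 34, 30, 160] false)) (.leaf (.rl 4 4 [19, 42, 63, 97, 132, 156, 167] [138, 288, 288, 184, 184, 140, 4286, 4396] [48, 32, 48, 48, 30, 154] false))) (.node (.leaf (.rl 7 1 [33, 32, 55, 103, 115, 156] [2384] [] false)) (.leaf (.rl 4 4 [17, 73,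 66, 95, 88, 168, 166] [160, 344, 262, 345, 5628, 5926, 5092, 6460] [36, 48, 64, 34, 146] false)))) (.node (.node (.leaf (.rl 7 1 [3, 29, 53, 98, 115, 159, 167] [1360] [] false)) (.leaf (.rl 23 1 [3, 73, 65, 98, 114, 152, 166] [5456] [] false))) (.leaf (.rl 10 1 [19, 71, 58, 95, 114, 151] [3408] [] false)))) (.node (.node (.node (.leaf (.rl 4 2 [20, 39, 53, 91, 124, 152] [146] [34, 32, 64, 48, 160] false)) (.leaf (.rl 5 4 [12, 41, 49, 97, 120, 154, 167] [43, 43, 45, 202] [44, 94, 45, 45, 95, 438, 345, 263, 4608] false))) (.leaf (.rl 4 4 [4, 27, 66, 80, 116, 157, 166] [154] [64, 32, 48, 166, 550, 208, 194, 169, 171, 209, 171, 551, 209, 310] false))) (.node (.node (.leaf (.rl 7 1 [6, 40, 67, 81, 123, 166] [1872] [] false)) (.leaf (.rl 5 4 [11, 28, 38, 94, 115, 144, 166] [45, 45, 612, 237, 5144, 5350] [42, 42, 44, 5196] false))) (.leaf (.rl 4 4 [18, 29, 57, 103, 131] [164, 484, 206, 206, 410] [48, 34, 48, 48, 32, 154]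 false)))))) (.node (.node (.node (.node (.node (.leaf (.rl 1 4 [6, 68, 63, 120, 170, 166] [28, 48, 48, 34, 30, 146] [6, 10, 8, 6, 10, 10, 6, 10, 10, 6, 8, 40] false)) (.leaf (.rl 4 4 [11, 43, 49, 104, 116, 143, 166] [138, 184, 142, 4288] [64, 48, 48, 138, 288, 184, 140, 4288] true))) (.node (.leaf (.rl 7 1 [33, 68, 38, 99, 116, 155, 167] [2256] [] false)) (.leaf (.rl 4 4 [22, 42, 66, 89, 124, 155, 167] [164, 484, 5140, 5350, 5178, 5106, 5104, 6340] [48, 48, 48, 32, 160] false)))) (.node (.node (.leaf (.rl 10 1 [12, 30, 49, 95, 114, 157, 166] [1232] [] false)) (.leaf (.rl 5 4 [9, 68, 113, 155] [43, 43, 45, 202, 206, 1380] [44, 44, 94, 43, 5194] false))) (.leaf (.rl 4 4 [13, 52, 97, 124, 167] [160, 262, 344, 2892] [64, 32, 48, 34, 30, 146] false)))) (.node (.node (.node (.leaf (.rl 4 4 [15, 44, 55, 89, 114, 155] [138, 142, 184, 288, 185, 185, 143, 302] [64, 32, 36, 31, 49, 37, 622] false)) (.leaf (.rl 4 4 [18, 26]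 [164, 484] [48, 30, 64, 146, 207, 4816] false))) (.node (.leaf (.rl 4 4 [10, 31, 57, 90, 130, 171, 166] [154] [64, 36, 32, 48, 154, 528, 236, 156, 237, 2642] false)) (.leaf .dfn))) (.node (.node (.leaf (.rl 7 1 [16, 43, 54, 91, 133, 144, 167] [1744] [] false)) (.leaf (.rl 5 4 [4, 71, 66, 80, 122, 158] [43, 45, 45, 43, 43, 45, 3760, 207, 4624] [45, 43, 5362] false))) (.leaf (.rl 10 1 [73, 80, 112, 152] [3792] [] false))))) (.node (.node (.node (.node (.leaf (.rl 9 1 [21, 63, 82, 88, 151] [464] [] false)) (.leaf (.rl 4 4 [16, 29, 55, 100, 124, 143] [146] [30, 48, 64, 31, 56, 44, 44, 42, 42, 44, 43, 43, 45, 45, 95, 4556] false))) (.node (.leaf (.rl 7 1 [9, 30, 49, 93, 116, 156] [2512] [] false)) (.leaf (.rl 5 4 [17, 41, 52, 80, 132, 154] [43, 45, 43, 43, 90, 94, 44, 42, 45, 43, 5362, 5926, 5930, 5928, 5088, 6598] [44, 43, 45, 4124] false)))) (.node (.node (.leaf (.rl 7 1 [7, 28, 55, 89, 117, 154, 167] [1488] [] false))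 (.leaf (.rl 5 4 [4, 70, 38, 100, 119, 159, 167] [43, 45, 43, 3148, 528, 452, 157, 453, 4956] [42, 42, 44, 5194, 5350] false))) (.leaf (.rl 10 1 [21, 41, 37, 93, 121, 170, 166] [3536] [] false)))) (.node (.node (.node (.leaf (.rl 7 1 [22, 73, 52, 97, 114, 170, 166] [976] [] false)) (.leaf (.rl 5 4 [22, 32, 51, 96, 113, 153, 166] [43, 43, 45, 43, 95, 1498, 206, 4356, 4396] [42, 44, 44, 43, 45, 95, 4342, 4396] false))) (.leaf (.rl 4 4 [18, 69, 65, 82, 130, 170] [154, 528, 236, 156, 237, 529, 966] [64, 36, 48, 30, 35, 49, 35, 134] false))) (.node (.node (.leaf (.rl 4 4 [24, 73, 61, 102, 88, 170, 167] [146, 207, 1334] [48, 32, 48, 30, 150, 204] false)) (.leaf .dfn)) (.leaf (.rl 4 4 [33, 28, 51, 92, 130, 169, 167] [31, 31, 49, 37, 622, 206, 1198] [36, 48, 64, 31, 31, 49, 37, 622] false))))))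

def kSrc72 : Tr Src :=
  .node kSrc70 kSrc71

def kSrc73 : Tr Src :=
  .node (.node (.node (.node (.node (.node (.leaf (.rl 1 2 [6, 38, 101, 122, 152] [28] [10, 6, 8, 6, 10, 6, 10, 6, 40] false)) (.leaf (.rl 5 4 [15, 26, 57, 97, 114, 144, 167] [43, 43, 45, 202, 207, 1464] [42, 44, 42, 42, 45, 45, 43, 43, 45, 1290] false))) (.node (.leaf (.rl 4 4 [11, 74, 53, 94, 123, 171, 167] [146, 460] [36, 64, 48, 34, 34, 160] false)) (.leaf (.rl 21 1 [33, 42, 61, 102, 122, 170] [6186] [] false)))) (.node (.node (.leaf (.rl 7 1 [20, 45, 56, 91, 130, 151] [1072] [] false)) (.leaf (.rl 4 4 [22, 45, 65, 102, 130, 156, 167] [160, 345, 5168] [48, 48, 48, 36, 34, 146] false))) (.leaf (.rl 9 1 [33, 32, 65, 122, 168, 167] [3120] [] false)))) (.node (.node (.node (.leaf (.rl 4 4 [21, 51, 82, 130, 167] [138, 288, 142, 184, 288, 288, 185, 185, 185, 143, 302] [48, 34, 30, 174, 520] false)) (.leaf (.rl 4 4 [8, 70, 57, 97, 132, 151, 167]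 [150, 204, 4450] [36, 32, 48, 64, 30, 160] false))) (.node (.leaf (.rl 7 1 [9, 41, 65, 94, 114, 143] [2608] [] false)) (.leaf (.rl 5 4 [22, 71, 37, 80, 119, 159, 166] [43, 43, 45, 202, 206, 206, 5730, 5926, 5930, 5928, 5088, 6680] [94, 44, 44, 42, 42, 45, 45, 612] false)))) (.node (.node (.leaf (.rl 4 4 [4, 42, 66, 89, 124, 151, 166] [146] [34, 48, 48, 48, 174, 520, 184, 184, 141, 143, 185, 185, 143, 402] false)) (.leaf (.rl 10 1 [21, 44, 66, 89, 122, 143] [5680] [] false))) (.leaf (.rl 4 4 [15, 73, 58, 82, 120, 169, 167] [160] [30, 30, 154, 528, 453, 157, 1234] false))))) (.node (.node (.node (.node (.leaf (.rl 4 2 [18, 27, 57, 91, 121, 155, 167] [138] [34, 34, 138] false)) (.leaf (.rl 4 4 [24, 67, 99, 153] [138, 140, 288, 4280] [36, 48, 30, 36, 150, 204] false))) (.node (.leaf (.rl 10 1 [4, 44, 49, 98, 115] [2352] [] false)) (.leaf (.rl 5 4 [23, 41, 49, 81, 130, 170, 167] [43, 95, 45, 45, 324, 5638, 5926, 5090,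 6426] [94, 44, 5196] false)))) (.node (.node (.leaf (.rl 7 1 [7, 41, 52, 99, 131, 152, 167] [1328] [] false)) (.leaf (.rl 21 1 [16, 30, 63, 102, 88, 156, 166] [5424] [] false))) (.leaf (.rl 4 4 [5, 29, 62, 90, 134, 153, 166] [160] [48, 48, 32, 36, 146, 1634] false)))) (.node (.node (.node (.leaf (.rl 4 4 [14, 70, 38, 131, 159, 166] [31, 65, 49, 31, 70, 48, 64, 30, 64, 30, 160] [48, 30, 48, 160] false)) (.leaf (.rl 5 4 [3, 72, 51, 80, 117, 143] [43, 43, 45, 202, 207, 207, 4614] [44, 94, 42, 45, 45, 43, 2996] false))) (.leaf (.rl 10 1 [16, 44, 55, 102, 157, 167] [2864] [] false))) (.node (.node (.leaf (.rl 10 1 [23, 42, 60, 90, 117, 151, 167] [1840] [] false)) (.leaf (.rl 23 1 [9, 74, 52, 79, 117] [5692, 5926] [5926] false))) (.leaf (.rl 7 1 [9, 32, 38, 93, 120, 143, 167] [3888] [] false)))))) (.node (.node (.node (.node (.node (.leaf (.rl 10 1 [5, 68, 52, 79, 121, 171, 167] [176] [] false)) (.leaf (.rl 7 4 [17, 74,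 90, 122, 155] [924, 345, 263, 558] [956] false))) (.node (.leaf (.rl 4 4 [7, 69, 65, 104, 117, 143, 166] [146] [64, 32, 30, 30, 146, 1236] false)) (.leaf (.rl 4 4 [12, 49, 98, 121, 155, 167] [154, 156, 453, 157, 529, 5142, 5350, 5176, 5104, 6302] [64, 48, 30, 30, 154] false)))) (.node (.node (.leaf (.rl 7 1 [22, 73, 54, 96, 120, 158, 166] [1200] [] false)) (.leaf (.rl 23 1 [17, 70, 57, 102, 123, 143, 166] [5296] [] false))) (.leaf (.rl 4 2 [6, 28, 91, 118, 168, 167] [160] [32, 30, 160] false)))) (.node (.node (.node (.leaf (.rl 7 1 [11, 55, 104, 130, 151] [688] [] false)) (.leaf (.rl 4 4 [19, 27, 64, 98, 117, 153, 167] [160] [30, 36, 64, 34, 138, 184, 184, 4286, 4396] false))) (.node (.leaf (.rl 9 1 [19, 69, 54, 100, 123, 153] [2736] [] false)) (.leaf (.rl 5 4 [11, 71, 63, 96, 131, 154] [45, 43, 43, 45, 45, 122, 44, 94, 42, 44, 44, 95, 45, 5212, 5926, 5930, 5092, 5090, 6816] [44, 94, 43, 45, 45, 95, 4556] false))))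 (.node (.node (.leaf (.rl 7 1 [33, 26, 59, 99, 124, 143, 167] [1712] [] false)) (.leaf (.rl 5 4 [16, 31, 52, 100, 88, 152, 166] [43, 95, 45, 45, 324, 207, 5140, 5350] [94, 43, 45, 246] false))) (.leaf (.rl 4 4 [11, 40, 58, 97, 130, 151] [160, 344, 3660] [30, 64, 48, 31, 56] false))))) (.node (.node (.node (.node (.leaf (.rl 7 1 [20, 42, 65, 99, 113, 168, 166] [432] [] false)) (.leaf (.rl 4 4 [18, 28, 62, 102, 120, 157] [146, 207, 4506] [48, 48, 48, 30, 154] false))) (.node (.leaf (.rl 7 1 [5, 46, 56, 124, 154, 167] [2480] [] false)) (.leaf (.rl 5 4 [18, 62, 98, 88, 152, 166] [43, 45, 43, 3148, 452, 237, 5548, 5926, 5092, 6564] [94, 44, 43, 43, 45, 45, 95, 4556] false)))) (.node (.node (.leaf (.rl 10 1 [3, 31, 61, 91, 122, 157, 166] [1456] [] false)) (.leaf (.rl 23 1 [14, 74, 61, 122, 155] [5552] [] false))) (.leaf (.rl 4 4 [5, 74, 51, 92, 116, 154, 166] [160, 263, 3404] [48, 64, 34, 34, 160] false)))) (.node (.node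 (.node (.leaf (.rl 7 1 [8, 26, 59, 82, 124] [944] [] false)) (.leaf (.rl 5 4 [23, 28, 66, 95, 121, 170] [43, 45, 45, 43, 43, 45, 3760, 4946] [94, 44, 42, 45, 45, 3984] false))) (.leaf (.rl 4 4 [21, 72, 55, 80, 124, 167] [154, 528, 157, 529, 2616] [32, 48, 64, 48, 31, 56] false))) (.node (.node (.leaf (.rl 4 4 [20, 26, 49, 98, 122, 167] [146, 207, 207, 1672] [30, 34, 32, 146] false)) (.leaf (.rl 7 4 [13, 72, 63, 96, 121, 156] [5220, 5926] [206, 1516, 206, 206, 5220, 5926] false))) (.leaf (.rl 7 1 [24, 38, 98, 118, 158, 167] [4016] [] false))))))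

def kSrc74 : Tr Src :=
  .node (.node (.node (.node (.node (.node (.leaf (.rl 5 4 [9, 30, 38, 104, 123, 158, 167] [45, 84, 94, 43, 108, 44, 42, 45, 84] [] false)) (.leaf (.rl 5 4 [17, 30, 37, 80, 122, 159] [43, 45, 45, 43, 226, 344, 262, 1940] [44, 42, 42, 45, 43, 95, 45, 45, 556] false))) (.node (.leaf (.rl 4 4 [9, 39, 67, 95, 122, 158] [146] [48, 64, 31, 49, 37, 622, 207, 207, 2082] false)) (.leaf (.rl 7 1 [14, 68, 67, 97, 134, 166] [206, 6256] [6256] true)))) (.node (.node (.leaf (.rl 7 1 [7, 71, 67, 102, 119, 143, 166] [1136] [] false)) (.leaf (.rl 12 1 [12, 71, 63, 96, 131, 154] [550, 195, 209, 5232] [195, 209, 5232] false))) (.leaf (.rl 4 4 [21, 26, 62, 101, 119, 168, 166] [154, 528, 452, 156, 453, 2636] [48, 36, 64, 48, 166] false)))) (.node (.node (.node (.leaf (.rl 4 4 [15, 31, 37, 101, 130, 157, 166] [138, 184, 142, 288, 141, 185, 185, 185, 143, 506] [30, 64, 36, 34, 150, 204] false)) (.leaf (.rl 4 4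 [8, 69, 50, 93, 121, 169] [160] [64, 48, 64, 30, 166, 208, 194, 168, 171, 195, 4432] false))) (.node (.leaf (.rl 9 1 [12, 30, 64, 97, 114, 157] [2672] [] false)) (.leaf (.rl 4 4 [9, 68, 61, 93, 121, 167] [35, 49, 35, 134, 42, 44, 43, 95, 45, 5212, 5926, 5928, 5930, 5090, 5088, 6752] [34, 30, 146] false)))) (.node (.node (.leaf (.rl 4 4 [20, 72, 55, 79, 131, 166] [146] [36, 32, 30, 154, 452, 237, 453, 420] false)) (.leaf (.rl 5 4 [8, 30, 55, 89, 114, 144] [43, 45, 43, 43, 90, 42, 42, 5196] [43, 45, 5196] false))) (.leaf (.rl 10 1 [21, 26, 53, 103, 133, 154, 166] [3696] [] false))))) (.node (.node (.node (.node (.leaf (.rl 4 4 [15, 31, 38, 98, 121, 153] [138, 184, 288, 184, 288, 142, 141, 185, 143, 294] [48, 30, 64, 160] false)) (.leaf (.rl 4 4 [33, 30, 67, 92, 131, 159, 167] [146] [48, 48, 48, 36, 166, 208, 194, 208, 170, 168, 171, 195, 4432] false))) (.node (.leaf (.rl 7 1 [24, 32, 38, 102, 115, 156, 166] [2416]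 [] false)) (.leaf (.rl 4 4 [24, 71, 63, 80, 112, 171] [31, 56, 42, 44, 43, 43, 45, 45, 5236, 5926, 5930, 5928, 5090, 5088, 6496] [30, 48, 48, 48, 146] false)))) (.node (.node (.leaf (.rl 4 4 [9, 43, 38, 80, 88] [146, 206, 690] [36, 48, 30, 36, 166] false)) (.leaf (.rl 10 1 [18, 29, 49, 101, 122, 169] [5488] [] false))) (.leaf (.rl 10 1 [13, 73, 49, 100, 124, 144, 167] [3440] [] false)))) (.node (.node (.node (.leaf (.rl 7 1 [15, 62, 103, 124, 154, 166] [880] [] false)) (.leaf (.rl 14 1 [4, 44, 66, 90, 122, 171, 166] [4976] [] false))) (.leaf (.rl 4 4 [17, 69, 55, 102, 115, 157, 166] [154, 156, 237, 453, 1420] [30, 48, 64, 146] false))) (.node (.node (.leaf (.rl 4 4 [18, 69, 56, 123, 143, 166] [146] [34, 48, 48, 150, 204, 206, 206, 1430] false)) (.leaf (.rl 22 1 [24, 68, 61, 91, 132, 168, 166] [6000] [] false))) (.leaf (.rl 4 4 [29, 56, 102, 123, 168, 166] [164, 484, 1744] [30, 64, 32, 48, 32, 146] false)))))) (.node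 (.node (.node (.node (.node (.leaf (.rl 1 4 [7, 44, 65, 92, 132, 169, 166] [40] [10, 6, 10, 6, 8, 6, 10, 10, 6, 10, 6, 10, 8, 28, 36, 48, 48, 34, 146] false)) (.leaf (.rl 9 1 [12, 30, 64, 79] [529, 236, 452, 453, 157, 4336] [453, 157, 4336] false))) (.node (.leaf (.rl 4 4 [10, 73, 59, 99, 123, 151, 167] [150, 204] [32, 64, 32, 146, 207, 207, 1950] false)) (.leaf (.rl 5 4 [3, 69, 50, 91, 122, 152, 166] [43, 43, 45, 202, 207, 5754, 5926, 5928, 5090, 5088, 6372] [218] false)))) (.node (.node (.leaf (.rl 7 1 [22, 73, 64, 90, 153, 166] [1264] [] false)) (.leaf (.rl 23 1 [21, 68, 62, 95, 120, 171, 167] [5360] [] false))) (.leaf (.rl 4 4 [17, 28, 55, 82, 116, 156, 166] [160] [48, 34, 64, 31, 31, 49, 37, 622, 206, 2210] false)))) (.node (.node (.node (.leaf (.rl 4 4 [40, 64, 118, 143] [31, 65, 49, 31, 70, 64, 32, 48, 34, 146] [64, 32, 48, 64, 30, 146] false)) (.leaf (.rl 4 4 [42, 66, 101, 112, 168, 167] [164, 484] [36,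 48, 36, 48, 146, 206, 4480] false))) (.node (.leaf (.rl 4 4 [33, 27, 50, 82, 116, 154, 166] [154] [64, 30, 37, 49, 54, 36, 48, 64, 32, 154] false)) (.leaf .dfn))) (.node (.node (.leaf (.rl 7 1 [5, 63, 98, 123, 157] [1776] [] false)) (.leaf (.rl 23 1 [15, 51, 92, 121, 151, 166] [5872] [] false))) (.leaf (.rl 4 4 [17, 40, 37, 92, 124, 169] [160] [48, 48, 48, 30, 30, 166, 208, 208, 170, 208, 170, 168, 171, 209, 195, 551, 209, 169, 195, 516] false))))) (.node (.node (.node (.node (.leaf (.rl 4 4 [11, 27, 37, 90, 122, 143, 167] [138, 184, 184, 184, 142, 141, 143, 185, 185, 143, 402] [34, 64, 30, 30, 30, 160] false)) (.leaf (.rl 4 4 [19, 69, 60, 99, 114, 157, 166] [146] [48, 48, 48, 34, 138, 142, 184, 184, 184, 140, 4286, 4396] false))) (.node (.leaf (.rl 4 4 [15, 41, 60, 79, 120, 154] [150, 204, 206, 1430] [36, 48, 48, 64, 150, 204] false)) (.leaf (.rl 5 4 [23, 28, 49, 104, 122, 144, 166] [43, 95, 45, 45, 324, 5318,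 5926, 5088, 6626] [42, 42, 44, 43, 45, 5196] false)))) (.node (.node (.leaf (.rl 4 4 [18, 74, 37, 103, 152, 166] [146, 206, 746] [48, 30, 36, 64, 146] false)) (.leaf (.rl 5 2 [17, 27, 67, 89, 124, 154, 167] [43, 45, 45, 43, 226] [43, 43, 45, 45, 5458] false))) (.leaf (.rl 4 4 [14, 39, 50, 79, 134, 143, 167] [160] [64, 48, 64, 36, 150, 204, 207, 2462] false)))) (.node (.node (.node (.leaf (.rl 7 1 [21, 69, 60, 89, 124, 158, 167] [1008] [] false)) (.leaf (.rl 12 1 [20, 45, 60, 81, 123, 151, 167] [209, 209, 168, 194, 170, 5102] [5102] false))) (.leaf (.rl 10 1 [16, 39, 55, 95, 132, 153] [3056] [] false))) (.node (.node (.leaf (.rl 4 4 [24, 73, 65, 93, 123, 159, 166] [146, 206, 206, 1796] [48, 30, 48, 48, 160] false)) (.leaf (.rl 10 1 [16, 46, 62, 92, 134, 171, 167] [6124] [] false))) (.leaf (.rl 5 4 [15, 71, 57, 102, 123, 168, 166] [43, 43, 45, 202] [44, 44, 94, 43, 45, 43, 3148, 236, 3924] false))))))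

def kSrc75 : Tr Src :=
  .node kSrc73 kSrc74

def kSrc76 : Tr Src :=
  .node kSrc72 kSrc75

def kSrc77 : Tr Src :=
  .node kSrc69 kSrc76

def kSrc78 : Tr Src :=
  .node (.node (.node (.node (.node (.node (.leaf (.rl 0 1 [] [3, 1, 3, 1, 3, 3, 1, 3, 3, 0, 2, 2, 0, 2, 2, 0, 2, 2, 4] [4] true)) (.leaf (.rl 5 4 [10, 46, 57, 100, 88, 156] [43, 43, 45, 202] [94, 45, 43, 43, 45, 45, 122, 44, 94, 42, 44, 44, 43, 45, 202] false))) (.node (.leaf (.rl 4 4 [33, 32, 58, 89, 118, 157, 167] [146, 206, 206, 940] [48, 64, 30, 48, 32, 146] false)) (.leaf (.rl 9 4 [14, 27, 65, 103, 132, 170, 167] [157, 237, 3530, 6124] [6114] false)))) (.node (.node (.leaf (.rl 7 1 [18, 41, 53, 89, 133] [1032] [] false)) (.leaf .dfn)) (.leaf (.rl 4 4 [7, 30, 64, 92, 112, 143, 167] [154, 528, 452, 236, 157, 2672] [48, 32, 36, 48, 160] false)))) (.node (.node (.node (.leaf (.rl 4 4 [23, 68, 38, 96, 118, 153, 167] [138, 288, 184, 288, 142, 185, 185,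 185, 143, 506] [36, 30, 32, 164, 484] false)) (.leaf (.rl 4 4 [19, 43, 65, 99, 134, 143] [150, 204, 207, 4382, 4396] [48, 48, 30, 36, 164, 484] false))) (.node (.leaf (.rl 7 1 [8, 74, 60, 80, 130, 159, 167] [2568] [] false)) (.leaf (.rl 4 4 [19, 39, 37, 99, 120, 169] [150, 204, 206, 206, 5532, 5926, 5928, 5092, 5088, 6648] [36, 48, 48, 48, 146] false)))) (.node (.node (.leaf (.rl 4 4 [24, 74, 57, 104, 113, 158, 167] [146] [32, 48, 48, 166, 208, 551, 209, 310] false)) (.leaf (.rl 5 4 [17, 40, 60, 97, 88, 168, 166] [43, 45, 45, 43, 226, 5330, 5350] [44, 43, 45, 43, 95, 588] false))) (.leaf (.rl 10 1 [17, 46, 59, 96, 113, 168] [3592] [] false))))) (.node (.node (.node (.node (.leaf (.rl 10 1 [16, 41, 51, 96, 112, 159, 166] [264] [] false)) (.leaf (.rl 4 4 [8, 69, 52, 95, 115, 154, 167] [138, 288, 288, 4286] [36, 34, 64, 32, 154] false))) (.node (.leaf (.rl 4 4 [15, 42, 62, 81, 124, 151, 167] [150, 204] [64, 48, 36,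 65, 49, 31, 70, 48, 34, 64, 32, 160] false)) (.leaf (.rl 4 4 [22, 32, 66, 91, 171, 166] [146, 207, 5754, 5926, 5928, 5090, 6400] [30, 48, 36, 150, 204] false)))) (.node (.node (.leaf (.rl 7 1 [14, 70, 50, 97, 130, 168, 167] [1288] [] false)) (.leaf (.rl 5 4 [3, 26, 61, 100, 115, 155, 166] [43, 43, 45, 202, 206, 5032] [42, 42, 44, 5194, 5350] false))) (.leaf (.rl 7 1 [33, 27, 66, 90, 112, 171, 167] [3336] [] false)))) (.node (.node (.node (.leaf (.rl 4 4 [21, 41, 61, 89, 119, 155, 166] [31, 65, 49, 31, 70, 64, 36, 32, 48, 146] [30, 48, 64, 34, 48, 146] false)) (.leaf (.rl 4 4 [21, 26, 64, 97, 124, 171] [35, 49, 35, 134, 44, 94, 42, 44, 44, 43, 45, 45, 95, 4556] [36, 30, 150, 204] false))) (.leaf (.rl 9 1 [13, 43, 51, 92, 116, 157, 167] [2824] [] false))) (.node (.node (.leaf (.rl 7 1 [3, 46, 63, 96, 132, 153, 166] [1800] [] false)) (.leaf (.rl 23 1 [11, 32, 60, 98, 88, 158] [5896] [] false))) (.leaf (.rl 4 4 [5,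 27, 65, 93, 124, 158] [160] [64, 32, 36, 30, 150, 204, 206, 328] false)))))) (.node (.node (.node (.node (.node (.leaf .dfn) (.leaf (.rl 5 4 [9, 42, 55, 89, 168, 166] [45, 43, 43, 45, 45, 122, 43, 43, 95, 218] [44, 44, 42, 42, 44, 43, 43, 95, 218] false))) (.node (.leaf (.rl 4 4 [19, 44, 50, 98, 123, 154, 167] [146, 206, 206, 1674] [48, 64, 36, 48, 166] false)) (.leaf (.rl 7 4 [5, 46, 62, 101, 133, 144] [207, 207, 2050, 6256] [6256] false)))) (.node (.node (.leaf (.rl 7 1 [9, 30, 60, 98, 115, 152] [1160] [] false)) (.leaf (.rl 4 4 [11, 28, 62, 82, 134, 171, 166] [166, 5096] [64, 36, 31, 31, 49, 37, 622] false))) (.leaf (.rl 4 4 [3, 46, 52, 94, 122, 170] [154, 156, 452, 529, 1660] [30, 160] false)))) (.node (.node (.node (.leaf (.rl 6 1 [24, 30, 60, 91, 132, 155] [648] [] false)) (.leaf (.rl 4 4 [11, 69, 51, 80, 118, 155] [160] [48, 64, 36, 32, 160, 262, 4714] false))) (.node (.leaf (.rl 7 1 [3, 72, 59, 95, 133,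 170] [2696] [] false)) (.leaf (.rl 4 4 [5, 30, 64, 134, 171, 167] [160, 344, 263, 345, 263, 5818, 5926, 5930, 5928, 5088, 6780] [64, 48, 36, 146] false)))) (.node (.node (.leaf (.rl 7 1 [21, 40, 50, 102, 122, 153] [1672] [] false)) (.leaf (.rl 23 1 [23, 32, 61, 91, 117, 143, 167] [5768] [] false))) (.leaf (.rl 4 4 [14, 39, 62, 80, 115, 155, 166] [160, 262, 344, 2402] [64, 34, 31, 31, 49, 37, 622] false))))) (.node (.node (.node (.node (.leaf (.rl 4 4 [17, 58, 103, 130, 155, 167] [138, 184, 142, 288, 142, 141, 143, 185, 185, 143, 290] [34, 48, 64, 32, 48, 146] false)) (.leaf (.rl 4 4 [18, 73, 37, 99, 122, 143] [146] [48, 36, 64, 32, 48, 160, 262, 4408] false))) (.node (.leaf (.rl 7 1 [8, 26, 50, 101, 115, 151, 167] [2440] [] false)) (.leaf (.rl 4 4 [16, 44, 57, 80] [146, 206, 206, 5216, 5926, 5092, 5088, 6528] [32, 34, 30, 150, 204] false)))) (.node (.node (.leaf (.rl 4 4 [8, 29, 38, 97, 156, 167] [146] [48, 48,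 56, 42, 42, 44, 44, 42, 45, 45, 612] false)) (.leaf (.rl 9 1 [20, 28, 93, 120, 143, 166] [5512] [] false))) (.leaf (.rl 4 4 [18, 44, 52, 81, 112, 143, 167] [160] [36, 30, 30, 166, 209, 171, 209, 209, 552] false)))) (.node (.node (.node (.leaf (.rl 4 2 [33, 71, 65, 96, 88, 153, 166] [146] [36, 64, 32, 30, 30, 160] false)) (.leaf (.rl 5 4 [20, 44, 64, 99, 119, 152, 167] [43, 45, 45, 43, 226, 262, 344, 262, 345, 263, 4794] [44, 44, 43, 45, 45, 95, 4556] false))) (.leaf (.rl 9 1 [7, 72, 60, 116, 152, 166] [2952] [] false))) (.node (.node (.leaf (.rl 4 4 [13, 73, 57, 93, 120, 155] [146] [48, 36, 30, 34, 30, 146, 206, 206, 704] false)) (.leaf (.rl 5 4 [3, 42, 62, 91, 130, 167] [43, 5194, 5350] [42, 45, 43, 95, 3304, 344, 5624] false))) (.leaf (.rl 7 1 [15, 27, 59, 80, 117, 169, 166] [3976] [] false))))))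

def kSrc79 : Tr Src :=
  .node (.node (.node (.node (.node (.node (.leaf (.rl 1 4 [13, 68, 38, 99, 151, 167] [28, 64, 50] [6, 10, 10, 10, 6, 10, 10, 10, 6, 40] false)) (.leaf (.rl 5 4 [11, 32, 64, 100, 88, 151, 166] [43, 43, 45, 202, 1018] [44, 94, 43, 43, 95, 45, 45, 608] false))) (.node (.leaf (.rl 4 4 [6, 40, 49, 104, 116, 152, 166] [146, 207, 1640] [48, 32, 64, 32, 30, 154] false)) (.leaf (.rl 5 4 [29, 63, 99, 130, 169, 166] [43, 45, 43, 3148, 529, 2280] [45, 45, 43, 95, 6198] false)))) (.node (.node (.leaf (.rl 4 4 [9, 43, 102, 121, 144, 166] [146, 676] [30, 64, 30, 48, 34, 146] false)) (.leaf (.rl 4 4 [18, 39, 63, 96, 113, 143, 166] [31, 35, 49, 50] [48, 36, 64, 34, 34, 146, 207, 5152] false))) (.leaf (.rl 4 4 [7, 68, 53, 124, 169] [154] [34, 64, 36, 30, 35, 49, 35, 134, 42, 42, 45, 95, 128] false)))) (.node (.node (.node (.leaf (.rl 7 1 [16, 46, 67, 96, 112, 144, 167] [584] [] false)) (.leaf (.rl 4 4 [72,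 89, 131, 155, 166] [154] [30, 64, 48, 166, 550, 194, 171, 209, 209, 4360, 4396] false))) (.node (.leaf (.rl 7 1 [17, 43, 64, 98, 113, 154, 166] [2632] [] false)) (.leaf (.rl 4 4 [10, 73, 38, 102, 115, 151, 166] [150, 204, 206, 206, 5348, 5926, 6720] [36, 32, 30, 30, 35, 49, 35, 134] false)))) (.node (.node (.leaf (.rl 7 1 [16, 43, 67, 101, 117, 144] [1608] [] false)) (.leaf (.rl 24 1 [33, 72, 62, 92, 131, 151] [5704] [] false))) (.leaf (.rl 7 1 [17, 74, 51, 102, 119, 151] [3656] [] false))))) (.node (.node (.node (.node (.leaf (.rl 4 4 [16, 42, 56, 94, 119, 153] [138, 288, 288, 142, 288, 142, 141, 143, 185, 185, 143, 290] [30, 64, 36, 30, 146] false)) (.leaf (.rl 4 4 [10, 28, 61, 98, 118, 167] [138, 184, 184, 288, 184, 142, 4286, 4396] [48, 36, 34, 64, 164, 484] false))) (.node (.leaf (.rl 4 4 [18, 71, 56, 82, 123, 153] [150, 204, 206, 1360] [64, 34, 48, 146] false)) (.leaf (.rl 4 4 [14, 45, 65, 98, 132, 144, 167]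 [146, 5638, 5926, 5088, 6468] [36, 32, 34, 31, 31, 49, 37, 622] false)))) (.node (.node (.leaf (.rl 4 4 [23, 40, 59, 93, 112, 151, 166] [146, 206, 880] [32, 48, 34, 30, 150, 204] false)) (.leaf (.rl 5 4 [5, 41, 64, 104, 124, 151] [43, 43, 45, 202, 206, 206, 2322] [42, 42, 44, 44, 95, 5392] false))) (.leaf (.rl 10 1 [19, 74, 63, 103, 124, 158] [3400] [] false)))) (.node (.node (.node (.leaf (.rl 7 1 [20, 41, 55, 89, 113, 151, 167] [840] [] false)) (.leaf (.rl 5 4 [18, 73, 62, 91, 121, 159, 167] [43, 43, 45, 202, 207, 4594] [94, 42, 44, 43, 45, 95, 4342, 4396] false))) (.leaf (.rl 4 4 [23, 29, 54, 89, 113, 152, 166] [154] [48, 34, 34, 138, 288, 184, 288, 141, 289, 185, 143, 185, 1452] false))) (.node (.node (.leaf (.rl 7 1 [16, 43, 58, 89, 123, 168] [1864] [] false)) (.leaf (.rl 23 1 [5, 46, 61, 79, 88, 171, 167] [5738, 5926] [5926] false))) (.leaf (.rl 7 1 [19, 32, 51, 89, 120, 170, 167] [3912] [] false)))))) (.node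 (.node (.node (.node (.node (.leaf (.rl 7 1 [6, 68, 55, 104, 123, 159, 166] [200] [] false)) (.leaf (.rl 1 4 [22, 32, 55, 82, 115, 151] [28, 48, 34, 174, 520, 184, 4296] [10, 10, 6, 10, 10, 6, 10, 8, 6, 10, 28] false))) (.node (.leaf (.rl 7 1 [22, 46, 67, 94, 134, 156, 167] [2248] [] false)) (.leaf (.rl 4 4 [9, 69, 54, 79, 133, 151, 166] [150, 204, 5138, 5350, 5108, 5106, 6338] [48, 64, 36, 48, 166] false)))) (.node (.node (.leaf (.rl 4 4 [7, 72, 54, 118, 153] [146] [48, 64, 36, 32, 30, 160, 262, 1164] false)) (.leaf (.rl 5 2 [4, 39, 60, 103, 118, 151, 167] [43, 43, 45, 202] [42, 44, 43, 45, 45, 5236] false))) (.leaf (.rl 4 4 [3, 31, 58, 100, 118, 167] [160] [48, 64, 48, 30, 30, 154, 528, 237, 453, 529, 2714] false)))) (.node (.node (.node (.leaf (.rl 4 4 [6, 28, 64, 99, 131, 144, 166] [138, 184, 184, 142, 140, 289, 289, 143, 652] [64, 48, 48, 30, 150, 204] false)) (.leaf (.rl 4 4 [33, 44, 38, 93, 132, 143, 166]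 [160, 263, 4416] [64, 30, 48, 32, 31, 31, 49, 37, 622] false))) (.node (.leaf (.rl 9 1 [16, 46, 49, 104, 112, 155, 166] [2760] [] false)) (.leaf (.rl 5 4 [7, 68, 67, 80, 134, 153] [45, 43, 43, 45, 434, 5286, 5926, 5090, 6846] [44, 44, 43, 95, 45, 3786] false)))) (.node (.node (.leaf (.rl 7 1 [8, 45, 50, 82, 131, 144] [1736] [] false)) (.leaf (.rl 5 4 [14, 42, 65, 104, 117, 157, 166] [45, 95, 3024] [94, 42, 44, 42, 45, 45, 43, 226, 345, 5158] false))) (.leaf (.rl 10 1 [23, 70, 66, 90, 133, 157, 167] [3784] [] false))))) (.node (.node (.node (.node (.leaf (.rl 4 4 [33, 71, 63, 103, 115, 152, 166] [138, 288, 142, 184, 288, 141, 143, 185, 185, 143, 402] [48, 64, 34, 34, 146] false)) (.leaf (.rl 4 4 [13, 73, 57, 90, 115, 157] [146, 206, 206, 4372, 4396] [48, 64, 50] false))) (.node (.leaf (.rl 7 1 [3, 44, 49, 81, 124, 144, 166] [2504] [] false)) (.leaf (.rl 4 4 [19, 43, 51, 97, 116, 169, 166] [150, 204, 5314, 5926, 5930,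 5928, 5090, 6588] [36, 48, 48, 32, 48, 146] false)))) (.node (.node (.leaf (.rl 7 1 [21, 40, 58, 103, 123] [1480] [] false)) (.leaf (.rl 5 4 [3, 30, 66, 97, 122] [43, 45, 43, 3148, 452, 237, 5144, 5350] [44, 44, 42, 42, 44, 43, 95, 45, 5212] false))) (.leaf (.rl 10 1 [62, 89, 119, 156, 166] [3528] [] false)))) (.node (.node (.node (.leaf (.rl 10 1 [8, 42, 89, 132, 159, 166] [968] [] false)) (.leaf (.rl 5 4 [40, 100, 130, 158, 166] [43, 43, 45, 45, 43, 2160, 5016] [42, 95, 4556] false))) (.leaf (.rl 4 4 [16, 39, 65, 79, 88, 154, 167] [154] [32, 30, 30, 35, 49, 35, 134, 42, 42, 44, 43, 43, 45, 246] false))) (.node (.node (.leaf (.rl 7 1 [10, 74, 55, 103, 118, 154] [1992] [] false)) (.leaf (.rl 25 1 [8, 46, 56, 80, 120, 168, 167] [5272, 6086] [6086] false))) (.leaf (.rl 4 4 [5, 70, 54, 104, 117, 154] [31, 31, 49, 37, 622, 206, 206, 1210] [32, 64, 48, 31, 49, 37, 622] false))))))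

def kSrc80 : Tr Src :=
  .node kSrc78 kSrc79

def kSrc81 : Tr Src :=
  .node (.node (.node (.node (.node (.node (.leaf (.rl 1 1 [22, 26] [7, 9, 7, 11, 7, 11, 7, 11, 7, 9, 11, 6, 10, 8, 6, 10, 10, 10, 6, 10, 6, 10, 6, 40] [40] true)) (.leaf (.rl 5 4 [17, 44, 54, 82, 119, 155] [43, 43, 45, 202, 980] [94, 43, 95, 3304] false))) (.node (.leaf (.rl 4 4 [22, 40, 50, 81, 157] [146] [30, 64, 48, 37, 49, 49, 49, 60, 64, 32, 36, 34, 164, 484] false)) (.leaf .dfn))) (.node (.node (.leaf (.rl 7 1 [13, 29, 52, 92, 119, 171, 167] [1064] [] false)) (.leaf (.rl 4 4 [16, 70, 49, 97, 116, 159, 167] [160] [64, 34, 48, 64, 34, 146, 5134] false))) (.leaf (.rl 7 1 [21, 71, 55, 101, 116, 143, 166] [3112] [] false)))) (.node (.node (.node (.leaf (.rl 4 4 [18, 71, 54, 101, 112, 158, 167] [138, 140, 288, 142, 185, 185, 143, 302] [64, 32, 35, 49, 50] false)) (.leaf (.rl 4 4 [9, 44, 63, 91, 118, 152, 167] [150, 204, 206, 4310] [36, 48, 48,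 154] false))) (.node (.leaf (.rl 10 1 [23, 40, 55, 81, 122, 158, 166] [2600] [] false)) (.leaf (.rl 4 4 [20, 72, 60, 90, 132, 154] [154, 528, 236, 157, 237, 5364, 5926, 5930, 5088, 6682] [30, 48, 48, 48, 30, 146] false)))) (.node (.node (.leaf (.rl 4 4 [12, 40, 91, 123, 168, 167] [146] [30, 64, 48, 174, 520, 140, 288, 288, 142, 141, 185, 143, 185, 185, 280] false)) (.leaf (.rl 7 1 [12, 28, 56, 79, 116, 166] [5672] [] false))) (.leaf (.rl 10 1 [7, 62, 82, 122, 171, 167] [3624] [] false))))) (.node (.node (.node (.node (.leaf (.rl 4 2 [7, 32, 58, 80, 118, 143, 166] [138] [30, 36, 64, 34, 150, 204] false)) (.leaf (.rl 14 1 [7, 39, 49, 103, 121, 158] [4392] [] false))) (.node (.leaf (.rl 10 1 [21, 68, 54, 93, 130, 166] [2344] [] false)) (.leaf (.rl 4 4 [12, 49, 82, 121, 154] [146, 206, 5344, 5926, 5090, 5088, 6436] [34, 64, 30, 30, 164, 484] false)))) (.node (.node (.leaf (.rl 7 1 [3, 72, 49, 98, 113, 168, 166] [1320]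 [] false)) (.leaf (.rl 7 1 [16, 39, 59, 99, 130, 170] [5416] [] false))) (.leaf (.rl 4 4 [19, 39, 59, 95, 88, 158] [160] [48, 31, 31, 49, 37, 622, 207, 207, 2702] false)))) (.node (.node (.node (.leaf (.rl 4 4 [9, 30, 52, 89, 124, 158, 166] [31, 65, 49, 31, 70, 48, 64, 32, 30, 166] [36, 48, 36, 48, 166] false)) (.leaf (.rl 5 4 [10, 31, 52, 91, 122, 157] [43, 43, 45, 202, 207, 4812] [44, 95, 45, 1426] false))) (.leaf (.rl 4 4 [33, 70, 49, 89, 134, 155, 167] [154, 452, 237, 453, 2824] [64, 36, 48, 30, 146] false))) (.node (.node (.leaf (.rl 7 1 [19, 69, 54, 131, 151] [1832] [] false)) (.leaf (.rl 23 0 [] [5926] [5406, 5926] true))) (.leaf (.rl 4 4 [9, 44, 49, 102, 112, 171, 166] [31, 66, 30, 48, 48, 34, 166] [36, 64, 30, 166] false)))))) (.node (.node (.node (.node (.node (.leaf (.rl 4 1 [13, 29, 49] [31, 31, 49, 49, 49, 36, 30, 48, 36, 64, 30, 166] [166] true)) (.leaf (.rl 5 4 [20, 28, 37, 89, 117, 153, 167] [45,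 43, 43, 45, 434, 3590] [44, 44, 43, 95, 260] false))) (.node (.leaf (.rl 7 1 [7, 71, 51, 104, 122, 167] [2216] [] false)) (.leaf (.rl 4 4 [16, 43, 55, 89, 133, 155] [146, 206, 5690, 5108, 5176, 5104, 6310] [34, 64, 48, 34, 31, 56] false)))) (.node (.node (.leaf (.rl 7 1 [11, 29, 60, 81, 88, 170] [1192] [] false)) (.leaf (.rl 21 1 [22, 71, 59, 80, 133, 170, 166] [5288] [] false))) (.leaf (.rl 4 2 [14, 29, 49] [160] [32, 30, 30, 160] false)))) (.node (.node (.node (.leaf (.rl 4 4 [20, 32, 38, 101, 134, 159] [138, 142, 140, 289, 143, 289, 143, 564] [34, 48, 48, 48, 34, 146] false)) (.leaf (.rl 4 4 [4, 70, 67, 95, 118, 158] [160, 4660] [34, 48, 48, 30, 48, 146] false))) (.node (.leaf (.rl 4 4 [13, 68, 96, 123, 158, 166] [154] [48, 64, 32, 48, 32, 154, 236, 156, 529, 786] false)) (.leaf (.rl 4 4 [15, 62, 94, 88] [146, 5466, 5926, 5930, 5928, 5930, 6822] [36, 48, 36, 160] false)))) (.node (.node (.leaf (.rl 9 1 [10, 40,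 65, 91, 132, 151] [1704] [] false)) (.leaf (.rl 21 1 [13, 45, 62, 98, 114, 152, 166] [5800] [] false))) (.leaf (.rl 4 4 [8, 43, 66, 103, 122, 151, 166] [160] [36, 64, 32, 31, 49, 37, 622, 206, 850] false))))) (.node (.node (.node (.node (.leaf (.rl 4 4 [13, 45, 54, 97, 170, 166] [138, 184, 140, 288, 184, 143, 185, 185, 143, 402] [32, 64, 30, 154] false)) (.leaf (.rl 4 4 [17, 69, 57, 102, 88, 158, 167] [146] [48, 36, 48, 36, 48, 146, 4446] false))) (.node (.leaf (.rl 10 1 [33, 45, 55, 90, 132, 171, 167] [2472] [] false)) (.leaf (.rl 4 4 [13, 73, 57, 93, 117, 156] [146, 206, 5376, 5926, 5928, 5092, 5090, 6566] [32, 36, 48, 64, 146] false)))) (.node (.node (.leaf (.rl 4 4 [10, 46, 95, 131, 159] [146] [64, 49, 54, 64, 34, 48, 64, 146] false)) (.leaf (.rl 24 1 [13, 39, 58, 91, 116, 144, 167] [5544] [] false))) (.leaf (.rl 7 1 [13, 69, 67, 80, 130, 152] [3496] [] false)))) (.node (.node (.node (.leaf (.rl 7 1 [5, 71,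 38, 89, 120, 154, 167] [936] [] false)) (.leaf (.rl 5 4 [19, 68, 63, 80, 123, 171, 166] [43, 45, 45, 43, 43, 45, 3760, 207, 207, 4444] [94, 42, 44, 43, 45, 45, 95, 4556] false))) (.leaf (.rl 4 4 [15, 70, 63, 98, 134, 144, 167] [154, 528, 452, 236, 1920] [48, 36, 30, 30, 160] false))) (.node (.node (.leaf (.rl 10 1 [33, 44, 55, 102, 121, 156, 166] [1960] [] false)) (.leaf (.rl 5 4 [23, 42, 38, 100, 119, 170] [43, 43, 45, 45, 5458, 5926] [44, 44, 43, 43, 116, 94, 45, 45, 5458, 5926] false))) (.leaf (.rl 10 1 [10, 30, 93, 155] [4008] [] false))))))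

def kSrc82 : Tr Src :=
  .node (.node (.node (.node (.node (.node (.leaf (.rl 5 1 [12, 70, 65, 133, 157, 166] [104] [] false)) (.leaf (.rl 10 1 [13, 39, 53, 81, 122, 144] [4200] [] false))) (.node (.leaf (.rl 4 4 [7, 40, 63, 104, 132, 169, 167] [146] [64, 32, 34, 31, 56, 94, 44, 42, 45, 43, 43, 45, 45, 256] false)) (.leaf (.rl 9 1 [24, 39, 54, 79, 120, 168] [452, 6246] [6246] true)))) (.node (.node (.leaf (.rl 10 1 [24, 71, 49, 102, 122, 144] [1128] [] false)) (.leaf (.rl 4 4 [3, 72, 58, 94, 123, 159, 167] [35, 49, 35, 134, 44, 43, 5194] [36, 64, 36, 30, 160] false))) (.leaf (.rl 10 1 [33, 39, 51, 100, 112, 153, 167] [3176] [] false)))) (.node (.node (.node (.leaf (.rl 4 4 [23, 73, 64, 90, 114, 171, 166] [138, 288, 185, 185, 143, 284] [64, 48, 64, 30, 32, 146] false)) (.leaf (.rl 4 4 [4, 70, 67, 80, 130, 171, 166] [160] [48, 64, 48, 164, 484, 4502] false))) (.node (.leaf (.rl 4 2 [5, 26, 49, 101, 114, 159, 166]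 [154] [34, 34, 32, 154] false)) (.leaf (.rl 4 4 [3, 70, 60, 89, 132, 168, 166] [146, 5646, 5926, 5928, 5092, 6746] [32, 160] false)))) (.node (.node (.leaf (.rl 7 1 [6, 74, 52, 103, 112, 152, 167] [1640] [] false)) (.leaf (.rl 5 4 [17, 44, 52, 96, 120, 155, 166] [45, 43, 43, 45, 45, 122, 42, 42, 44, 42, 95, 45, 5212] [42, 42, 44, 44, 43, 95, 45, 5212] false))) (.leaf (.rl 10 1 [4, 46, 54, 82, 112, 158, 166] [3688] [] false))))) (.node (.node (.node (.node (.leaf (.rl 4 4 [23, 44, 54, 80, 124, 159, 167] [138, 184, 142, 288, 142, 140, 185, 289, 185, 185, 298] [32, 48, 32, 146] false)) (.leaf (.rl 4 4 [17, 27, 62, 95, 88, 169] [146] [64, 36, 30, 138, 288, 142, 184, 184, 4286, 4396] false))) (.node (.leaf (.rl 7 1 [6, 32, 54, 93, 123, 157] [2408] [] false)) (.leaf (.rl 4 4 [23, 68, 58, 104, 131, 168, 166] [160, 344, 262, 5472, 5926, 5930, 5928, 6498] [34, 64, 32, 36, 48, 160] false)))) (.node (.node (.leaf (.rl 4 4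 [33, 30, 62, 90, 113, 158, 166] [146] [64, 34, 154, 236, 156, 237, 453, 529, 157, 453, 157, 398] false)) (.leaf (.rl 5 4 [70, 95, 155, 166] [43, 43, 45, 202, 1742] [45, 45, 43, 5238] false))) (.leaf (.rl 10 1 [16, 29, 64, 94, 131, 151, 167] [3432] [] false)))) (.node (.node (.node (.leaf (.rl 7 1 [20, 30, 63, 97, 152, 166] [872] [] false)) (.leaf (.rl 5 4 [9, 70, 101, 134, 168, 166] [43, 45, 43, 3148, 528, 452, 4694] [42, 42, 95, 4342, 4396] false))) (.leaf (.rl 4 4 [5, 52, 80, 120, 144, 166] [154, 528, 236, 156, 453, 157, 529, 453, 157, 157, 406] [30, 64, 30, 48, 30, 146] false))) (.node (.node (.leaf (.rl 7 1 [21, 32, 60, 93, 116, 152, 167] [1896] [] false)) (.leaf (.rl 5 4 [20, 68, 58, 98, 123, 168, 166] [3764, 344, 5482, 5926] [44, 43, 45, 5196] false))) (.leaf (.rl 4 4 [17, 28, 58, 102, 115, 158, 167] [164, 484] [36, 34, 48, 30, 160, 345, 263, 2184] false)))))) (.node (.node (.node (.node (.node (.leaf (.rl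 6 1 [12, 71, 57, 103, 130, 151, 166] [232] [] false)) (.leaf (.rl 4 4 [6, 28, 57, 90, 158, 166] [138, 142, 184, 140, 4286] [30, 34, 30, 30, 30, 146] false))) (.node (.leaf (.rl 4 4 [33, 40, 37, 100, 113, 156] [150, 204] [34, 48, 64, 30, 30, 160, 345, 263, 1056] false)) (.leaf (.rl 4 4 [15, 71, 65, 99, 117, 156, 167] [146, 5316, 5926, 5088, 6360] [48, 32, 34, 64, 146] false)))) (.node (.node (.leaf (.rl 10 1 [21, 32, 61, 94, 121, 169] [1256] [] false)) (.leaf (.rl 5 4 [19, 26, 63, 104, 119, 155, 166] [43, 43, 45, 202, 207, 3210] [42, 42, 5196] false))) (.leaf (.rl 4 4 [7, 31, 55, 104, 121, 171, 167] [160, 345, 2590] [30, 64, 30, 64, 31, 31, 49, 37, 622] false)))) (.node (.node (.node (.leaf (.rl 4 4 [9, 71, 67, 101, 131, 154, 166] [31, 65, 49, 31, 70, 36, 64, 32, 48, 30, 146] [48, 36, 34, 48, 164, 484] false)) (.leaf (.rl 4 4 [20, 44, 55, 92, 123, 157, 166] [164, 484] [30, 64, 160, 4746] false))) (.node (.leaf (.rl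 4 4 [16, 39, 61, 79, 132, 151, 167] [154] [36, 48, 64, 30, 30, 146, 1182] false)) (.leaf (.rl 4 4 [8, 46, 49, 92, 132, 154] [138, 140, 4286, 4396, 4338, 4398, 4338, 6870] [64, 30, 48, 31, 31, 49, 37, 622] false)))) (.node (.node (.leaf (.rl 7 1 [15, 46, 64, 94, 134, 168, 166] [1768] [] false)) (.leaf (.rl 5 4 [44, 65, 104, 114, 171, 166] [45, 43, 43, 45, 1976, 5706] [44, 44, 43, 5194, 5350] false))) (.leaf (.rl 4 4 [5, 28, 60, 79, 117, 151, 167] [160] [48, 36, 64, 48, 30, 154, 452, 157, 529, 3162] false))))) (.node (.node (.node (.node (.leaf (.rl 4 4 [22, 42, 37, 97, 117] [138, 140, 288, 141, 143, 185, 185, 143, 290] [30, 64, 30, 34, 30, 146] false)) (.leaf (.rl 4 4 [23, 29, 50, 96, 118, 170] [146] [64, 34, 30, 30, 146, 206, 4332, 4396] false))) (.node (.leaf (.rl 4 4 [21, 39, 58, 95, 130, 158, 167] [150, 204] [48, 34, 64, 48, 34, 30, 146, 1672] false)) (.leaf (.rl 4 4 [71, 49, 81, 119, 166] [160, 345, 5370, 5926,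 5930, 5928, 5090, 5088, 6630] [48, 36, 64, 48, 30, 146] false)))) (.node (.node (.leaf (.rl 7 1 [5, 32, 67, 100, 114, 152] [1512] [] false)) (.leaf (.rl 23 1 [11, 72, 67, 97, 121, 153] [5608] [] false))) (.leaf (.rl 4 4 [40, 55, 82, 121, 156, 166] [160] [34, 48, 30, 64, 30, 146, 206, 206, 466] false)))) (.node (.node (.node (.leaf (.rl 4 4 [22, 28, 61, 82, 115, 151] [146] [48, 48, 48, 30, 30, 138, 140, 288, 185, 185, 185, 143, 506] false)) (.leaf (.rl 12 1 [13, 30, 37, 80, 132, 166] [209, 171, 551, 170, 208, 208, 168, 5096] [5096] false))) (.leaf (.rl 9 1 [18, 30, 49, 94, 88, 143, 167] [3048] [] false))) (.node (.node (.leaf (.rl 4 4 [4, 74, 67, 100, 120, 170] [146] [36, 64, 30, 48, 146, 206, 1796] false)) (.leaf (.rl 9 1 [17, 74, 58, 96, 112, 154, 167] [6114] [] false))) (.leaf (.rl 4 4 [33, 69, 66, 99, 124, 143, 166] [31, 31, 49, 37, 622] [36, 32, 31, 35, 49, 50, 44, 94, 42, 44, 912] false))))))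

def kSrc83 : Tr Src :=
  .node kSrc81 kSrc82

def kSrc84 : Tr Src :=
  .node kSrc80 kSrc83

def kSrc85 : Tr Src :=
  .node (.node (.node (.node (.node (.node (.leaf (.rl 2 2 [20, 39, 51, 102, 112, 157, 167] [17, 24, 18, 20, 2, 0, 2, 2, 0, 2, 0, 2, 0, 2, 0, 2, 0, 2, 0, 2, 2, 4] [] true)) (.leaf (.rl 5 4 [6, 68, 63, 90, 143, 167] [43, 43, 45, 202, 207, 207, 2410, 206, 2554] [] false))) (.node (.leaf (.rl 4 4 [20, 72, 63, 89, 118, 156, 166] [146, 207, 207, 320] [34, 30, 30, 30, 146] false)) (.leaf (.rl 21 1 [20, 45, 60, 81, 123, 151, 167] [5082, 6168] [6168] false)))) (.node (.node (.leaf (.rl 7 1 [8, 45, 51, 95, 132, 168] [1048] [] false)) (.leaf (.rl 4 4 [12, 49, 98, 121, 155, 167] [154, 156, 453, 157, 529, 5142] [64, 48, 30, 30, 154] false))) (.leaf (.rl 9 1 [9, 32, 82, 133, 158, 167] [3096] [] false)))) (.node (.node (.node (.leaf (.rl 4 4 [13, 32, 53, 93, 115, 159] [138, 142, 184, 288, 141, 185, 185, 185, 143,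 506] [36, 48, 36, 48, 48, 160] false)) (.leaf (.rl 4 4 [22, 26, 51, 81, 112, 153, 167] [150, 204, 4534] [32, 48, 64, 48, 154] false))) (.node (.leaf (.rl 9 1 [20, 29, 59, 121, 144, 167] [2584] [] false)) (.leaf .dfn))) (.node (.node (.leaf (.rl 9 1 [24, 32, 63, 80, 134, 157] [1560] [] false)) (.leaf (.rl 5 4 [7, 39, 62, 97, 132, 168, 166] [43, 45, 45, 43, 226, 263, 345, 5428] [42, 44, 95, 45, 5212] false))) (.leaf (.rl 7 1 [33, 30, 59, 96, 118, 155, 167] [3608] [] false))))) (.node (.node (.node (.node (.leaf (.rl 6 1 [20, 27, 38, 89, 131, 168, 167] [280] [] false)) (.leaf (.rl 17 1 [9, 29, 58, 93, 119, 170, 167] [4376] [] false))) (.node (.leaf (.rl 4 4 [22, 26, 97, 114, 159, 167] [150, 204] [48, 30, 32, 64, 154, 452, 157, 529, 453, 416] false)) (.leaf .dfn))) (.node (.node (.leaf (.rl 7 1 [13, 74, 66, 102, 122, 153, 166] [1304] [] false)) (.leaf (.rl 5 4 [17, 31, 67, 101, 120, 159, 167] [43, 43, 45, 202, 206,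 206, 2368] [94, 44, 44, 43, 45, 5196] false))) (.leaf (.rl 10 1 [7, 26, 50, 99, 114, 151, 167] [3352] [] false)))) (.node (.node (.node (.leaf (.rl 4 4 [3, 40, 53, 89, 88, 143, 167] [31, 65, 49, 31, 70, 34, 64, 30, 30, 164, 484] [36, 34, 164, 484] false)) (.leaf (.rl 5 4 [6, 40, 38, 89, 132, 152, 166] [43, 43, 45, 202, 4598] [94, 42, 44, 44, 95, 45, 45, 1298] false))) (.leaf (.rl 4 4 [17, 31, 62, 93, 134, 143] [154, 528, 452, 156, 237, 453, 529, 1592] [64, 30, 64, 160] false))) (.node (.node (.leaf (.rl 7 1 [21, 27, 94, 131, 157] [1816] [] false)) (.leaf (.rl 5 4 [8, 29, 51, 96, 133, 166] [45, 43, 124, 94, 45, 5196] [44, 44, 43, 45, 5196] false))) (.leaf (.rl 4 4 [21, 29, 64, 80, 88, 153, 166] [160, 262, 344, 812] [48, 34, 48, 31, 49, 37, 622] false)))))) (.node (.node (.node (.node (.node (.leaf .dfn) (.leaf (.rl 5 4 [18, 27, 101, 122, 152] [45, 95, 3024] [44, 94, 43, 45, 43, 43, 90, 94, 42, 45, 95, 3024] false)))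 (.node (.leaf (.rl 4 4 [9, 68, 62, 92, 119, 168, 167] [146, 207, 207, 1974] [34, 48, 64, 48, 154] false)) (.leaf .dfn))) (.node (.node (.leaf (.rl 7 1 [9, 30, 58, 101, 119, 152, 167] [1176] [] false)) (.leaf (.rl 26 0 [] [5270] [5126, 5270] false))) (.leaf (.rl 9 1 [4, 68, 52, 80, 124, 151, 167] [3224] [] false)))) (.node (.node (.node (.leaf (.rl 4 4 [22, 69, 66, 89, 134, 152] [138, 142, 184, 142, 289, 289, 143, 652] [36, 48, 64, 154] false)) (.leaf (.rl 4 4 [9, 26, 54, 96, 131, 151] [160] [36, 64, 30, 30, 164, 484, 207, 4582] false))) (.node (.leaf (.rl 4 4 [72, 50, 93, 114, 154] [154, 236, 156, 237, 453, 529, 157, 453, 157, 398] [30, 36, 30, 30, 164, 484] false)) (.leaf .dfn))) (.node (.node (.leaf (.rl 7 1 [17, 26, 95, 134, 159, 167] [1688] [] false)) (.leaf (.rl 5 4 [11, 70, 63, 102, 123, 158, 167] [43, 95, 45, 45, 324, 206, 206, 5504] [44, 42, 42, 44, 43, 43, 45, 45, 95, 4556] false))) (.leaf (.rl 7 1 [5,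 43, 65, 102, 119, 157] [3736] [] false))))) (.node (.node (.node (.node (.leaf (.rl 4 4 [15, 31, 66, 82, 134, 158, 167] [138, 142, 288, 288, 185, 185, 143, 302] [64, 32, 48, 34, 30, 160] false)) (.leaf (.rl 4 4 [7, 41, 51, 79, 112, 157, 166] [146] [34, 48, 64, 30, 166, 208, 208, 168, 171, 209, 209, 4360, 4396] false))) (.node (.leaf (.rl 4 4 [21, 46, 61, 122, 169, 167] [150, 204, 206, 206, 1796] [64, 34, 30, 154] false)) (.leaf .dfn))) (.node (.node (.leaf (.rl 4 4 [22, 74, 58, 103, 122, 170, 166] [146] [30, 48, 36, 160, 344, 262, 345, 384, 484] false)) (.leaf (.rl 5 4 [4, 45, 58, 102, 120, 152, 166] [43, 45, 43, 3148, 237, 453, 529, 5526] [94, 44, 44, 43, 95, 2606] false))) (.leaf (.rl 4 4 [5, 31, 52, 94, 88, 166] [160, 1936] [48, 30, 34, 164, 484] false)))) (.node (.node (.node (.leaf (.rl 4 2 [24, 70, 63, 94, 124, 144, 166] [146] [48, 34, 48, 34, 146] false)) (.leaf (.rl 5 4 [5, 71, 59, 80, 134, 171] [43, 45,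 43, 43, 90, 94, 42, 44, 44, 43, 45, 45, 95, 4556] [44, 44, 42, 45, 4720] false))) (.leaf (.rl 4 4 [9, 31, 51, 95, 115, 168, 167] [154] [48, 48, 48, 30, 36, 146, 207, 2634] false))) (.node (.node (.leaf (.rl 4 4 [20, 73, 54, 94, 131] [146] [36, 30, 34, 30, 146, 794] false)) (.leaf (.rl 5 4 [15, 41, 59, 97, 117, 154, 166] [45, 43, 88, 94, 42, 44, 95, 5392] [5392] false))) (.leaf (.rl 4 4 [5, 40, 57, 104, 118] [31, 35, 49, 50, 45, 3028] [34, 49, 37, 622] false))))))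

def kSrc86 : Tr Src :=
  .node (.node (.node (.node (.node (.node (.leaf (.rl 1 4 [4, 71, 63, 99, 120, 168, 167] [40] [6, 10, 10, 10, 8, 6, 10, 10, 8, 28, 64, 48, 32, 31, 35, 49, 50] false)) (.leaf (.rl 5 4 [7, 31, 50, 91, 112, 143] [43, 45, 43, 3148, 156, 452, 237, 453, 529, 2912] [44, 94, 42, 42, 45, 95, 3024] false))) (.node (.leaf (.rl 4 4 [9, 68, 62, 99, 124, 143, 167] [146] [64, 32, 31, 49, 37, 622, 1090] false)) (.leaf (.rl 5 4 [3, 71, 52, 95, 117, 143, 167] [43, 45, 45, 43, 226, 263, 345, 263, 5380, 5926] [44, 94, 43, 45, 45, 43, 95, 6198] false)))) (.node (.node (.leaf (.rl 7 1 [20, 26, 53, 98, 119, 169, 166] [1112] [] false)) (.leaf (.rl 21 1 [14, 74, 67, 101, 117, 168] [5208] [] false))) (.leaf (.rl 4 4 [14, 74, 52, 99, 130, 143, 166] [154] [48, 32, 34, 164, 484, 207, 207, 1014] false)))) (.node (.node (.node (.leaf (.rl 7 1 [13, 26, 64, 91, 118, 144, 167] [600] [] false)) (.leaf (.rl 4 4 [23, 69, 56,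 104, 122, 143, 166] [154, 528, 156, 452, 237, 529, 4636] [48, 64, 32, 34, 160] false))) (.node (.leaf (.rl 9 1 [11, 70, 56, 103, 113, 168] [2648] [] false)) (.leaf .dfn))) (.node (.node (.leaf (.rl 7 1 [33, 44, 67, 92, 133, 171, 166] [1624] [] false)) (.leaf (.rl 5 4 [18, 28, 61, 81, 131, 168, 167] [45, 43, 43, 45, 45, 122, 44, 43, 43, 45, 45, 5236] [44, 94, 42, 95, 45, 5212] false))) (.leaf (.rl 7 1 [9, 72, 67, 82, 133, 143, 167] [3672] [] false))))) (.node (.node (.node (.node (.leaf (.rl 4 4 [4, 44, 49, 90, 116, 157, 166] [138, 288, 288, 143, 185, 185, 280] [34, 48, 48, 36, 48, 160] false)) (.leaf (.rl 4 4 [24, 44, 65, 102, 116, 144, 166] [146, 4372, 4396] [64, 36, 32, 34, 31, 31, 49, 37, 622] false))) (.node (.leaf (.rl 7 1 [22, 70, 58, 96, 121, 151, 166] [2392] [] false)) (.leaf .dfn))) (.node (.node (.leaf (.rl 7 1 [9, 39, 57, 93, 114, 155, 167] [1368] [] false)) (.leaf (.rl 5 4 [6, 40, 38, 94, 88, 167] [43,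 43, 45, 202, 1306] [42, 42, 44, 43, 43, 45, 45, 5236] false))) (.leaf (.rl 4 4 [33, 29, 58, 92, 116, 159] [160] [36, 48, 48, 48, 30, 160, 345, 3380] false)))) (.node (.node (.node (.leaf (.rl 4 2 [9, 27, 37, 101, 116, 143] [146] [36, 32, 48, 146] false)) (.leaf (.rl 5 4 [8, 44, 64, 96, 88, 154] [43, 43, 45, 202, 207, 4592] [44, 94, 42, 45, 95, 2650] false))) (.leaf (.rl 7 1 [7, 42, 66, 98, 124, 168, 166] [2904] [] false))) (.node (.node (.leaf (.rl 10 1 [9, 130, 169] [1880] [] false)) (.leaf (.rl 5 4 [17, 37, 80, 114, 158, 166] [43, 43, 45, 43, 95, 588] [94, 42, 44, 44, 43, 45, 43, 43, 904, 5492, 5926] false))) (.leaf (.rl 4 4 [5, 30, 67, 101, 114, 159, 167] [164, 484, 574] [34, 48, 48, 30, 48, 146] false)))))) (.node (.node (.node (.node (.node (.leaf (.rl 10 1 [7, 29, 64, 100, 133, 156, 166] [216] [] false)) (.leaf (.rl 17 1 [18, 73, 60, 102, 115, 159, 167] [4312] [] false))) (.node (.leaf (.rl 4 4 [8, 70, 65,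 94, 114, 159, 167] [150, 204] [48, 36, 48, 36, 30, 146, 2014] false)) (.leaf .dfn))) (.node (.node (.leaf (.rl 4 4 [72, 101, 121, 151] [146] [48, 32, 36, 48, 146, 542] false)) (.leaf (.rl 23 1 [20, 45, 60, 81, 123, 151, 167] [5099, 5240, 5336] [5336] false))) (.leaf (.rl 4 4 [18, 41, 67, 103, 118, 153] [160] [48, 64, 35, 134, 42, 44, 44, 43, 43, 95, 45, 1426] false)))) (.node (.node (.node (.leaf (.rl 4 4 [20, 27, 52, 95, 123, 168, 166] [138, 142, 184, 288, 184, 289, 143, 185, 648] [30, 34, 32, 154] false)) (.leaf (.rl 4 4 [45, 49, 103, 114, 153, 166] [164, 484] [48, 64, 34, 31, 56, 44, 44, 43, 45, 95, 4342, 4396] false))) (.node (.leaf (.rl 9 1 [6, 41, 54, 82, 122, 156, 167] [2776] [] false)) (.leaf .dfn))) (.node (.node (.leaf (.rl 7 1 [17, 26, 66, 101, 122, 167] [1752] [] false)) (.leaf (.rl 5 4 [7, 31, 62, 92, 116, 154, 167] [43, 45, 45, 43, 43, 45, 3760, 5326] [42, 44, 42, 45, 45, 43, 5238] false))) (.leaf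 (.rl 10 1 [4, 39, 59, 82, 130, 169] [3800] [] false))))) (.node (.node (.node (.node (.leaf (.rl 4 4 [17, 32, 37, 95, 88, 170, 166] [138, 142, 288, 288, 142, 141, 143, 185, 185, 143, 402] [30, 64, 48, 34, 31, 56] false)) (.leaf (.rl 4 4 [23, 39, 49, 91, 120, 168, 167] [146] [32, 48, 48, 30, 146, 4490] false))) (.node (.leaf (.rl 10 1 [5, 73, 62, 124, 159, 166] [2520] [] false)) (.leaf .dfn))) (.node (.node (.leaf (.rl 7 1 [11, 44, 55, 81, 122, 143] [1496] [] false)) (.leaf (.rl 9 1 [7, 70, 61, 93, 132, 158, 166] [5592] [] false))) (.leaf (.rl 10 1 [15, 28, 55, 89, 116, 152] [3544] [] false)))) (.node (.node (.node (.leaf (.rl 4 4 [11, 71, 63, 96, 131, 154] [146] [64, 48, 64, 36, 30, 35, 49, 35, 134, 42, 45, 212] false)) (.leaf (.rl 12 1 [12, 29, 49] [169, 209, 209, 170, 208, 550, 170, 5078] [5078] false))) (.leaf (.rl 4 4 [12, 40, 66, 95, 122, 170] [154, 156, 452, 237, 453, 978] [30, 64, 32, 36, 48, 146] false)))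 (.node (.node (.leaf (.rl 4 4 [11, 55, 79, 118, 169, 167] [146, 2004] [30, 64, 48, 34, 34, 160] false)) (.leaf (.rl 25 1 [15, 30, 67, 104, 117, 156] [5273, 5118, 5272, 5118, 6098] [6098] false))) (.leaf (.rl 4 4 [9, 74, 52, 89, 133, 151] [31, 31, 49, 37, 622] [35, 49, 50, 44, 94, 43, 95, 45, 3028] false))))))

def kSrc87 : Tr Src :=
  .node kSrc85 kSrc86

def kSrc88 : Tr Src :=
  .node (.node (.node (.node (.node (.node (.leaf (.rl 4 1 [5, 71, 51, 92, 134, 159, 166] [56] [] false)) (.leaf (.rl 5 4 [74, 67, 104, 134, 151] [43, 43, 45, 202] [44, 42, 42, 44, 44, 43, 95, 45, 45, 2966, 262, 344, 3192] false))) (.node (.leaf (.rl 4 4 [18, 74, 66, 114, 144, 166] [146, 207, 207, 1140] [64, 48, 48, 32, 150, 204] false)) (.leaf (.rl 5 4 [13, 40, 60, 99, 130, 152, 167] [43, 43, 45, 202, 206, 1680] [43, 95, 6198] false)))) (.node (.node (.leaf (.rl 7 1 [20, 73, 59, 96, 124, 152, 166] [1080] [] false)) (.leaf (.rl 4 4 [23, 70,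 66, 104, 120] [160, 345, 5158] [34, 30, 30, 30, 160, 263, 345, 5158] false))) (.leaf (.rl 7 1 [20, 72, 65, 89, 133, 158] [3128] [] false)))) (.node (.node (.node (.leaf (.rl 4 4 [5, 68, 51, 104, 134, 168, 167] [138, 184, 142, 184, 142, 289, 143, 289, 143, 564] [48, 64, 48, 34, 34, 146] false)) (.leaf (.rl 4 4 [14, 74, 61, 82, 115, 154, 167] [154] [48, 48, 30, 146, 4570] false))) (.node (.leaf (.rl 9 1 [10, 52, 82, 120, 158] [2616] [] false)) (.leaf .dfn))) (.node (.node (.leaf (.rl 4 4 [6, 73, 65, 91, 122, 169] [146, 206, 854] [64, 34, 48, 30, 166] false)) (.leaf (.rl 24 1 [21, 74, 54, 95, 118, 153, 167] [5688] [] false))) (.leaf (.rl 4 4 [7, 45, 51, 93, 88, 151, 167] [160] [36, 48, 48, 48, 146, 1196] false))))) (.node (.node (.node (.node (.leaf (.rl 4 4 [8, 68, 49, 97, 118, 169, 167] [138, 288, 185, 185, 143, 290] [48, 32, 36, 34, 146] false)) (.leaf (.rl 4 4 [13, 41, 65, 104, 132, 155, 166] [138, 184, 288, 142,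 184, 142, 4280] [64, 30, 36, 30, 160] false))) (.node (.leaf (.rl 7 1 [13, 43, 60, 94, 119, 158] [2360] [] false)) (.leaf .dfn))) (.node (.node (.leaf (.rl 4 4 [11, 74, 56, 97, 88, 154, 167] [146] [30, 64, 48, 31, 35, 49, 50, 94, 45, 45, 178] false)) (.leaf (.rl 5 4 [6, 73, 55, 97, 116, 144, 166] [43, 43, 45, 202, 207, 5032] [94, 43, 43, 45, 45, 5236] false))) (.leaf (.rl 4 4 [21, 42, 67, 100, 131, 155] [160, 344, 262, 2834] [30, 36, 64, 30, 164, 484] false)))) (.node (.node (.node (.leaf (.rl 7 1 [7, 69, 37, 101, 130, 152, 166] [824] [] false)) (.leaf (.rl 5 4 [13, 72, 49, 89, 124, 169, 166] [43, 43, 45, 202, 207, 2174] [45, 95, 4342, 4396] false))) (.leaf (.rl 9 1 [16, 43, 54, 101, 130, 158, 167] [2872] [] false))) (.node (.node (.leaf (.rl 7 1 [6, 72, 57, 95, 115, 159, 166] [1848] [] false)) (.leaf (.rl 23 1 [17, 31, 91, 133, 158, 166] [5408, 5926] [5926] false))) (.leaf (.rl 4 4 [18, 46, 52, 89, 118, 154, 166]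 [164, 484] [48, 31, 31, 49, 37, 622, 207, 1096] false)))))) (.node (.node (.node (.node (.node (.leaf (.rl 1 4 [6, 68, 37, 90, 119, 156, 166] [28, 34, 32, 64, 48, 32, 154] [6, 8, 6, 10, 6, 10, 10, 6, 10, 10, 8, 6, 40] false)) (.leaf (.rl 6 1 [3] [4280] [] false))) (.node (.leaf (.rl 4 2 [4, 40, 54, 79, 120, 168] [150, 204] [36, 34, 49, 37, 622] false)) (.leaf .dfn))) (.node (.node (.leaf (.rl 4 4 [15, 49, 99, 114, 156] [146, 207, 1004] [48, 32, 48, 48, 34, 160] false)) (.leaf (.rl 4 4 [13, 69, 61, 99, 132, 168, 166] [31, 31, 49, 37, 622, 5244] [64, 30, 64, 30, 164, 484] false))) (.leaf (.rl 4 2 [3, 44, 50, 91, 113, 154, 167] [160] [164, 484] false)))) (.node (.node (.node (.leaf (.rl 7 1 [14, 41, 53, 100, 113, 153, 167] [696] [] false)) (.leaf (.rl 4 4 [33, 69, 65, 104, 134, 157, 166] [160] [64, 30, 30, 146, 206, 206, 4372, 4396] false))) (.node (.leaf (.rl 4 4 [39, 62, 100, 117, 154, 166] [154, 2258] [30, 48, 36,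 64, 146] false)) (.leaf .dfn))) (.node (.node (.leaf (.rl 7 1 [6, 41, 67, 97, 134, 166] [1720] [] false)) (.leaf (.rl 5 4 [3, 39, 49, 97, 116, 144, 166] [43, 95, 45, 45, 324, 2008] [44, 44, 94, 43, 45, 45, 5458] false))) (.leaf (.rl 4 4 [22, 30, 50, 103, 112, 170, 166] [160] [48, 64, 48, 32, 146, 1360] false))))) (.node (.node (.node (.node (.leaf (.rl 9 1 [23, 26, 54, 89, 134, 152, 166] [440] [] false)) (.leaf (.rl 4 4 [22, 40, 49, 100, 118, 157] [146] [64, 30, 48, 36, 34, 160, 263, 345, 4412] false))) (.node (.leaf (.rl 7 1 [9, 40, 66, 101, 153, 167] [2488] [] false)) (.leaf .dfn))) (.node (.node (.leaf (.rl 7 1 [4, 69, 66, 103, 124, 159, 167] [1464] [] false)) (.leaf (.rl 9 1 [9, 30, 56, 97, 130, 170, 166] [5560] [] false))) (.leaf (.rl 10 1 [31, 53, 90, 122, 157, 166] [3512] [] false)))) (.node (.node (.node (.leaf (.rl 7 1 [6, 27, 64, 100, 122, 159] [952] [] false)) (.leaf (.rl 5 4 [20, 74, 57, 98, 134, 153,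 166] [43, 43, 45, 45, 188, 528, 452, 157, 237, 4364, 4396] [94, 42, 45, 95, 4556] false))) (.leaf (.rl 4 4 [24, 32, 56, 96, 124, 166] [154, 528, 156, 452, 2240] [48, 36, 64, 160] false))) (.node (.node (.leaf (.rl 4 4 [19, 44, 65, 98, 121, 144] [146] [48, 64, 36, 48, 146, 207, 207, 1204] false)) (.leaf (.rl 7 4 [19, 74, 54, 104, 121, 151, 166] [5328, 5350] [206, 1246, 206, 5328, 5350] false))) (.leaf (.rl 4 4 [3, 44, 37, 80, 122, 167] [166] [30, 36, 174, 520, 142, 288, 288, 143, 185, 185, 276] false))))))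

def kSrc89 : Tr Src :=
  .node (.node (.node (.node (.node (.node (.leaf (.rl 5 4 [6, 74, 37, 96, 130, 170] [43, 45, 45, 43, 95, 45, 102] [42, 42, 45, 43, 95, 45, 102, 94, 44, 42, 45, 45, 43, 95, 45, 102] false)) (.leaf (.rl 5 4 [24, 41, 58, 97, 120] [43, 45, 45, 43, 226] [42, 95, 260, 263, 345, 263, 3516] false))) (.node (.leaf (.rl 4 4 [17, 44, 52, 96, 120, 155, 166] [146, 1856] [30, 36, 30, 30, 150, 204] false)) (.leaf (.rl 33 1 [13, 42, 59, 91, 143, 167] [6264] [] false)))) (.node (.node (.leaf (.rl 10 1 [17, 73, 52, 95, 134, 143, 166] [1144] [] false)) (.leaf (.rl 4 4 [16, 29, 53, 90, 133, 154, 166] [35, 49, 35, 134, 44, 42, 42, 44, 44, 43, 43, 45, 45, 5236] [48, 64, 32, 31, 31, 49, 37, 622] false))) (.leaf (.rl 4 4 [23, 74, 60, 104, 117, 159] [154, 528, 236, 156, 529, 3124] [64, 32, 48, 32, 160] false)))) (.node (.node (.node (.leaf (.rl 4 4 [5, 45, 59, 90, 116, 143, 167] [138, 184, 184, 288, 142, 289, 143,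 289, 143, 564] [64, 48, 48, 32, 150, 204] false)) (.leaf (.rl 4 4 [9, 74, 49, 81, 114, 171, 166] [160, 262, 4568] [32, 48, 30, 146] false))) (.node (.leaf (.rl 9 1 [5, 46, 67, 119] [2680] [] false)) (.leaf .dfn))) (.node (.node (.leaf (.rl 4 4 [22, 71, 55, 102, 133, 151, 166] [146] [64, 48, 64, 36, 34, 160, 262, 344, 263, 345, 263, 348] false)) (.leaf (.rl 5 4 [22, 26, 52, 102, 117, 153] [43, 45, 43, 43, 80, 44, 94, 42, 44, 43, 43, 45, 43, 43, 658] [42, 44, 44, 42, 45, 45, 43, 5238] false))) (.leaf (.rl 9 1 [23, 28, 64, 91, 118, 158, 167] [3704] [] false))))) (.node (.node (.node (.node (.leaf (.rl 10 1 [24, 27, 50, 89, 121, 151, 166] [376] [] false)) (.leaf (.rl 4 4 [15, 49, 99, 130, 157, 167] [146] [30, 32, 34, 138, 142, 184, 288, 288, 4288] false))) (.node (.leaf (.rl 7 1 [18, 70, 54, 91, 115, 151, 166] [2424] [] false)) (.leaf .dfn))) (.node (.node (.leaf (.rl 7 1 [12, 28, 54, 169] [1400] [] false)) (.leaf (.rl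 5 4 [23, 69, 59, 98, 124, 157, 167] [43, 43, 45, 202] [42, 42, 44, 42, 45, 45, 43, 226, 344, 263, 345, 5174] false))) (.leaf (.rl 4 4 [5, 26, 61, 80, 116, 156, 166] [160] [34, 64, 166, 208, 194, 208, 169, 209, 551, 1130] false)))) (.node (.node (.node (.leaf (.rl 7 1 [4, 46, 54, 98, 133, 143, 167] [888] [] false)) (.leaf (.rl 10 1 [19, 28, 59, 101, 116, 169, 167] [4984] [] false))) (.leaf (.rl 4 4 [15, 28, 65, 81, 121, 153, 167] [154, 452, 236, 157, 453, 529, 2764] [32, 48, 48, 160] false))) (.node (.node (.leaf (.rl 4 4 [8, 30, 61, 89, 134, 167] [146, 207, 1032] [48, 30, 64, 30, 48, 160] false)) (.leaf (.rl 22 1 [8, 46, 53, 97, 130, 144, 167] [6008] [] false))) (.leaf (.rl 4 4 [17, 26, 57, 98, 112, 159, 167] [164, 484] [64, 36, 32, 31, 35, 49, 50, 44, 94, 42, 212] false)))))) (.node (.node (.node (.node (.node (.leaf (.rl 1 4 [22, 45, 59, 93, 159] [40] [10, 10, 8, 6, 10, 6, 10, 10, 10, 8, 6, 28, 30, 36, 30, 30,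 150, 204] false)) (.leaf (.rl 4 4 [21, 54, 96, 158, 167] [138, 142, 288, 288, 140, 4280] [34, 64, 48, 32, 34, 146] false))) (.node (.leaf (.rl 4 4 [4, 28, 65, 82, 114, 155] [150, 204] [48, 48, 56, 42, 42, 44, 42, 45, 43, 95, 45, 45, 556] false)) (.leaf .dfn))) (.node (.node (.leaf (.rl 7 1 [4, 41, 59, 80, 130, 168, 167] [1272] [] false)) (.leaf (.rl 5 4 [18, 28, 49, 95, 124, 169, 166] [43, 43, 45, 202, 4044] [44, 43, 5362] false))) (.leaf (.rl 4 4 [3, 73, 64, 93, 121, 154] [160] [36, 48, 48, 32, 31, 31, 49, 37, 622, 207, 1334] false)))) (.node (.node (.node (.leaf (.rl 4 4 [11, 30, 57, 100, 124, 157, 167] [31, 65, 49, 31, 70, 64, 48, 48, 30, 146] [34, 48, 64, 30, 146] false)) (.leaf (.rl 4 4 [33, 44, 63, 97, 88, 169, 167] [164, 484] [30, 64, 138, 142, 288, 288, 184, 4286, 4396] false))) (.node (.leaf (.rl 9 1 [8, 26, 64, 104, 124, 154, 167] [2808] [] false)) (.leaf (.rl 1 4 [22, 45, 59, 93, 159] [40, 250, 6898]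 [10, 10, 8, 6, 10, 6, 10, 10, 10, 8, 6, 28] false)))) (.node (.node (.leaf (.rl 7 1 [22, 46, 53, 103, 113, 171, 167] [1784] [] false)) (.leaf (.rl 5 4 [15, 27, 54, 93, 116, 151, 167] [45, 43, 43, 45, 1976, 4876] [5238] false))) (.leaf (.rl 4 4 [15, 27, 50, 99, 132, 168, 167] [160] [64, 31, 49, 37, 622, 206, 206, 414] false))))) (.node (.node (.node (.node (.leaf (.rl 4 4 [3, 73, 56, 100, 130, 143] [138] [49, 31, 70, 30, 64, 48, 34, 30, 146] false)) (.leaf (.rl 4 4 [23, 38, 101, 122, 152] [150, 204, 207, 4472] [48, 64, 30, 64, 36, 160] false))) (.node (.leaf (.rl 7 1 [18, 40, 62, 82, 117, 157, 166] [2552] [] false)) (.leaf .dfn))) (.node (.node (.leaf (.rl 4 4 [21, 26, 56, 99, 131, 168, 166] [146] [48, 146, 636] false)) (.leaf (.rl 10 1 [74, 56, 102, 119, 143] [5624] [] false))) (.leaf (.rl 4 4 [14, 39, 62, 97, 119, 144, 166] [160] [30, 64, 32, 160, 344, 263, 345, 1758] false)))) (.node (.node (.node (.leaf (.rl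 7 1 [12, 30, 55, 92, 88, 153, 166] [1016] [] false)) (.leaf (.rl 12 1 [16, 74, 50, 96, 131, 168, 166] [168, 5112] [5112] false))) (.leaf (.rl 4 4 [33, 30, 54, 100, 130, 158, 167] [154] [30, 64, 30, 48, 138, 142, 184, 184, 143, 185, 185, 143, 290] false))) (.node (.node (.leaf (.rl 4 4 [21, 40, 56, 97, 120, 154, 166] [146, 207, 1484] [32, 48, 64, 36, 154] false)) (.leaf (.rl 24 1 [7, 73, 63, 94, 133, 159, 167] [6136] [] false))) (.leaf (.rl 5 4 [24, 44, 67, 101, 119, 144, 166] [43, 43, 45, 202, 207, 207, 628] [94, 44, 42, 45, 43, 43, 45, 1976] false))))))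

def kSrc90 : Tr Src :=
  .node kSrc88 kSrc89

def kSrc91 : Tr Src :=
  .node kSrc87 kSrc90

def kSrc92 : Tr Src :=
  .node kSrc84 kSrc91

def kSrc93 : Tr Src :=
  .node kSrc77 kSrc92

def kSrc94 : Tr Src :=
  .node (.node (.node (.node (.node (.node (.leaf (.rl 0 1 [] [0, 4] [4] false)) (.leaf (.rl 5 4 [39, 64, 101, 130, 152] [43, 43, 45, 202] [94, 42, 45, 43, 43, 45, 45, 122, 94, 42, 44, 42, 45, 43, 124] false))) (.node (.leaf (.rl 4 4 [8, 30, 56, 79, 117, 168] [146] [48, 30, 49, 31, 70, 36, 174, 520] false)) (.leaf (.rl 9 4 [23, 28, 56, 95, 151] [157, 529, 5224, 5926, 6134] [528, 5148, 5350] false)))) (.node (.node (.leaf (.rl 7 1 [24, 46, 65, 92, 154, 167] [1028] [] false)) (.leaf (.rl 12 1 [19, 31, 50, 91, 113, 154, 167] [171, 209, 551, 194, 550, 208, 168, 5122] [5122] false))) (.leaf (.rl 4 4 [23, 74, 52, 91, 115, 155, 166] [154] [48, 36, 48, 36, 30, 146, 1152] false)))) (.node (.node (.node (.leaf (.rl 4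 4 [9, 69, 61, 101, 88, 156, 166] [138, 142, 288, 288, 184, 143, 185, 185, 143, 290] [48, 30, 64, 30, 160] false)) (.leaf (.rl 4 4 [28, 54, 79, 120, 168] [150, 204] [48, 36, 34, 174, 520, 288, 184, 288, 184, 142, 140, 4286, 4396] false))) (.node (.leaf (.rl 4 4 [24, 39, 63, 89, 124, 168] [150, 204] [34, 48, 30, 35, 49, 35, 134, 44, 94, 42, 44, 44, 42, 45, 43, 43, 45, 45, 240] false)) (.leaf .dfn))) (.node (.node (.leaf (.rl 4 4 [6, 68, 102, 117, 170, 166] [146] [30, 48, 36, 35, 49, 35, 134, 44, 44, 94, 45, 43, 95, 1498] false)) (.leaf (.rl 5 4 [16, 40, 67, 100, 118, 143] [43, 45, 45, 43, 226, 3578] [42, 44, 42, 95, 45, 5212] false))) (.leaf (.rl 10 1 [10, 26, 54, 93, 116, 143] [3588] [] false))))) (.node (.node (.node (.node (.leaf (.rl 5 1 [13, 71, 53, 134, 151, 167] [43, 45, 43, 43, 44, 44, 94, 42, 43, 95, 260] [43, 95, 260] false)) (.leaf (.rl 4 4 [3, 53, 96, 133, 153, 166] [138, 288, 184, 140, 288, 4286] [30,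 64, 48, 36, 166] false))) (.node (.leaf (.rl 4 4 [18, 44, 57, 90, 124, 157, 166] [150, 204, 206, 206, 868] [32, 34, 64, 30, 154] false)) (.leaf .dfn))) (.node (.node (.leaf (.rl 7 1 [19, 68, 60, 95, 117, 169, 166] [1284] [] false)) (.leaf (.rl 5 4 [72, 37, 94, 117, 151, 167] [43, 43, 45, 202, 207, 5316] [44, 94, 43, 45, 45, 95, 242] false))) (.leaf (.rl 9 1 [13, 72, 59, 89, 134, 169, 166] [3332] [] false)))) (.node (.node (.node (.leaf (.rl 4 4 [21, 42, 63, 95, 116, 169] [31, 65, 49, 31, 70, 34, 34, 32, 30, 160] [64, 30, 64, 48, 160] false)) (.leaf (.rl 4 4 [15, 27, 88, 156, 166] [31, 35, 49, 50, 42, 42, 44, 44, 43, 45, 45, 95, 4556] [48, 64, 36, 32, 30, 160] false))) (.leaf (.rl 9 1 [19, 68, 38, 102, 134, 144, 166] [2820] [] false))) (.node (.node (.leaf (.rl 7 1 [13, 28, 66, 97, 133, 153, 167] [1796] [] false)) (.leaf (.rl 5 4 [5, 43, 50, 97, 131, 144] [43, 43, 45, 45, 188, 528, 156, 529, 5516] [94, 44, 44, 42,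 45, 5196] false))) (.leaf (.rl 10 1 [20, 29, 66, 79, 132, 155, 166] [3844] [] false)))))) (.node (.node (.node (.node (.node (.leaf (.rl 5 4 [8, 61, 97, 118, 153, 167] [58] [94, 44, 44, 42, 45, 43, 43, 45, 45, 122, 94, 43, 90] false)) (.leaf (.rl 5 4 [11, 41, 61, 98, 119, 152, 167] [43, 45, 45, 43, 226, 262, 345, 263, 2626] [44, 44, 94, 45, 45, 43, 43, 736] false))) (.node (.leaf (.rl 4 4 [19, 45, 61, 80, 133, 159, 167] [146, 207, 207, 1310] [32, 30, 64, 30, 160] false)) (.leaf (.rl 7 4 [24, 42, 65, 94, 114, 171, 166] [5532, 5926, 5090, 5931, 5929, 6266] [6256] false)))) (.node (.node (.leaf (.rl 7 1 [24, 42, 60, 101] [1156] [] false)) (.leaf (.rl 4 4 [24, 43, 64, 104, 113, 168, 166] [166, 550, 208, 168, 195, 209, 5232] [48, 48, 34, 48, 34, 146] false))) (.leaf (.rl 4 4 [19, 45, 61, 90, 134, 171, 166] [154, 156, 2818] [30, 48, 34, 160] false)))) (.node (.node (.node (.leaf (.rl 7 1 [4, 72, 37, 79, 123, 144, 166]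 [644] [] false)) (.leaf (.rl 4 4 [7, 73, 57, 103, 120, 167] [160] [34, 34, 30, 30, 164, 484, 207, 4646] false))) (.node (.leaf (.rl 7 1 [19, 42, 58, 81, 118, 156, 167] [2692] [] false)) (.leaf .dfn))) (.node (.node (.leaf (.rl 9 1 [7, 32, 60, 82, 171, 166] [1668] [] false)) (.leaf (.rl 23 1 [18, 45, 61, 94, 114, 167] [5764] [] false))) (.leaf (.rl 4 4 [8, 70, 56, 94, 117, 169, 167] [160] [64, 34, 146, 207, 2252] false))))) (.node (.node (.node (.node (.leaf (.rl 4 4 [22, 39, 58, 93, 116, 168, 167] [138, 184, 288, 184, 142, 140, 185, 289, 185, 185, 298] [34, 48, 34, 150, 204] false)) (.leaf (.rl 4 4 [17, 41, 62, 94, 132, 168, 167] [146] [48, 36, 30, 64, 30, 146, 207, 4368, 4396] false))) (.node (.leaf (.rl 7 1 [6, 43, 66, 80, 132, 153, 166] [2436] [] false)) (.leaf .dfn))) (.node (.node (.leaf (.rl 4 4 [6, 40, 65, 102, 134, 154, 166] [146] [36, 32, 48, 164, 484, 1390] false)) (.leaf (.rl 5 4 [21, 41, 59, 91, 119,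 151] [43, 45, 43, 3148] [44, 44, 94, 45, 43, 43, 658, 207, 207, 5378] false))) (.leaf (.rl 4 4 [15, 27, 55, 91, 112, 168, 166] [160] [48, 32, 36, 48, 146, 207, 2078] false)))) (.node (.node (.node (.leaf (.rl 4 2 [13, 30, 37, 103, 114, 159, 166] [146] [64, 48, 64, 30, 35, 49, 35, 134] false)) (.leaf (.rl 5 4 [4, 46, 54, 92, 114, 171] [43, 45, 45, 43, 226] [42, 44, 44, 42, 42, 45, 45, 43, 95, 3686, 206, 206, 4550] false))) (.leaf (.rl 7 1 [14, 42, 37, 79, 123, 144, 166] [2948] [] false))) (.node (.node (.leaf (.rl 4 4 [18, 30, 52, 94, 116, 143, 167] [146] [64, 34, 138, 288, 142, 185, 185, 143, 302] false)) (.leaf (.rl 5 4 [24, 61, 101, 134, 170, 166] [43, 5194, 5350] [94, 44, 44, 43, 45, 45, 188, 528, 5148, 5350] false))) (.leaf (.rl 7 1 [24, 72, 51, 82, 116, 168, 167] [3972] [] false))))))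

def kSrc95 : Tr Src :=
  .node (.node (.node (.node (.node (.node (.leaf (.rl 1 4 [14, 32, 55, 81, 133, 167] [28] [6, 10, 6, 10, 10, 8, 6, 10, 10, 10, 8, 6, 28, 48, 64, 48, 37, 49, 49, 49, 60] false)) (.leaf (.rl 7 1 [15, 39, 56, 91, 117, 171, 166] [4164] [] false))) (.node (.leaf (.rl 4 4 [23, 39, 62, 103, 118, 152, 167] [146] [64, 30, 48, 32, 160, 262, 1874] false)) (.leaf (.rl 5 4 [18, 27, 60, 91, 112, 170, 166] [43, 45, 43, 3148, 528, 156, 237, 5548, 5926] [94, 42, 45, 43, 95, 6198] false)))) (.node (.node (.leaf (.rl 4 4 [72, 65, 94, 115, 156] [146] [34, 48, 48, 48, 36, 146, 576] false)) (.leaf (.rl 4 4 [20, 39, 63, 95, 132, 171, 166] [164, 484] [64, 48, 36, 30, 166, 5078] false))) (.leaf (.rl 4 4 [14, 71, 51, 104, 131, 154, 167] [154, 528, 236, 157, 453, 529, 1058] [48, 34, 64, 36, 34, 160] false)))) (.node (.node (.node (.leaf (.rl 10 1 [18, 72, 58, 79, 113, 154, 166] [580] [] false)) (.leaf (.rl 4 4 [10,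 30, 66, 90, 116, 156, 166] [154] [32, 30, 64, 31, 49, 37, 622, 206, 4428] false))) (.node (.leaf (.rl 7 1 [19, 70, 65, 81, 118, 143] [2628] [] false)) (.leaf .dfn))) (.node (.node (.leaf (.rl 9 1 [4, 29, 55, 98, 88, 170, 167] [1604] [] false)) (.leaf (.rl 5 4 [19, 46, 62, 79, 133, 152, 166] [43, 45, 45, 43, 226, 263, 5650] [44, 94, 42, 44, 44, 43, 95, 45, 5212] false))) (.leaf (.rl 7 1 [14, 32, 53, 101, 117, 167] [3652] [] false))))) (.node (.node (.node (.node (.leaf (.rl 4 4 [12, 32, 56, 123, 157] [138, 140, 288, 142, 289, 185, 185, 298] [30, 32, 34, 146] false)) (.leaf (.rl 4 4 [13, 57, 101, 115, 151, 167] [138, 184, 184, 184, 288, 142, 4286, 4396] [36, 30, 36, 146] false))) (.node (.leaf (.rl 7 1 [21, 45, 59, 93, 113, 144] [2372] [] false)) (.leaf .dfn))) (.node (.node (.leaf (.rl 4 4 [11, 32, 53, 82, 134, 168, 167] [146] [48, 48, 64, 32, 160, 345, 544] false)) (.leaf (.rl 25 1 [15, 45, 63, 104, 112, 144, 166]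 [5444] [] false))) (.leaf (.rl 4 4 [6, 41, 63, 95, 118, 155, 166] [160] [34, 64, 36, 30, 174, 520, 184, 288, 288, 143, 294] false)))) (.node (.node (.node (.leaf (.rl 7 1 [21, 43, 79, 151, 166] [836] [] false)) (.leaf (.rl 5 4 [3, 29, 67, 81, 119, 152, 167] [43, 43, 45, 202, 206, 4850] [94, 44, 44, 43, 45, 95, 4342, 4396] false))) (.leaf (.rl 4 4 [9, 31, 64, 94, 114, 156] [154] [36, 48, 30, 30, 146, 207, 2462] false))) (.node (.node (.leaf (.rl 7 1 [7, 41, 55, 82, 132, 157, 167] [1860] [] false)) (.leaf (.rl 23 1 [10, 46, 51, 82, 134, 151] [5528, 5926] [5926] false))) (.leaf (.rl 7 1 [13, 28, 62, 94, 115, 170] [3908] [] false)))))) (.node (.node (.node (.node (.node (.leaf (.rl 9 1 [11, 26, 53, 91, 122, 158, 166] [196] [] false)) (.leaf .dfn)) (.node (.leaf (.rl 4 4 [24, 39, 63, 104, 88, 159, 167] [150, 204] [48, 64, 154, 453, 529, 157, 453, 456] false)) (.leaf .dfn))) (.node (.node (.leaf (.rl 4 4 [16, 39, 65,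 97, 117, 154, 166] [146] [64, 37, 49, 54, 30, 34, 32, 164, 484] false)) (.leaf (.rl 4 4 [22, 29, 63, 103, 133, 169, 167] [31, 31, 49, 37, 622] [34, 48, 36, 31, 31, 49, 37, 622, 5316] false))) (.leaf (.rl 4 4 [17, 63, 96, 131, 143] [160] [30, 64, 48, 36, 30, 154, 528, 236, 453, 157, 529, 1034] false)))) (.node (.node (.node (.leaf (.rl 4 4 [23, 46, 60, 92, 116, 159, 167] [138, 288, 184, 142, 184, 143, 289, 143, 185, 648] [48, 34, 64, 36, 34, 160] false)) (.leaf (.rl 4 4 [10, 71, 60, 102, 133, 170, 167] [160] [48, 30, 64, 30, 64, 146, 206, 4620] false))) (.node (.leaf (.rl 4 4 [9, 43, 51, 94, 153, 167] [154] [48, 64, 34, 32, 30, 160, 2348] false)) (.leaf (.rl 4 4 [40, 55, 94, 112, 158, 167] [160, 5174, 5926, 5092, 6848] [30, 32, 64, 48, 166] false)))) (.node (.node (.leaf (.rl 7 1 [20, 68, 38, 93, 88, 156, 167] [1732] [] false)) (.leaf (.rl 5 4 [14, 40, 56, 89, 133, 169] [45, 95, 3024] [42, 44, 42, 95, 45, 45, 272,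 344, 5708] false))) (.leaf (.rl 4 4 [13, 59, 103, 113, 151, 166] [160] [48, 34, 48, 174, 520, 288, 184, 141, 185, 143, 294] false))))) (.node (.node (.node (.node (.leaf (.rl 4 4 [20, 44, 51, 81, 124, 168, 167] [138, 142, 140, 288, 288, 142, 185, 185, 185, 143, 302] [48, 64, 48, 30, 154] false)) (.leaf (.rl 4 4 [11, 71, 49, 95, 88] [146] [30, 48, 64, 146, 207, 4328] false))) (.node (.leaf (.rl 12 1 [16, 43, 59, 104, 120, 153] [2500] [] false)) (.leaf .dfn))) (.node (.node (.leaf (.rl 7 1 [10, 45, 61, 94, 122, 171] [1476] [] false)) (.leaf (.rl 9 1 [12, 31, 50, 100, 130, 144] [5572] [] false))) (.leaf (.rl 9 1 [18, 31, 38, 95, 88, 171, 167] [3524] [] false)))) (.node (.node (.node (.leaf (.rl 7 1 [21, 44, 64, 91, 112, 169, 166] [964] [] false)) (.leaf (.rl 5 4 [24, 65, 112, 157] [45, 43, 95, 45, 45, 556, 206, 206, 4332, 4396] [94, 44, 4720] false))) (.leaf (.rl 4 4 [19, 69, 55, 91, 132, 159, 167] [154, 452, 236,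 1574] [30, 64, 36, 30, 146] false))) (.node (.node (.leaf (.rl 4 4 [20, 42, 56, 81, 88, 144, 166] [146] [48, 64, 36, 31, 35, 49, 50, 42, 42, 44, 42, 45, 45, 95, 1216] false)) (.leaf .dfn)) (.leaf (.rl 4 4 [24, 40, 37, 102, 131, 159, 167] [31, 31, 49, 37, 622] [48, 64, 36, 30, 146, 206, 1266] false))))))

def kSrc96 : Tr Src :=
  .node kSrc94 kSrc95

def kSrc97 : Tr Src :=
  .node (.node (.node (.node (.node (.node (.leaf (.rl 1 1 [21, 26] [28] [] false)) (.leaf (.rl 5 4 [5, 71, 66, 90, 88, 169, 166] [43, 43, 45, 202] [192, 208, 208, 194, 168, 209, 171, 209, 1478] false))) (.node (.leaf (.rl 4 4 [10, 44, 56, 99, 132, 144] [146] [32, 30, 64, 48, 34, 146, 207, 1064] false)) (.leaf (.rl 21 1 [9, 31, 55, 82, 115, 151] [5083, 5189, 5080, 5188, 6176] [6176] true)))) (.node (.node (.leaf (.rl 7 1 [20, 45, 56, 91, 115, 159, 167] [1060] [] false)) (.leaf (.rl 4 4 [10, 43, 64, 102, 133, 157, 166] [160] [34, 64, 30, 166, 194,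 170, 5102] false))) (.leaf (.rl 9 1 [3, 72, 49, 102, 124, 156, 167] [3108] [] false)))) (.node (.node (.node (.leaf (.rl 10 1 [12, 39, 82, 133, 158, 167] [262, 548] [548] false)) (.leaf (.rl 4 4 [7, 26, 38, 93, 123, 157, 167] [150, 204] [30, 48, 36, 48, 150, 204, 206, 4562] false))) (.node (.leaf (.rl 10 1 [43, 37, 95, 112, 144, 167] [2596] [] false)) (.leaf .dfn))) (.node (.node (.leaf (.rl 10 1 [3, 45, 67, 94, 118, 166] [1572] [] false)) (.leaf (.rl 5 4 [7, 58, 79, 123, 159, 166] [43, 45, 45, 43, 226, 263, 345, 4512] [94, 44, 44, 43, 45, 45, 5236] false))) (.leaf (.rl 4 4 [9, 32, 53, 89, 115, 159, 166] [160] [48, 48, 48, 30, 30, 160, 263, 3408] false))))) (.node (.node (.node (.node (.leaf (.rl 4 2 [6, 28, 67, 93, 117, 168, 166] [138] [48, 34, 64, 160] false)) (.leaf (.rl 17 1 [18, 39, 50, 80, 120, 170, 166] [4388] [] false))) (.node (.leaf (.rl 4 4 [17, 68, 38, 103, 130, 159, 167] [150, 204] [48, 30, 64, 150,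 204, 206, 2118] false)) (.leaf .dfn))) (.node (.node (.leaf (.rl 7 1 [10, 44, 64, 89, 134, 153, 167] [1316] [] false)) (.leaf (.rl 5 4 [8, 45, 62, 92, 115, 166] [43, 43, 45, 202, 207, 5256] [94, 42, 44, 5196] false))) (.leaf (.rl 10 1 [5, 30, 67, 98, 123, 153] [3364] [] false)))) (.node (.node (.node (.leaf (.rl 7 1 [33, 74, 66, 95, 121, 144, 166] [804] [] false)) (.leaf (.rl 5 4 [5, 46, 37, 98, 116, 155] [43, 43, 45, 202] [94, 42, 44, 43, 43, 45, 45, 256, 262, 344, 263, 4416] false))) (.leaf (.rl 4 4 [8, 45, 55, 96, 123, 154, 167] [154, 452, 237, 453, 420] [34, 32, 64, 32, 30, 150, 204] false))) (.node (.node (.leaf (.rl 7 1 [14, 71, 55, 100, 112, 152, 166] [1828] [] false)) (.leaf (.rl 5 4 [7, 72, 53, 93, 123, 159] [45, 43, 124, 44, 44, 95, 3298, 550, 168, 5086] [42, 42, 44, 95, 45, 5212] true))) (.leaf (.rl 4 4 [20, 39, 50, 97, 131, 158] [160, 262, 3290] [34, 48, 64, 32, 164, 484] false)))))) (.node (.node (.node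 (.node (.node (.leaf .dfn) (.leaf (.rl 5 4 [3, 39, 38, 118, 155] [43, 43, 45, 45, 188, 528, 156, 453, 157, 529, 1372] [94, 44, 43, 95, 2640] false))) (.node (.leaf (.rl 4 4 [16, 39, 57, 101, 130, 168, 166] [146, 206, 2108] [30, 48, 64, 36, 160] false)) (.leaf .dfn))) (.node (.node (.leaf (.rl 7 1 [7, 71, 64, 82, 118, 151] [1188] [] false)) (.leaf (.rl 23 1 [21, 71, 50, 95, 117, 154, 167] [5284] [] false))) (.leaf (.rl 4 4 [33, 72, 55, 79, 121, 151, 166] [37, 49, 49, 49, 60, 64, 36, 32, 31, 31, 49, 37, 622] [36, 48, 64, 32, 31, 31, 49, 37, 622] false)))) (.node (.node (.node (.leaf (.rl 4 4 [16, 41, 51, 99, 120, 158, 166] [138, 288, 184, 288, 184, 289, 143, 185, 648] [30, 48, 48, 34, 138] false)) (.leaf (.rl 4 4 [18, 70, 53, 98, 130, 156, 167] [160] [30, 36, 174, 520, 288, 288, 184, 142, 288, 140, 4286, 4396] false))) (.node (.leaf (.rl 4 4 [8, 45, 55, 89, 159, 166] [154, 236, 156, 453, 838] [34, 64, 36, 31, 31,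 49, 37, 622] false)) (.leaf .dfn))) (.node (.node (.leaf (.rl 7 1 [22, 31, 60, 94, 112, 152] [1700] [] false)) (.leaf (.rl 5 4 [69, 56, 79, 118, 144] [43, 95, 45, 45, 324, 206, 2110] [42, 44, 42, 95, 45, 5212] false))) (.leaf (.rl 4 4 [8, 68, 50, 92, 119, 154, 167] [160] [48, 36, 31, 31, 49, 37, 622, 1124] false))))) (.node (.node (.node (.node (.leaf (.rl 4 4 [16, 74, 60, 94, 115, 158] [138, 288, 142, 184, 141, 143, 185, 185, 143, 402] [48, 48, 48, 146] false)) (.leaf (.rl 4 4 [12, 26, 52, 95, 114, 151] [146] [64, 30, 48, 166, 170, 550, 170, 208, 168, 171, 209, 209, 4360, 4396] false))) (.node (.leaf (.rl 7 1 [24, 29, 62, 98, 113, 171, 166] [2468] [] false)) (.leaf .dfn))) (.node (.node (.leaf (.rl 7 1 [21, 44, 56, 98, 88, 159, 167] [1444] [] false)) (.leaf (.rl 23 1 [12, 29, 37, 90, 116, 159, 166] [5540] [] false))) (.leaf (.rl 10 1 [10, 26, 56, 104, 130, 154] [3492] [] false)))) (.node (.node (.node (.leaf (.rl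 7 1 [4, 41, 63, 92, 118, 156, 167] [932] [] false)) (.leaf (.rl 5 4 [22, 31, 59, 96, 133, 143, 167] [45, 95, 3024, 156, 453, 157, 529, 4682] [42, 44, 44, 42, 45, 45, 43, 43, 45, 1290] false))) (.leaf (.rl 4 4 [18, 31, 56, 96, 156] [154] [34, 48, 64, 48, 30, 160, 262, 344, 262, 345, 263, 2474] false))) (.node (.node (.leaf (.rl 4 4 [74, 96, 114, 153] [146] [48, 64, 34, 48, 35, 49, 35, 134, 43, 45, 43, 43, 904] false)) (.leaf (.rl 5 2 [17, 30, 62, 81, 114, 153] [43, 45, 5196] [94, 42, 44, 42, 45, 5196] false))) (.leaf (.rl 7 1 [15, 45, 55, 91, 113, 143, 166] [4004] [] false))))))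

def kSrc98 : Tr Src :=
  .node (.node (.node (.node (.node (.node (.leaf (.rl 4 4 [15, 42, 61, 80, 112, 166] [31, 35, 49, 50, 44, 44, 94, 43, 45, 43, 43, 80] [34, 64, 48, 31, 56] false)) (.leaf (.rl 5 2 [15, 54, 91, 131, 154, 167] [43, 45, 45, 43, 226] [94, 42, 44, 43, 43, 45, 246] false))) (.node (.leaf (.rl 4 4 [3, 27, 49, 92, 120, 169, 167] [146, 207, 207, 600] [48, 64, 48, 160] false)) (.leaf (.rl 5 4 [4, 40, 50, 101, 121, 154, 167] [45, 45, 43, 95, 2202] [94, 44, 5196, 5188, 5082, 6176] false)))) (.node (.node (.leaf (.rl 7 1 [9, 73, 67, 80, 117, 144] [1124] [] false)) (.leaf (.rl 4 4 [12, 40, 61, 90, 113, 144, 167] [35, 49, 35, 134, 44, 94, 42, 44, 43, 95, 45, 5212] [48, 30, 32, 64, 32, 154] false))) (.leaf (.rl 7 1 [13, 32, 38, 101, 131, 170] [3172] [] false)))) (.node (.node (.node (.leaf (.rl 4 4 [3, 71, 37, 79, 113, 169, 166] [138, 288, 288, 184, 289, 143, 289, 143, 564] [48, 36, 48, 166] false)) (.leaf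 (.rl 4 4 [24, 40, 56, 101, 117, 144, 167] [160] [30, 154, 452, 4436] false))) (.node (.leaf (.rl 4 2 [11, 31, 52, 90, 133, 156, 167] [154] [30, 34, 154] false)) (.leaf .dfn))) (.node (.node (.leaf (.rl 4 4 [22, 32, 52, 91, 88, 169, 167] [146] [36, 48, 30, 37, 49, 54, 36, 146] false)) (.leaf (.rl 23 1 [24, 39, 64, 96, 123, 167] [5732] [] false))) (.leaf (.rl 7 1 [7, 72, 55, 96, 124, 153, 167] [3684] [] false))))) (.node (.node (.node (.node (.leaf (.rl 4 4 [13, 70, 66, 90, 118, 158, 167] [138, 288, 142, 184, 141, 185, 143, 185, 185, 280] [34, 64, 48, 34, 34, 160] false)) (.leaf (.rl 4 4 [9, 68, 63, 104, 118, 153, 167] [146, 207, 207, 4390] [32, 30, 64, 48, 160] false))) (.node (.leaf (.rl 7 1 [13, 69, 54, 94, 122, 170, 167] [2404] [] false)) (.leaf .dfn))) (.node (.node (.leaf (.rl 4 4 [8, 30, 61, 79, 121, 159] [146] [36, 30, 49, 182, 520, 184, 184, 142, 184, 142, 185, 185, 185, 143, 302] false)) (.leaf (.rl 5 4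 [21, 30, 65, 91, 133, 155, 167] [43, 43, 45, 202, 3306] [44, 5212] false))) (.leaf (.rl 10 1 [20, 41, 52, 103, 123, 154] [3428] [] false)))) (.node (.node (.node (.leaf (.rl 7 1 [19, 42, 53, 133, 153, 167] [868] [] false)) (.leaf (.rl 5 4 [13, 49, 101, 132, 152, 166] [43, 45, 43, 3148] [42, 42, 44, 43, 43, 45, 45, 240, 207, 4506] false))) (.leaf (.rl 4 4 [39, 56, 81, 112, 170] [154, 157, 453, 1914] [48, 36, 48, 164, 484] false))) (.node (.node (.leaf (.rl 7 1 [9, 64, 79, 119, 155, 167] [1892] [] false)) (.leaf (.rl 24 1 [15, 43, 62, 97, 134, 156] [5988] [] false))) (.leaf (.rl 4 4 [14, 41, 50, 81, 151, 167] [164, 484] [36, 32, 49, 37, 622, 207, 1632] false)))))) (.node (.node (.node (.node (.node (.leaf (.rl 5 1 [14, 42, 53, 93, 120, 143] [228] [] false)) (.leaf (.rl 4 4 [21, 42, 57, 98, 118, 171, 167] [138, 142, 288, 288, 142, 4280] [34, 146] false))) (.node (.leaf (.rl 4 4 [4, 46, 64, 102, 124, 153] [150, 204,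 206, 2052] [48, 48, 34, 34, 154] false)) (.leaf .dfn))) (.node (.node (.leaf (.rl 7 1 [5, 72, 60, 91, 130, 156, 166] [1252] [] false)) (.leaf (.rl 5 4 [33, 32, 54, 82, 132, 168] [43, 43, 45, 202, 207, 207, 3168, 344, 263, 345, 5158] [5194] true))) (.leaf (.rl 4 4 [69, 57, 80, 133, 155] [160] [48, 48, 30, 36, 31, 35, 49, 50, 42, 44, 42, 45, 45, 43, 100] false)))) (.node (.node (.node (.leaf (.rl 9 1 [8, 31, 58, 80, 116, 152] [740] [] false)) (.leaf (.rl 4 4 [23, 43, 61, 104, 121, 151] [164, 484, 206, 4310] [36, 48, 48, 64, 31, 31, 49, 37, 622] false))) (.node (.leaf (.rl 10 1 [7, 29, 65, 99, 131, 151] [2788] [] false)) (.leaf (.rl 4 4 [13, 28, 66, 95, 131, 169, 167] [138, 142, 184, 184, 4286, 4396, 4398, 6862] [48, 64, 36, 146] false)))) (.node (.node (.leaf (.rl 7 1 [20, 39, 66, 100, 122, 169, 166] [1764] [] false)) (.leaf (.rl 10 1 [19, 46, 82, 122, 157, 166] [5860] [] false))) (.leaf (.rl 4 4 [12, 68, 57, 101,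 118, 158, 167] [160] [36, 64, 32, 34, 160, 262, 2296] false))))) (.node (.node (.node (.node (.leaf (.rl 4 4 [23, 70, 61, 103, 171, 166] [138, 288, 142, 184, 288, 143, 185, 185, 143, 290] [32, 48, 150, 204] false)) (.leaf (.rl 4 4 [27, 57, 97, 118, 156, 167] [146] [64, 48, 48, 160, 344, 4544] false))) (.node (.leaf (.rl 4 4 [12, 72, 53, 81, 131, 159] [150, 204] [30, 32, 64, 48, 34, 160, 262, 344, 263, 345, 378] false)) (.leaf .dfn))) (.node (.node (.leaf (.rl 7 1 [15, 42, 59, 99, 117, 153, 167] [1508] [] false)) (.leaf (.rl 9 1 [3, 28, 52, 90, 112, 159] [5604] [] false))) (.leaf (.rl 4 4 [3, 41, 66, 91, 119, 169, 166] [160] [48, 36, 64, 32, 34, 160, 344, 262, 345, 2244] false)))) (.node (.node (.node (.leaf (.rl 4 4 [21, 73, 59, 81, 112, 158, 166] [146, 206, 994] [34, 64, 48, 30, 30, 160] false)) (.leaf (.rl 12 1 [6, 30, 64, 79] [5086] [] false))) (.leaf (.rl 4 4 [22, 40, 50, 95, 121, 168] [154] [34, 49, 182, 520,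 184, 142, 185, 185, 185, 2660] false))) (.node (.node (.leaf (.rl 4 4 [27, 57, 97, 133, 159, 166] [146] [64, 30, 48, 31, 65, 49, 31, 70, 48, 48, 34, 48, 150, 204] false)) (.leaf (.rl 9 1 [19, 31, 62, 90, 117, 171, 166] [236, 6114] [6114] false))) (.leaf (.rl 4 4 [10, 68, 54, 82, 122, 151] [31, 31, 49, 37, 622] [32, 48, 48, 30, 154, 452, 156, 237, 453, 2668] false))))))

def kSrc99 : Tr Src :=
  .node kSrc97 kSrc98

def kSrc100 : Tr Src :=
  .node kSrc96 kSrc99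

def kSrc101 : Tr Src :=
  .node (.node (.node (.node (.node (.node (.leaf (.rl 0 2 [23, 55, 82, 115, 151] [4] [2, 0, 2, 0, 2, 2, 0, 2, 0, 2, 2, 0, 2, 0, 2, 2, 0, 2, 2, 4] false)) (.leaf (.rl 5 4 [16, 29, 92, 88, 154, 166] [43, 43, 45, 202] [44, 94, 42, 95, 45, 45, 324, 207, 1264] false))) (.node (.leaf (.rl 4 4 [70, 49, 89, 144, 166] [146] [48, 138, 140, 288, 140, 289, 143, 289, 143, 350] false)) (.leaf (.rl 24 4 [16, 41, 58, 91, 114, 144] [6136] [5109, 6076, 5108, 6136] false)))) (.node (.node (.leaf (.rl 10 1 [14, 45, 67, 104, 112, 152, 166] [1044] [] false)) (.leaf (.rl 4 4 [33, 70, 57, 82, 130, 152, 166] [154] [34, 150, 204, 207, 5140] false))) (.leaf (.rl 9 1 [18, 70, 61, 80, 117, 170, 167] [3092] [] false)))) (.node (.node (.node (.leaf (.rl 4 4 [12, 42, 53, 102, 113, 153, 167] [138, 142, 140, 288, 288, 142, 141, 185, 143, 294] [64, 30, 32, 48, 154] false)) (.leaf (.rl 4 4 [12, 27, 66, 120, 170] [150, 204]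 [32, 30, 64, 48, 160, 345, 4412] false))) (.node (.leaf (.rl 7 1 [16, 32, 52, 82, 88, 157, 166] [2580] [] false)) (.leaf (.rl 5 4 [10, 73, 52, 89, 123] [43, 95, 45, 45, 324, 206, 206, 5774, 5926, 5088, 6658] [44, 95, 260] false)))) (.node (.node (.leaf (.rl 7 1 [9, 30, 58, 97, 121, 157, 167] [1556] [] false)) (.leaf (.rl 5 4 [21, 71, 67, 102, 130, 144, 166] [43, 45, 45, 43, 226, 344, 263, 345, 3520] [94, 43, 5238] false))) (.leaf (.rl 10 1 [8, 46, 49, 89, 112, 152, 166] [3604] [] false))))) (.node (.node (.node (.node (.leaf (.rl 6 1 [23, 31, 63, 81, 114, 168, 166] [276] [] false)) (.leaf (.rl 4 4 [10, 39, 65, 104, 123, 152] [138, 184, 142, 140, 4286] [64, 36, 34, 174, 520, 142, 184, 184, 140, 4286] true))) (.node (.leaf (.rl 4 4 [73, 65, 98, 122, 170] [150, 204, 207, 207, 1966] [48, 48, 64, 160] false)) (.leaf (.rl 5 4 [17, 66, 99, 119, 155, 167] [43, 43, 45, 43, 95, 588, 344, 5678, 5926, 5930, 5928, 6394] [44,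 94, 43, 45, 5196] false)))) (.node (.node (.leaf (.rl 7 1 [19, 26, 37, 79, 119, 159] [1300] [] false)) (.leaf (.rl 7 1 [33, 43, 63, 95, 88, 152, 166] [5396] [] false))) (.leaf (.rl 7 1 [21, 26, 61, 97, 112, 143] [3348] [] false)))) (.node (.node (.node (.leaf (.rl 7 1 [20, 74, 37, 103, 113, 155, 167] [788] [] false)) (.leaf (.rl 5 4 [10, 45, 67, 94, 112, 155] [43, 43, 45, 202] [44, 44, 94, 42, 44, 43, 43, 45, 45, 178, 262, 345, 4738] false))) (.leaf (.rl 4 4 [23, 40, 63, 101, 117, 153] [154] [48, 64, 48, 34, 154, 528, 452, 156, 453, 157, 2284] false))) (.node (.node (.leaf (.rl 7 1 [3, 74, 53, 123, 169, 166] [1812] [] false)) (.leaf (.rl 24 1 [23, 69, 57, 91, 131, 151, 166] [5908] [] false))) (.leaf (.rl 4 4 [14, 31, 61, 102, 119, 144] [160, 344, 262, 345, 2336] [64, 30, 36, 30, 164, 484] false)))))) (.node (.node (.node (.node (.node (.leaf .dfn) (.leaf (.rl 5 4 [23, 70, 50, 91, 121, 158, 166] [43, 95, 45, 45,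 324, 207, 1480] [94, 44, 42, 45, 95, 2934] false))) (.node (.leaf (.rl 4 4 [10, 44, 63, 118, 170, 167] [146] [36, 64, 36, 34, 164, 484, 206, 2126] false)) (.leaf (.rl 21 4 [3, 99, 88, 156] [6080, 5080, 6186] [6186] false)))) (.node (.node (.leaf (.rl 9 1 [17, 72, 55, 96, 88, 151, 166] [1172] [] false)) (.leaf (.rl 4 4 [14, 39, 49, 95, 119, 157, 167] [166, 5112] [30, 64, 30, 166, 550, 194, 5122] true))) (.leaf (.rl 10 1 [24, 41, 80, 88, 157] [3220] [] false)))) (.node (.node (.node (.leaf (.rl 7 1 [15, 68, 65, 100, 116, 168, 167] [660] [] false)) (.leaf (.rl 4 4 [13, 39, 66, 94, 115, 156, 166] [160] [64, 30, 48, 30, 166, 550, 208, 208, 194, 208, 171, 209, 209, 4360, 4396] false))) (.node (.leaf (.rl 7 1 [5, 43, 52, 97, 134, 144, 166] [2708] [] false)) (.leaf (.rl 5 4 [16, 32, 59, 90, 131, 144] [45, 45, 612, 528, 236, 157, 529, 5224, 5926, 5928, 5090, 6778] [94, 42, 45, 5196] false)))) (.node (.node (.leaf (.rl 5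 1 [3, 26, 67, 89, 134, 166] [1684] [] false)) (.leaf (.rl 23 1 [5, 52, 82, 133, 159] [5780] [] false))) (.leaf (.rl 10 1 [9, 26, 53, 101, 122, 157] [3732] [] false))))) (.node (.node (.node (.node (.leaf (.rl 4 4 [9, 71, 64, 98, 113, 152] [138, 142, 140, 288, 185, 143, 185, 185, 280] [34, 48, 160] false)) (.leaf (.rl 4 4 [15, 71, 38, 95, 117, 151] [146] [32, 64, 32, 34, 146, 206, 4490] false))) (.node (.leaf (.rl 4 4 [15, 27, 67, 90, 130, 171] [150, 204, 207, 207, 1060] [32, 36, 48, 36, 160] false)) (.leaf (.rl 5 4 [6, 54, 99, 123, 153, 166] [43, 43, 45, 45, 188, 528, 236, 156, 529, 5248, 5926, 5928, 5930, 6530] [42, 5196] false)))) (.node (.node (.leaf (.rl 7 1 [13, 27, 57, 81, 113, 170, 166] [1428] [] false)) (.leaf (.rl 5 4 [17, 28, 38, 99, 132, 144] [43, 45, 43, 3148] [44, 94, 43, 95, 45, 45, 324, 206, 206, 5460] false))) (.leaf (.rl 10 1 [4, 29, 56, 95, 114] [3476] [] false)))) (.node (.node (.node (.leaf (.rl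 4 2 [8, 40, 56, 102, 116, 159, 166] [146] [32, 164, 484] false)) (.leaf (.rl 5 4 [74, 50, 104, 122, 158] [45, 43, 43, 45, 45, 122, 42, 95, 4556] [44, 94, 374] false))) (.leaf (.rl 10 1 [20, 45, 93, 116, 153, 166] [2964] [] false))) (.node (.node (.leaf (.rl 4 4 [16, 29, 62, 97, 88, 169] [146] [32, 48, 64, 30, 48, 146, 1252] false)) (.leaf (.rl 5 4 [10, 69, 65, 96, 113, 156, 167] [43, 95, 45, 5212, 5926] [94, 1818, 206, 5684, 5926] false))) (.leaf (.rl 10 1 [17, 41, 65, 103, 117, 166] [3988] [] false))))))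

def kSrc102 : Tr Src :=
  .node (.node (.node (.node (.node (.node (.leaf (.rl 1 4 [11, 41, 63, 94, 131, 153, 167] [40] [10, 8, 6, 10, 6, 10, 10, 8, 28, 30, 64, 56] false)) (.leaf (.rl 5 4 [14, 73, 63, 79, 132, 158] [43, 45, 43, 3148, 452, 156, 453, 157, 529, 536] [44, 44, 94, 42, 44, 43, 43, 45, 45, 178] false))) (.node (.leaf (.rl 4 4 [5, 69, 67, 91, 114] [146] [34, 32, 56, 42, 44, 44, 42, 45, 45, 43, 43, 45, 1290] false)) (.leaf (.rl 5 4 [11, 43, 67, 91, 114, 171] [43, 45, 45, 43, 226, 344, 2720] [42, 45, 45, 43, 95, 6198] false)))) (.node (.node (.leaf (.rl 4 4 [9, 68, 59, 101, 113, 171, 167] [146] [30, 64, 36, 32, 31, 35, 49, 50, 94, 44, 44, 43, 43, 45, 202] false)) (.leaf (.rl 21 1 [13, 32, 65, 94, 120, 159, 167] [5204] [] false))) (.leaf (.rl 4 4 [21, 40, 60, 91, 117, 156, 167] [154] [48, 48, 30, 34, 138, 142, 288, 142, 184, 141, 185, 185, 185, 143, 506] false)))) (.node (.node (.node (.leaf (.rl 4 4 [7,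 27, 61, 92, 121, 154, 167] [138] [48, 66, 48, 48, 30, 48, 30, 138] false)) (.leaf (.rl 4 4 [15, 49, 80, 114, 152, 167] [154] [48, 48, 36, 150, 204, 207, 207, 4450] false))) (.node (.leaf (.rl 9 1 [12, 26, 57, 93, 117, 143] [2644] [] false)) (.leaf (.rl 5 4 [12, 32, 55, 81, 122, 144] [43, 43, 45, 43, 95, 588, 262, 5472, 5926, 5930, 5092, 6726] [94, 44, 44, 43, 5194, 5350] false)))) (.node (.node (.leaf (.rl 7 1 [5, 27, 37, 80, 132, 169, 167] [1620] [] false)) (.leaf (.rl 5 4 [17, 27, 62, 95, 88, 169] [45, 43, 43, 45, 45, 122, 42, 5194, 5350] [44, 44, 43, 45, 45, 476] false))) (.leaf (.rl 7 1 [56, 103, 120, 144] [3668] [] false))))) (.node (.node (.node (.node (.leaf (.rl 4 4 [4, 31, 58, 100, 132, 158] [138, 142, 184, 142, 185, 289, 185, 185, 298] [30, 48, 30, 150, 204] false)) (.leaf (.rl 4 4 [14, 74, 61, 79, 88, 171, 167] [146] [34, 64, 48, 56, 42, 45, 95, 4342, 4396] false))) (.node (.leaf (.rl 7 1 [19, 69, 53,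 100, 130] [2388] [] false)) (.leaf (.rl 5 4 [18, 40, 67, 96, 120, 158, 167] [43, 43, 45, 202, 5520, 5926, 5928, 5930, 5090, 5088, 6456] [42, 42, 45, 43, 43, 45, 434] false)))) (.node (.node (.leaf (.rl 7 1 [19, 74, 51, 104, 151] [1364] [] false)) (.leaf (.rl 5 4 [23, 29, 58, 90, 121, 154] [43, 43, 45, 202, 207, 207, 5202] [43, 5238] false))) (.leaf (.rl 4 4 [11, 43, 50, 98, 124, 156, 166] [160] [30, 64, 48, 30, 146, 2462] false)))) (.node (.node (.node (.leaf (.rl 4 2 [11, 26, 50, 82, 116, 158] [146] [48, 48, 48, 166] false)) (.leaf (.rl 5 4 [19, 70, 53, 80, 115, 156, 166] [43, 43, 45, 202, 206, 4324] [45, 95, 4556] false))) (.leaf (.rl 10 1 [4, 73, 62, 90, 116, 168, 167] [2900] [] false))) (.node (.node (.leaf (.rl 7 1 [33, 43, 63, 79, 122, 168, 166] [1876] [] false)) (.leaf (.rl 5 4 [33, 44, 66, 89, 119, 151, 166] [45, 45, 612, 528, 156, 452, 157, 453, 529, 5512] [94, 42, 44, 44, 5194, 5350] false))) (.leaf (.rl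 4 4 [5, 29, 52, 81, 116, 159] [164, 484] [34, 48, 34, 174, 520, 184, 184, 288, 288, 141, 143, 185, 185, 143, 290] false)))))) (.node (.node (.node (.node (.node (.leaf (.rl 1 4 [3, 26, 65, 103, 113, 153, 167] [28] [10, 6, 10, 10, 10, 6, 10, 10, 6, 10, 10, 8, 28, 48, 34, 30, 174] false)) (.leaf (.rl 14 1 [20, 44, 50, 99, 133, 170, 166] [4308] [] false))) (.node (.leaf (.rl 4 4 [8, 38, 99, 114, 170, 167] [150, 204, 207, 1286] [48, 64, 36, 32, 164, 484] false)) (.leaf (.rl 5 4 [73, 37, 102, 134] [43, 5194, 5350, 5108, 5352, 5104, 6342] [44, 44, 42, 3706, 3186] false)))) (.node (.node (.leaf (.rl 7 1 [14, 31, 64, 100, 131, 166] [1236] [] false)) (.leaf (.rl 7 1 [3, 72, 52, 101, 130, 168, 166] [5332] [] false))) (.leaf (.rl 4 4 [33, 31, 55, 104, 133, 168, 166] [160, 345, 2434] [30, 48, 32, 64, 160] false)))) (.node (.node (.node (.leaf (.rl 4 4 [4, 46, 59, 101, 121, 170, 166] [138, 288, 184, 140, 288, 140, 185, 289,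 185, 185, 298] [48, 48, 34, 34, 31, 31, 49, 37, 622] false)) (.leaf (.rl 4 4 [13, 32, 50, 100, 133, 170, 167] [164, 484] [64, 35, 49, 50, 42, 44, 4720] false))) (.node (.leaf (.rl 10 1 [18, 69, 59, 102, 130, 168, 167] [2772] [] false)) (.leaf .dfn))) (.node (.node (.leaf (.rl 4 4 [11, 74, 98, 117, 155, 167] [146, 206, 206, 1494] [48, 30, 64, 150, 204] false)) (.leaf (.rl 7 1 [16, 41, 60, 82, 133, 155, 166] [5844] [] false))) (.leaf (.rl 10 1 [11, 43, 53, 96, 154, 167] [3796] [] false))))) (.node (.node (.node (.node (.leaf (.rl 4 4 [14, 26, 61, 102, 116, 158, 167] [138, 184, 288, 140, 288, 141, 185, 143, 294] [30, 32, 64, 48, 160] false)) (.leaf (.rl 4 4 [4, 74, 59, 82, 121, 143] [146, 207, 4466] [48, 48, 48, 30, 160] false))) (.node (.leaf (.rl 9 1 [17, 44, 60, 92, 133, 151, 167] [2516] [] false)) (.leaf (.rl 5 4 [11, 73, 63, 104, 133, 154] [43, 43, 45, 43, 95, 588, 344, 262, 345, 5694, 5926, 5928, 6594] [44, 94,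 42, 44, 43, 43, 45, 45, 256] false)))) (.node (.node (.leaf (.rl 7 1 [6, 46, 49, 79, 158, 167] [1492] [] false)) (.leaf (.rl 5 4 [4, 39, 63, 98, 119, 168, 166] [43, 45, 43, 3148] [94, 44, 44, 95, 1104, 237, 5548] false))) (.leaf (.rl 10 1 [16, 41, 58, 82, 122, 157, 166] [3540] [] false)))) (.node (.node (.node (.leaf (.rl 7 1 [23, 28, 38, 95, 117, 168, 166] [980] [] false)) (.leaf .dfn)) (.leaf (.rl 4 4 [7, 72, 56, 82, 153, 166] [154] [36, 64, 34, 164, 484, 207, 448] false))) (.node (.node (.leaf (.rl 4 4 [33, 46, 56, 82, 122, 168, 167] [146, 206, 1600] [36, 30, 32, 164, 484] false)) (.leaf (.rl 25 1 [15, 30, 67, 104, 117, 156] [5274, 6098] [6098] false))) (.leaf (.rl 4 4 [23, 30, 61, 99, 122, 153, 167] [31, 31, 49, 37, 622] [36, 48, 30, 36, 30, 160, 262, 344, 262, 2104] false))))))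

def kSrc103 : Tr Src :=
  .node kSrc101 kSrc102

def kSrc104 : Tr Src :=
  .node (.node (.node (.node (.node (.node (.leaf (.rl 1 2 [16, 31, 52, 94, 132, 156, 167] [28] [10, 10, 10, 6, 10, 6, 10, 8, 6, 28] false)) (.leaf (.rl 5 4 [4, 74, 64, 79, 124, 154, 166] [43, 43, 45, 202, 3342] [95, 2934] false))) (.node (.leaf (.rl 4 4 [9, 39, 67, 95, 114, 170, 166] [146, 206, 206, 1362] [48, 36, 30, 64, 30, 160] false)) (.leaf (.rl 32 1 [18, 26, 38, 96, 133, 143] [6196] [] false)))) (.node (.node (.leaf (.rl 7 1 [8, 29, 50, 102, 154, 167] [1076] [] false)) (.leaf (.rl 4 4 [40, 55, 94, 112, 158, 167] [160] [30, 32, 64, 48, 166, 5096] false))) (.leaf (.rl 9 1 [16, 26, 61, 101, 115, 154] [3124] [] false)))) (.node (.node (.node (.leaf (.rl 4 4 [21, 69, 64, 101, 113, 151, 166] [138, 288, 184, 142, 141, 185, 185, 185, 143, 284] [64, 48, 32, 64, 30, 146] false)) (.leaf (.rl 4 4 [17, 27, 62, 82, 124, 167] [154, 528, 4532] [30,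 64, 48, 30, 34, 166] false))) (.node (.leaf (.rl 7 1 [10, 46, 38, 97, 170, 167] [2612] [] false)) (.leaf (.rl 5 4 [16, 70, 38, 89, 131, 155, 167] [1818, 5324, 5926, 5090, 6684] [94, 42, 44, 44, 43, 45, 95, 4342, 4396] false)))) (.node (.node (.leaf (.rl 4 4 [27, 50, 101, 118, 143, 166] [146, 207, 382] [48, 64, 48, 34, 154] false)) (.leaf (.rl 5 4 [23, 28, 51, 93, 123, 159, 166] [43, 45, 45, 43, 226, 263, 345, 263, 5508] [94, 44, 43, 43, 45, 45, 5458] false))) (.leaf (.rl 4 4 [42, 66, 101, 122, 159, 167] [160] [32, 48, 32, 64, 154, 452, 237, 453, 1420] false))))) (.node (.node (.node (.node (.leaf (.rl 4 4 [20, 30, 98, 157] [138, 184, 288, 184, 143, 185, 185, 276] [34, 64, 32, 30, 154] false)) (.leaf (.rl 4 4 [19, 43, 54, 98, 123] [138, 142, 184, 142, 4280] [30, 64, 48, 34, 34, 160] false))) (.node (.leaf (.rl 7 1 [18, 41, 63, 80, 121, 159] [2356] [] false)) (.leaf (.rl 5 4 [4, 29, 49, 100, 113, 170, 167] [43, 43,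 45, 45, 5236, 5926, 5930, 5090, 5088, 6432] [94, 42, 44, 44, 43, 43, 45, 43, 95, 588, 263, 4786] false)))) (.node (.node (.leaf (.rl 10 1 [17, 62, 98, 134, 169, 167] [1332] [] false)) (.leaf (.rl 5 4 [18, 74, 54, 92, 112, 168, 166] [43, 43, 45, 202, 206, 820] [44, 44, 95, 5282] false))) (.leaf (.rl 4 4 [24, 42, 49, 104, 122, 144, 166] [160, 262, 344, 1940] [34, 64, 32, 48, 160] false)))) (.node (.node (.node (.leaf (.rl 7 1 [5, 39, 65, 132] [820] [] false)) (.leaf (.rl 5 4 [22, 28, 64, 102, 112, 158] [43, 43, 45, 202, 207, 4486] [44, 94, 42, 45, 3984] false))) (.leaf (.rl 9 1 [23, 74, 57, 102, 144, 166] [2868] [] false))) (.node (.node (.leaf (.rl 7 1 [12, 42, 60, 92, 114, 167] [1844] [] false)) (.leaf (.rl 23 1 [23, 44, 55, 92, 143, 166] [5336, 5926] [5926] false))) (.leaf (.rl 10 1 [17, 46, 57, 94, 121, 155, 167] [3892] [] false)))))) (.node (.node (.node (.node (.node (.leaf (.rl 13 1 [16, 71, 58, 79, 117, 169,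 167] [180] [] false)) (.leaf (.rl 7 4 [13, 31, 100, 117, 157, 166] [956] [207, 1448, 956] false))) (.node (.leaf (.rl 4 2 [24, 31, 53, 98, 133, 152, 167] [150, 204] [30, 64, 48, 31, 31, 49, 37, 622] false)) (.leaf (.rl 5 4 [4, 70, 59, 89, 132, 156, 167] [45, 43, 43, 45, 1976, 5278, 5108, 5352, 5108, 6306] [45, 178] false)))) (.node (.node (.leaf (.rl 7 1 [12, 46, 66, 92, 115, 154] [1204] [] false)) (.leaf (.rl 23 1 [12, 74, 37, 89, 123, 170] [5300] [] false))) (.leaf (.rl 4 2 [9, 39, 51, 103, 119, 152] [160] [30, 64, 166] false)))) (.node (.node (.node (.leaf (.rl 7 1 [8, 32, 60, 81, 88, 157, 167] [692] [] false)) (.leaf (.rl 4 4 [42, 66, 92, 88, 144, 166] [160] [64, 48, 35, 49, 50, 94, 44, 44, 43, 43, 45, 45, 95, 4556] false))) (.node (.leaf (.rl 4 4 [5, 39, 53, 103, 88, 152, 167] [154, 528, 452, 236, 157, 237, 2312] [48, 32, 48, 34, 154] false)) (.leaf (.rl 5 4 [17, 44, 50, 81, 123, 157, 166] [43, 43, 45, 45,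 5236, 5926, 5930, 5090, 6818] [42, 42, 44, 43, 45, 43, 95, 588, 344, 263, 5776] false)))) (.node (.node (.leaf (.rl 7 1 [10, 68, 65, 89, 88, 167] [1716] [] false)) (.leaf (.rl 5 4 [5, 26, 61, 92, 121, 154] [43, 95, 45, 45, 324, 207, 207, 5470] [94, 45, 95, 770] false))) (.leaf (.rl 4 4 [5, 40, 81, 120, 166] [160] [36, 64, 32, 30, 160, 262, 2324] false))))) (.node (.node (.node (.node (.leaf (.rl 10 1 [4, 40, 55, 104, 122, 169, 166] [436] [] false)) (.leaf (.rl 4 4 [10, 74, 64, 99, 124, 171, 166] [146] [34, 48, 64, 30, 138, 288, 288, 184, 184, 140, 4280] false))) (.node (.leaf (.rl 7 1 [22, 69, 51, 131, 143] [2484] [] false)) (.leaf (.rl 5 4 [33, 69, 63, 91, 134, 169, 166] [1818, 207, 207, 5448, 5926, 5930, 5090, 6562] [94, 42, 44, 42, 45, 4720] false)))) (.node (.node (.leaf (.rl 4 4 [3, 69, 61, 81, 131, 155, 166] [146] [64, 48, 64, 150, 204, 206, 1072] false)) (.leaf (.rl 9 1 [68, 60, 82, 118, 168, 167] [5556]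 [] false))) (.leaf (.rl 4 4 [16, 40, 63, 92, 121, 169, 166] [160] [34, 64, 32, 48, 154, 453, 2820] false)))) (.node (.node (.node (.leaf (.rl 7 1 [24, 68, 50, 98, 124, 154, 166] [948] [] false)) (.leaf (.rl 5 4 [13, 41, 64, 101, 115, 143, 167] [43, 43, 45, 45, 188, 528, 156, 453, 157, 4652] [45, 4720] false))) (.leaf (.rl 4 4 [19, 31, 66, 96, 119, 158, 167] [154, 236, 453, 157, 529, 453, 157, 157, 406] [48, 64, 30, 64, 150, 204] false))) (.node (.node (.leaf (.rl 4 4 [10, 30, 61, 104, 114, 170, 167] [146, 207, 1448] [48, 64, 36, 49, 35, 134] false)) (.leaf (.rl 7 4 [20, 42, 55, 94, 133, 143, 167] [207, 5298, 5926] [206, 206, 1230, 207, 5378, 5926] false))) (.leaf (.rl 10 1 [7, 73, 37, 113, 159] [4020] [] false))))))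

def kSrc105 : Tr Src :=
  .node (.node (.node (.node (.node (.node (.leaf (.rl 5 4 [4, 53, 96, 119, 158] [45, 84, 42, 44, 42, 45, 45, 110] [42, 44, 43, 43, 116] false)) (.leaf (.rl 5 4 [10, 72, 60, 95, 120, 152] [43, 45, 45, 43, 226, 344, 263, 3322] [42, 42, 44, 43, 45, 43, 43, 2000] false))) (.node (.leaf (.rl 4 4 [7, 29, 59, 104, 113, 151] [146] [48, 30, 64, 35, 49, 35, 134, 44, 42, 42, 45, 43, 1684] false)) (.leaf (.rl 5 4 [3, 39, 56, 119, 156, 167] [43, 95, 2606, 6218] [42, 45, 45, 43, 95, 6198] false)))) (.node (.node (.leaf (.rl 7 1 [10, 44, 53, 104, 120, 144, 166] [1140] [] false)) (.leaf (.rl 4 4 [16, 29, 67, 102, 118, 171] [35, 49, 35, 134] [32, 48, 64, 31, 35, 49, 50, 94, 44, 44, 43, 43, 45, 45, 5236] false))) (.leaf (.rl 4 4 [33, 30, 54, 102, 133, 159] [154, 528, 236, 157, 453, 529, 2676] [36, 48, 36, 160] false)))) (.node (.node (.node (.leaf (.rl 4 4 [24, 39, 103, 118, 169] [138, 288, 184, 288, 184,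 140, 289, 143, 289, 143, 564] [32, 31, 35, 49, 50] false)) (.leaf (.rl 4 4 [18, 39, 38, 104, 88, 155, 166] [160, 262, 4714] [48, 64, 32, 34, 146] false))) (.node (.leaf (.rl 9 1 [9, 43, 49, 81, 130, 156, 166] [2676] [] false)) (.leaf (.rl 5 4 [12, 42, 67, 82, 120, 155, 167] [3764, 263, 5818, 5926, 5092, 6756] [94, 44, 43, 43, 95, 218] false)))) (.node (.node (.leaf (.rl 4 4 [15, 71, 38, 80, 124, 171, 166] [146, 207, 207, 758] [64, 32, 48, 146] false)) (.leaf (.rl 5 4 [16, 39, 65, 79, 88, 154, 167] [43, 45, 43, 43, 90, 5392] [44, 94, 42, 42, 95, 5392] false))) (.leaf (.rl 10 1 [23, 68, 56, 120, 168, 167] [3700] [] false))))) (.node (.node (.node (.node (.leaf (.rl 7 1 [8, 39, 56, 81, 123, 144, 166] [372] [] false)) (.leaf (.rl 4 4 [5, 39, 53, 97, 119, 155] [146, 4348] [30, 36, 32, 150, 204] false))) (.node (.leaf (.rl 7 1 [8, 68, 59, 94, 171, 167] [2420] [] false)) (.leaf (.rl 5 4 [5, 74, 52, 80, 131, 154] [45, 43,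 43, 45, 1976, 206, 5654, 5926, 5928, 5090, 6492] [44, 94, 42, 44, 44, 43, 43, 45, 45, 95, 4556] false)))) (.node (.node (.leaf (.rl 4 4 [11, 39, 51, 103, 122, 168, 167] [146, 207, 207, 628] [30, 48, 32, 146] false)) (.leaf (.rl 5 4 [33, 30, 52, 102, 132, 156, 166] [43, 43, 45, 202, 2620] [44, 94, 45, 5196] false))) (.leaf (.rl 10 1 [15, 40, 37, 80, 124, 169, 166] [3444] [] false)))) (.node (.node (.node (.leaf (.rl 7 1 [13, 40, 61, 80, 122, 166] [884] [] false)) (.leaf (.rl 10 1 [17, 39, 55, 90, 132, 152, 166] [4980] [] false))) (.leaf (.rl 4 4 [7, 68, 53, 115, 154] [154, 452, 156, 237, 186] [32, 64, 48, 32, 154] false))) (.node (.node (.leaf (.rl 4 4 [8, 45, 57, 93, 113, 152, 167] [146] [49, 49, 60, 34, 32, 34, 31, 49, 37, 622] false)) (.leaf (.rl 5 4 [11, 74, 55, 114, 143, 167] [43, 43, 45, 45, 5236, 5926] [44, 42, 42, 44, 44, 43, 45, 43, 43, 904, 206, 206, 5576, 5926] false))) (.leaf (.rl 4 4 [23, 50, 81, 120,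 156, 166] [164, 484, 2496] [34, 48, 150, 204] false)))))) (.node (.node (.node (.node (.node (.leaf (.rl 1 4 [19, 29, 37, 98, 151, 166] [40] [10, 10, 6, 10, 6, 10, 6, 10, 10, 6, 28, 36, 32, 34, 30, 160] false)) (.leaf (.rl 16 1 [21, 43, 51, 134] [4340] [] false))) (.node (.leaf (.rl 4 4 [13, 45, 79, 131, 156, 167] [150, 204, 1354] [64, 48, 34, 30, 160] false)) (.leaf (.rl 5 4 [10, 40, 38, 92, 132, 158, 167] [43, 43, 45, 45, 188, 528, 452, 236, 157, 237, 5364, 5926, 5930, 6366] [42, 44, 44, 5194, 5350] false)))) (.node (.node (.leaf (.rl 10 1 [12, 46, 90, 124, 159] [1268] [] false)) (.leaf (.rl 5 4 [14, 74, 38, 96, 132, 158, 167] [43, 43, 45, 202, 207, 207, 5314] [94, 44, 43, 43, 45, 45, 240] false))) (.leaf (.rl 4 4 [9, 70, 50, 95, 120, 169, 167] [160, 344, 3240] [36, 30, 64, 48, 166] false)))) (.node (.node (.node (.leaf (.rl 4 4 [10, 51, 79, 119, 168, 166] [31, 65, 49, 31, 70, 48, 48, 48, 31, 31, 49, 37, 622]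 [48, 34, 64, 32, 31, 31, 49, 37, 622] false)) (.leaf (.rl 4 4 [12, 44, 52, 104, 122, 153, 166] [164, 484] [48, 48, 36, 34, 138, 142, 288, 4286, 4396] false))) (.node (.leaf (.rl 10 1 [5, 40, 58, 80, 133, 159] [2804] [] false)) (.leaf .dfn))) (.node (.node (.leaf (.rl 12 1 [12, 73, 58, 97, 123, 156, 167] [1780] [] false)) (.leaf (.rl 23 1 [6, 42, 57, 96, 113, 152, 166] [5876] [] false))) (.leaf (.rl 4 4 [4, 71, 57, 93, 133, 153, 167] [160] [48, 64, 48, 34, 31, 56, 42, 44, 44, 43, 45, 95, 770] false))))) (.node (.node (.node (.node (.leaf (.rl 4 4 [8, 43, 60, 97, 119, 156] [138, 142, 184, 184, 142, 140, 185, 185, 185, 143, 302] [48, 48, 48, 36, 166] false)) (.leaf (.rl 4 4 [3, 72, 65, 79, 123, 156, 167] [146] [64, 36, 32, 34, 164, 484, 4424] false))) (.node (.leaf (.rl 4 4 [4, 39, 65, 90, 117, 155] [150, 204] [48, 36, 31, 31, 49, 37, 622, 206, 2422] false)) (.leaf (.rl 5 4 [14, 44, 60, 94, 133, 156, 166] [45, 45,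 612, 528, 452, 157, 529, 5224, 5926, 5928, 5090, 6620] [44, 44, 43, 45, 45, 2706] false)))) (.node (.node (.leaf (.rl 7 1 [11, 29, 67, 103, 132] [1524] [] false)) (.leaf (.rl 7 1 [71, 54, 103, 114, 151] [5620] [] false))) (.leaf (.rl 4 4 [5, 44, 58, 82, 88, 156] [160] [64, 48, 64, 150, 204, 1020] false)))) (.node (.node (.node (.leaf (.rl 7 1 [24, 32, 52, 99, 112, 169] [1012] [] false)) (.leaf (.rl 12 1 [20, 45, 60, 81, 123, 151, 167] [5102] [] false))) (.leaf (.rl 4 4 [14, 46, 66, 94, 117, 158] [154] [64, 48, 30, 30, 150, 204, 207, 1188] false))) (.node (.node (.leaf (.rl 4 4 [14, 32, 60, 81, 115, 156] [146, 207, 970] [30, 32, 48, 64, 36, 146] false)) (.leaf (.rl 30 1 [23, 44, 58, 80, 121, 168, 167] [6132] [] false))) (.leaf (.rl 5 4 [33, 42, 64, 91, 113, 170, 167] [43, 43, 45, 202] [94, 44, 44, 42, 45, 45, 43, 226, 263, 345, 2352] false))))))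

def kSrc106 : Tr Src :=
  .node kSrc104 kSrc105

def kSrc107 : Tr Src :=
  .node kSrc103 kSrc106

def kSrc108 : Tr Src :=
  .node kSrc100 kSrc107

def kSrc109 : Tr Src :=
  .node (.node (.node (.node (.node (.node (.leaf .dfn) (.leaf (.rl 7 1 [8, 70, 100, 132, 156] [4108] [] false))) (.node (.leaf (.rl 4 4 [15, 26, 55, 89, 117, 154, 166] [146] [30, 64, 32, 48, 32, 154, 452, 1346] false)) (.leaf (.rl 9 4 [24, 39, 61, 92, 115, 144, 167] [2768, 6114] [6114] false)))) (.node (.node (.leaf (.rl 7 1 [11, 45, 66, 94, 158, 166] [1036] [] false)) (.leaf (.rl 4 4 [21, 40, 65, 89, 115, 159, 167] [146] [30, 64, 36, 48, 166, 194, 168, 5078] false))) (.leaf (.rl 4 4 [3, 70, 57, 93, 112, 151, 167] [154] [48, 66, 30, 32, 64, 48, 32, 154] false)))) (.node (.node (.node (.leaf (.rl 7 1 [21, 29, 67, 79, 130, 170, 167] [524] [] false)) (.leaf (.rl 4 4 [4, 45, 54, 81, 119, 144, 166] [150, 204, 4446] [30, 34, 32, 31, 31, 49, 37, 622]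 false))) (.node (.leaf (.rl 7 1 [8, 31, 62, 98, 88, 143, 166] [2572] [] false)) (.leaf (.rl 4 4 [9, 45, 54, 101, 113, 143, 167] [160, 345, 263, 5716, 5926, 5928, 5930, 5090, 5088, 6656] [48, 32, 64, 32, 30, 160] false)))) (.node (.node (.leaf (.rl 4 4 [9, 42, 59, 100, 120, 170] [146, 206, 206, 1424] [48, 48, 36, 160] false)) (.leaf (.rl 5 4 [4, 31, 67, 94, 157, 166] [43, 45, 45, 43, 226, 345, 263, 3004] [44, 43, 5362] false))) (.leaf (.rl 10 1 [13, 26, 61, 93, 152] [3596] [] false))))) (.node (.node (.node (.node (.leaf (.rl 5 1 [18, 69, 56, 80, 112, 154, 166] [268] [] false)) (.leaf (.rl 4 4 [6, 31, 53, 102, 121, 159, 167] [138, 184, 184, 184, 4286] [48, 36, 64, 48, 30, 146] false))) (.node (.leaf (.rl 4 4 [24, 30, 51, 100, 118, 155] [150, 204] [48, 48, 34, 48, 35, 49, 50, 94, 44, 44, 43, 45, 45, 476] false)) (.leaf (.rl 4 4 [11, 40, 53, 96, 121, 157, 166] [31, 31, 49, 37, 622, 5584, 5926, 5930, 5928, 5930, 6402]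 [48, 34, 64, 164, 484] false)))) (.node (.node (.leaf (.rl 9 1 [8, 46, 66, 97, 88, 158, 167] [1292] [] false)) (.leaf (.rl 5 4 [11, 65, 82, 131] [43, 43, 45, 202, 206, 2360, 206, 5372] [] false))) (.leaf (.rl 9 1 [11, 46, 90, 130, 159] [3340] [] false)))) (.node (.node (.node (.leaf (.rl 10 1 [15, 42, 53, 93, 112, 159] [780] [] false)) (.leaf (.rl 4 4 [5, 71, 58, 101, 121, 158, 166] [31, 56, 44, 94, 42, 45, 95, 4342, 4396] [64, 36, 32, 164, 484] false))) (.leaf (.rl 7 1 [18, 43, 63, 91, 117, 169, 166] [2828] [] false))) (.node (.node (.leaf (.rl 7 1 [33, 46, 59, 90, 123, 155, 166] [1804] [] false)) (.leaf (.rl 14 1 [6, 46, 58, 100, 119, 170] [5900] [] false))) (.leaf (.rl 4 4 [16, 26, 50, 104, 122, 159, 167] [160, 262, 2296] [32, 36, 31, 31, 49, 37, 622] false)))))) (.node (.node (.node (.node (.node (.leaf (.rl 4 1 [23, 32, 55, 82, 115, 151] [49, 31, 65, 35, 36, 48, 48, 30, 48, 30, 138] [138] true)) (.leaf (.rl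 5 4 [16, 28, 82, 123, 157, 167] [43, 45, 43, 43, 90, 42, 45, 95, 2934] [95, 2934] false))) (.node (.leaf (.rl 4 4 [6, 40, 56, 90, 114, 169, 167] [146, 206, 2092] [36, 32, 48, 160] false)) (.leaf (.rl 34 1 [9, 39, 37, 93, 133, 144] [6284] [] false)))) (.node (.node (.leaf (.rl 10 1 [12, 73, 66, 102, 123, 171] [1164] [] false)) (.leaf (.rl 4 4 [13, 43, 50, 103, 134, 158] [166, 208, 171, 5206] [48, 48, 48, 30, 154] false))) (.leaf (.rl 4 4 [18, 69, 53, 99, 119, 169] [154, 236, 156, 237, 453, 529, 3096] [48, 48, 64, 32, 160] false)))) (.node (.node (.node (.leaf (.rl 6 1 [28, 63, 91, 130, 156, 166] [652] [] false)) (.leaf (.rl 4 4 [12, 73, 63, 90, 115, 155, 167] [160] [48, 48, 30, 150, 204, 207, 4310] false))) (.node (.leaf (.rl 9 1 [3, 29, 52, 94, 115, 168, 167] [2700] [] false)) (.leaf (.rl 5 4 [33, 70, 59, 102, 112, 168] [43, 43, 45, 202, 207, 207, 5700, 5926, 5928, 5092, 5088, 6788] [94, 44, 44, 42, 95, 1104] false))))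 (.node (.node (.leaf (.rl 7 1 [19, 70, 55, 92, 133, 154, 167] [1676] [] false)) (.leaf (.rl 23 1 [17, 42, 54, 96, 112, 154] [5772] [] false))) (.leaf (.rl 10 1 [18, 69, 38, 97, 130, 151] [3724] [] false))))) (.node (.node (.node (.node (.leaf (.rl 4 4 [12, 29, 64, 97, 123, 155, 167] [138, 142, 184, 288, 288, 185, 143, 185, 185, 280] [34, 48, 48, 154] false)) (.leaf (.rl 4 4 [22, 74, 58, 103, 134, 144, 166] [146] [30, 36, 31, 49, 37, 622, 4348] false))) (.node (.leaf (.rl 7 1 [16, 32, 64, 82, 134, 168, 167] [2444] [] false)) (.leaf (.rl 4 4 [6, 46, 59, 91, 114, 143, 166] [160, 263, 5640, 5926, 5930, 5092, 5090, 6524] [30, 36, 31, 49, 37, 622] false)))) (.node (.node (.leaf (.rl 4 4 [33, 46, 56, 103, 117, 157, 166] [146, 206, 824] [64, 48, 32, 31, 31, 49, 37, 622] false)) (.leaf (.rl 9 1 [15, 40, 38, 97, 134, 157, 167] [5516] [] false))) (.leaf (.rl 4 4 [7, 99, 114] [160, 345, 263, 1740] [48, 30, 64, 48, 146] false))))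 (.node (.node (.node (.leaf (.rl 4 2 [4, 27, 65, 102, 123, 156, 166] [146] [64, 36, 48, 30, 35, 49, 35, 134] false)) (.leaf (.rl 5 4 [18, 71, 50, 79, 124, 170, 167] [43, 45, 45, 43, 226, 262, 3380] [42, 44, 43, 45, 95, 4342, 4396] false))) (.leaf (.rl 4 4 [8, 30, 55, 89, 114, 144] [154, 528, 453, 529, 1116] [48, 30, 32, 34, 160] false))) (.node (.node (.leaf (.rl 4 4 [7, 69, 66, 104, 133, 158] [146, 1282] [64, 34, 160] false)) (.leaf (.rl 5 4 [23, 42, 38, 93, 115, 171] [43, 5194, 5350] [45, 72, 94, 44, 44, 43, 5194, 5350] false))) (.leaf (.rl 4 4 [5, 32, 58, 90, 131, 171] [31, 35, 49, 50, 44, 94, 42, 95, 45, 45, 324] [36, 48, 64, 30, 30, 146] false))))))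

def kSrc110 : Tr Src :=
  .node (.node (.node (.node (.node (.node (.leaf (.rl 1 4 [23, 27, 64, 97, 120, 170] [28, 48, 48, 30, 48, 31, 35, 49, 50] [10, 8, 6, 10, 10, 6, 10, 40] false)) (.leaf (.rl 7 1 [9, 40, 66, 101, 113, 143] [4172] [] false))) (.node (.leaf (.rl 4 4 [11, 71, 38, 89, 122, 159] [146, 664] [36, 64, 48, 30, 154] false)) (.leaf (.rl 5 2 [18, 44, 58, 89, 132, 171, 166] [43, 45, 45, 43, 226] [44, 42, 45, 45, 43, 95, 6198] false)))) (.node (.node (.leaf (.rl 4 4 [33, 27, 50, 99, 130, 152, 166] [146, 206, 976] [48, 30, 64, 48, 34, 31, 56] false)) (.leaf (.rl 5 1 [21, 31, 51, 100, 121, 169, 166] [5196] [] false))) (.leaf (.rl 4 4 [8, 30, 61, 93, 123, 159, 167] [154] [30, 32, 34, 166, 550, 170, 208, 170, 168, 551, 2500] false)))) (.node (.node (.node (.leaf (.rl 5 1 [12, 30, 54, 101] [588] [] false)) (.leaf (.rl 4 4 [22, 70, 51, 92, 130, 154, 167] [154] [64, 34, 48, 30, 174, 520, 142, 288, 288, 184, 142,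 4286, 4396] false))) (.node (.leaf (.rl 4 2 [7, 61, 89, 119, 155, 166] [154] [34, 48, 30, 35, 49, 35, 134] false)) (.leaf (.rl 4 4 [20, 26, 56, 89, 118, 151, 166] [154, 156, 452, 157, 529, 5224, 5926, 5930, 5092, 6714] [48, 34, 64, 36, 48, 160] false)))) (.node (.node (.leaf (.rl 7 1 [33, 43, 58, 101, 131, 151] [1612] [] false)) (.leaf (.rl 10 1 [18, 43, 63, 104, 131, 151, 167] [5708] [] false))) (.leaf (.rl 4 4 [24, 69, 58, 98, 114, 153] [160] [30, 48, 36, 146, 206, 392] false))))) (.node (.node (.node (.node (.leaf (.rl 4 4 [17, 71, 38, 93, 115, 157, 166] [138, 142, 184, 288, 184, 141, 185, 143, 294] [36, 48, 48, 34, 150, 204] false)) (.leaf (.rl 4 4 [7, 45, 60, 93, 116, 155, 166] [138, 142, 184, 184, 142, 4280] [48, 48, 48, 34, 166] false))) (.node (.leaf (.rl 10 1 [24, 39, 63, 100, 119, 143] [2380] [] false)) (.leaf (.rl 4 4 [12, 73, 99, 118, 158, 166] [160, 344, 5394, 5926, 5092, 5090, 6464] [30, 48, 31, 31,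 49, 37, 622] false)))) (.node (.node (.leaf (.rl 7 1 [22, 44, 64, 103, 156, 167] [1356] [] false)) (.leaf (.rl 5 4 [19, 69, 61, 100, 133, 152, 166] [43, 43, 45, 202, 1060] [42, 42, 44, 95, 45, 5212] false))) (.leaf (.rl 10 1 [13, 70, 37, 89, 130, 167] [3404] [] false)))) (.node (.node (.node (.leaf (.rl 7 1 [12, 26, 53, 90, 130, 143] [844] [] false)) (.leaf (.rl 7 1 [20, 39, 63, 93, 123, 144, 166] [4940] [] false))) (.leaf (.rl 4 4 [3, 69, 61, 91, 119, 155, 167] [154] [64, 48, 64, 32, 30, 166, 550, 170, 208, 195, 209, 209, 1780] false))) (.node (.node (.leaf (.rl 7 1 [16, 26, 49, 91, 122, 157, 166] [1868] [] false)) (.leaf (.rl 5 4 [15, 28, 63, 103, 123, 152, 166] [45, 43, 124, 42, 45, 5196] [42, 44, 42, 45, 5196] false))) (.leaf (.rl 10 1 [10, 26, 53, 91, 120, 155] [3916] [] false)))))) (.node (.node (.node (.node (.node (.leaf (.rl 8 0 [] [204] [152, 204] true)) (.leaf (.rl 1 4 [24, 73, 49, 79, 113, 156, 166]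 [28, 64, 30, 64, 48, 174, 520, 184, 142, 4294] [10, 10, 6, 10, 10, 6, 10, 6, 10, 28] false))) (.node (.leaf (.rl 7 1 [33, 71, 56, 91, 118, 155, 166] [2252] [] false)) (.leaf (.rl 4 4 [33, 70, 57, 82, 130, 152, 166] [154, 5142, 5350, 5104, 5352, 5108, 6330] [34, 150, 204] false)))) (.node (.node (.leaf (.rl 4 4 [14, 74, 64, 99, 117, 170, 166] [146] [64, 36, 30, 48, 138, 140, 288, 184, 140, 185, 289, 185, 185, 298] false)) (.leaf (.rl 5 4 [6, 68, 37, 90, 119, 156, 166] [43, 43, 45, 202, 1428] [94, 44, 42, 45, 45, 43, 5238] false))) (.leaf (.rl 4 4 [9, 71, 63, 104, 113, 155, 167] [160, 262, 344, 262, 3214] [34, 64, 32, 30, 146] false)))) (.node (.node (.node (.leaf (.rl 4 4 [14, 31, 65, 93, 130, 155, 166] [138, 288, 184, 143, 185, 648] [30, 36, 64, 30, 150, 204] false)) (.leaf (.rl 4 4 [3, 74, 61, 104, 115, 153, 166] [160, 4548] [48, 64, 30, 30, 146] false))) (.node (.leaf (.rl 9 1 [20, 72, 65, 124, 156] [2764] []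 false)) (.leaf .dfn))) (.node (.node (.leaf (.rl 10 1 [23, 70, 67, 96, 116, 171, 166] [1740] [] false)) (.leaf (.rl 5 4 [24, 45, 53, 101, 119, 155, 166] [45, 95, 3024, 452, 237, 5264] [44, 5196] false))) (.leaf (.rl 10 1 [10, 40, 64, 80, 117, 143, 166] [3788] [] false))))) (.node (.node (.node (.node (.leaf (.rl 4 4 [69, 54, 79, 134, 153] [138, 184, 289, 143, 350] [34, 48, 64, 34, 48, 30, 160] false)) (.leaf (.rl 4 4 [27, 57, 97, 130, 159, 166] [146] [48, 64, 138, 142, 288, 4280] false))) (.node (.leaf (.rl 7 1 [4, 42, 52, 103, 116, 159, 167] [2508] [] false)) (.leaf (.rl 5 4 [3, 46, 53, 94, 88, 152, 166] [43, 43, 45, 202, 206, 206, 5684, 5926, 5930, 5928, 5090, 5088, 6586] [42, 44, 44, 1818] false)))) (.node (.node (.leaf (.rl 7 1 [20, 68, 59, 96, 122, 154] [1484] [] false)) (.leaf (.rl 5 4 [6, 72, 37, 92, 130, 144] [43, 45, 43, 3148] [44, 44, 42, 42, 44, 43, 43, 45, 43, 43, 658, 207, 5344] false))) (.leaf (.rl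 10 1 [3, 31, 60, 101, 131, 144] [3532] [] false)))) (.node (.node (.node (.leaf (.rl 7 1 [24, 42, 65, 101, 124, 170, 167] [972] [] false)) (.leaf (.rl 5 4 [20, 26, 62, 97, 117, 151, 167] [43, 43, 95, 45, 1426, 206, 5016] [94, 42, 44, 44, 43, 45, 45, 95, 4556] false))) (.leaf (.rl 4 4 [16, 43, 55, 93, 122, 171, 167] [154] [64, 34, 48, 30, 35, 49, 35, 134, 44, 43, 45, 43, 130] false))) (.node (.node (.leaf (.rl 4 4 [21, 73, 59, 92, 117, 156] [146, 207, 207, 642] [34, 64, 31, 56] false)) (.leaf (.rl 25 1 [8, 46, 56, 80, 120, 168, 167] [5119, 5272, 5118, 5114, 6086] [6086] true))) (.leaf (.rl 4 4 [8, 42, 60, 95, 122, 153, 166] [31, 31, 49, 37, 622] [30, 48, 64, 48, 154, 452, 428] false))))))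

def kSrc111 : Tr Src :=
  .node kSrc109 kSrc110

def kSrc112 : Tr Src :=
  .node (.node (.node (.node (.node (.node (.leaf (.rl 1 1 [22, 26] [40] [] false)) (.leaf (.rl 5 4 [15, 45, 55, 80, 123, 143] [43, 43, 45, 202, 207, 207, 1374] [2966] false))) (.node (.leaf (.rl 4 4 [33, 27, 54, 103, 119, 171, 166] [146, 207, 942] [64, 30, 64, 30, 48, 160] false)) (.leaf (.rl 21 1 [33, 42, 61, 102, 122, 170] [5081, 5188, 6186] [6186] true)))) (.node (.node (.leaf (.rl 10 1 [14, 55, 82, 122, 151] [1068] [] false)) (.leaf (.rl 4 4 [24, 70, 67, 97, 117, 153, 166] [160, 263, 345, 5162] [64, 30, 48, 64, 34, 160] false))) (.leaf (.rl 10 1 [12, 58, 91, 132, 156, 167] [3116] [] false)))) (.node (.node (.node (.leaf (.rl 4 4 [5, 30, 61, 98, 116, 155] [138, 140, 288, 143, 185, 185, 143, 402] [64, 48, 34, 34, 166] false)) (.leaf (.rl 4 4 [23, 44, 99, 114, 168, 166] [150, 204] [64, 30, 48, 36, 146, 4534] false))) (.node (.leaf (.rl 7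 1 [15, 30, 67, 101, 116, 151] [2604] [] false)) (.leaf (.rl 4 4 [10, 62, 91, 123, 154, 166] [31, 31, 49, 37, 622, 206, 5662, 5926, 5930, 5928, 6686] [64, 30, 48, 36, 34, 160] false)))) (.node (.node (.leaf (.rl 4 4 [4, 74, 54, 82, 88, 157, 166] [146] [64, 36, 32, 146, 207, 207, 584] false)) (.leaf (.rl 23 1 [9, 30, 56, 91, 119, 156, 166] [5676] [] false))) (.leaf (.rl 10 1 [14, 28, 61, 94, 88, 170, 166] [3628] [] false))))) (.node (.node (.node (.node (.leaf (.rl 4 2 [21, 29, 54, 91, 118, 168, 167] [138] [36, 32, 48, 146] false)) (.leaf (.rl 16 0 [] [4396] [4344, 4396] false))) (.node (.leaf (.rl 10 1 [22, 28, 62, 101, 113, 171, 167] [2348] [] false)) (.leaf (.rl 4 4 [5, 44, 64, 102, 117, 151, 167] [160, 262, 344, 263, 345, 5712, 5926, 5930, 5090, 5088, 6434] [64, 36, 48, 64, 146] false)))) (.node (.node (.leaf (.rl 7 1 [7, 68, 57, 103, 116, 143] [1324] [] false)) (.leaf (.rl 5 4 [7, 69, 64, 100, 114, 156, 167]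 [43, 43, 45, 202, 207, 2040] [42, 95, 45, 5212] false))) (.leaf (.rl 4 4 [6, 72, 51, 82, 117, 152, 166] [160] [48, 36, 31, 35, 49, 50, 95, 770] false)))) (.node (.node (.node (.leaf (.rl 4 4 [20, 29, 56, 102, 114, 167] [31, 65, 49, 31, 70, 32, 48, 166] [30, 30, 166] false)) (.leaf (.rl 5 4 [4, 72, 51, 100, 119, 155] [43, 43, 45, 202, 207, 207, 4598] [94, 44, 42, 45, 45, 95, 438] false))) (.leaf (.rl 10 1 [13, 40, 53, 98, 88, 156] [2860] [] false))) (.node (.node (.leaf (.rl 7 1 [20, 39, 67, 93, 116, 155, 167] [1836] [] false)) (.leaf (.rl 23 1 [6, 32, 54, 103, 168] [5752, 5926] [5926] false))) (.leaf (.rl 7 1 [7, 43, 37, 94, 116, 144, 167] [3884] [] false)))))) (.node (.node (.node (.node (.node (.leaf .dfn) (.leaf (.rl 5 4 [4, 27, 53, 90, 130, 155] [45, 43, 43, 45, 45, 256] [44, 94, 42, 44, 44, 43, 45, 45, 188, 3626] false))) (.node (.leaf (.rl 4 4 [22, 28, 37, 103, 122, 158] [146] [30, 64, 48, 31, 65, 49, 31,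 70, 34, 48, 48, 36, 164, 484] false)) (.leaf (.rl 4 4 [22, 70, 66, 90, 122, 171] [154, 237, 529, 5564, 5108, 5106, 6308] [36, 30, 34, 30, 164, 484] false)))) (.node (.node (.leaf (.rl 7 1 [14, 27, 63, 104, 132, 153, 166] [1196] [] false)) (.leaf (.rl 28 1 [24, 42, 53, 98, 114, 154] [5292] [] false))) (.leaf (.rl 10 1 [22, 69, 58, 81, 118, 143] [3244] [] false)))) (.node (.node (.node (.leaf (.rl 7 1 [16, 70, 67, 81, 113, 156] [684] [] false)) (.leaf (.rl 4 4 [9, 45, 37, 100, 117, 159, 166] [160] [34, 64, 36, 30, 150, 204, 4438] false))) (.node (.leaf (.rl 4 4 [6, 32, 65, 104, 117, 151, 167] [154, 528, 452, 156, 529, 2398] [64, 32, 36, 48, 146] false)) (.leaf (.rl 4 4 [33, 72, 64, 95, 112, 154, 167] [164, 484, 206, 5308, 5926, 5928, 5930, 5090, 5088, 6810] [30, 48, 64, 48, 34, 154] false)))) (.node (.node (.leaf (.rl 7 1 [13, 42, 56, 101, 131, 158, 166] [1708] [] false)) (.leaf (.rl 14 1 [8, 45, 60, 97, 130, 168]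 [5804] [] false))) (.leaf (.rl 4 4 [23, 46, 62, 96, 131, 171] [160, 3456] [32, 64, 48, 35, 49, 35, 134] false))))) (.node (.node (.node (.node (.leaf (.rl 4 4 [4, 70, 38, 92, 130, 156, 166] [138, 184, 288, 288, 184, 140, 185, 289, 185, 185, 298] [48, 48, 36, 174] false)) (.leaf (.rl 4 4 [13, 72, 54, 95, 118, 143, 167] [146, 4368, 4396] [48, 64, 34, 48, 160] false))) (.node (.leaf (.rl 7 1 [8, 74, 54, 82, 115, 156, 167] [2476] [] false)) (.leaf (.rl 4 4 [9, 44, 51, 93, 131, 168] [160, 344, 262, 345, 5420, 5926, 5930, 5092, 5088, 6556] [34, 48, 64, 34, 34, 160] false)))) (.node (.node (.leaf (.rl 6 1 [12, 71, 53, 91, 88, 167] [1452] [] false)) (.leaf (.rl 5 4 [17, 32, 100, 123, 154] [43, 45, 43, 3148, 452, 156, 1346] [94, 44, 44, 43, 43, 45, 45, 5236] false))) (.leaf (.rl 10 1 [18, 26, 62, 79, 134, 159] [3500] [] false)))) (.node (.node (.node (.leaf (.rl 7 1 [9, 39, 49, 104, 132, 144, 166] [940] [] false)) (.leaf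 (.rl 5 4 [12, 32, 66, 96, 132, 156] [43, 45, 45, 43, 43, 45, 3760, 206, 4620] [42, 45, 45, 3984] false))) (.leaf (.rl 4 4 [10, 42, 38, 79, 124, 171, 167] [154, 529, 1314] [30, 32, 34, 160] false))) (.node (.node (.leaf (.rl 9 1 [3, 45, 63, 80, 112, 168, 166] [1964] [] false)) (.leaf (.rl 5 4 [15, 45, 62, 81, 123, 155, 167] [95, 5282] [42, 42, 45, 45, 110, 44, 44, 42, 95, 5282] false))) (.leaf (.rl 7 1 [9, 43, 66, 81, 120, 151] [4012] [] false))))))

def kSrc113 : Tr Src :=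
  .node (.node (.node (.node (.node (.node (.leaf (.rl 5 4 [8, 68, 59, 104, 120, 157, 167] [43, 45, 43, 43, 80, 94, 44, 44, 42, 45, 45, 74] [44, 94, 45, 45, 74] false)) (.leaf (.rl 5 4 [20, 40, 53, 92, 132, 159, 166] [43, 45, 45, 43, 226] [42, 42, 44, 44, 3764, 344, 262, 3328] false))) (.node (.leaf (.rl 4 4 [9, 46, 58, 93, 131, 152] [146] [48, 64, 36, 34, 146, 1688] false)) (.leaf (.rl 5 4 [11, 31, 53, 81, 123, 167] [45, 43, 43, 45, 246, 6222] [94, 43, 95, 6198] false)))) (.node (.node (.leaf (.rl 7 1 [33, 41, 64, 99, 115, 144, 167] [1132] [] false)) (.leaf (.rl 4 4 [13, 31, 124, 170, 167] [35, 49, 35, 134, 42, 44, 44, 42, 45, 5196] [64, 30, 48, 34, 166] false))) (.leaf (.rl 4 4 [15, 71, 61, 93, 133, 158, 166] [154, 156, 452, 157, 529, 3162] [34, 34, 49, 37, 622] false)))) (.node (.node (.node (.leaf (.rl 7 1 [33, 28, 66, 79, 131, 168, 166] [620] [] false)) (.leaf (.rl 4 4 [11, 43, 58, 80, 118, 152, 167] [160,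 4544] [64, 34, 48, 30, 35, 49, 35, 134] false))) (.node (.leaf (.rl 9 1 [74, 51, 80, 119, 158] [2668] [] false)) (.leaf (.rl 4 4 [3, 41, 62, 93, 117, 157, 167] [160, 5640, 5926, 5930, 5092, 5090, 6750] [30, 64, 32, 36, 160] false)))) (.node (.node (.leaf (.rl 4 4 [12, 70, 58, 92, 113, 143, 166] [146] [36, 48, 48, 48, 154, 237, 830] false)) (.leaf (.rl 23 1 [16, 42, 38, 96, 112, 154] [5740] [] false))) (.leaf (.rl 4 4 [21, 68, 53, 101, 130, 171, 167] [160] [64, 34, 32, 146, 206, 2924] false))))) (.node (.node (.node (.node (.leaf (.rl 4 4 [9, 74, 50, 91, 124, 158, 167] [138, 184, 142, 184, 288, 140, 289, 143, 289, 143, 350] [48, 48, 48, 32, 36, 146] false)) (.leaf (.rl 4 4 [16, 39, 61, 98, 115, 159, 167] [146, 4332, 4396] [48, 48, 32, 36, 48, 160] false))) (.node (.leaf (.rl 7 1 [15, 41, 55, 101, 115, 159, 166] [2412] [] false)) (.leaf (.rl 4 4 [19, 30, 64, 96, 119, 170, 167] [31, 35, 49, 50, 44, 44, 94, 43, 45,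 45, 5458, 5926, 5930, 5928, 5088, 6490] [48, 64, 32, 36, 34, 160] false)))) (.node (.node (.leaf (.rl 4 4 [13, 72, 61, 91, 132, 166] [146, 207, 207, 1040] [36, 64, 30, 30, 164, 484] false)) (.leaf (.rl 7 1 [13, 39, 37, 95, 115, 169, 166] [5484] [] false))) (.leaf (.rl 10 1 [3, 71, 63, 93, 134, 170, 166] [3436] [] false)))) (.node (.node (.node (.leaf (.rl 7 1 [16, 26, 38, 81, 113, 151, 166] [876] [] false)) (.leaf (.rl 17 1 [14, 42, 65, 91, 88] [4972] [] false))) (.leaf (.rl 4 4 [21, 73, 93, 123, 171, 166] [154, 156, 452, 157, 998] [48, 48, 48, 166] false))) (.node (.node (.leaf (.rl 4 4 [5, 39, 53, 99, 133, 171] [146] [64, 32, 48, 166, 208, 170, 208, 170, 168, 209, 171, 551, 195, 560] false)) (.leaf (.rl 5 4 [7, 72, 55, 89, 133, 158] [43, 43, 45, 45, 5236, 5926] [94, 43, 43, 736, 5216, 5926] false))) (.leaf (.rl 4 4 [12, 30, 58, 80, 130, 156, 167] [164, 484, 1326] [32, 64, 32, 34, 146] false)))))) (.node (.node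 (.node (.node (.node (.leaf (.rl 1 4 [23, 44, 98, 157] [40, 212] [8, 6, 10, 8, 6, 10, 10, 10, 8, 6, 10, 40] false)) (.leaf (.rl 4 4 [11, 28, 62, 104, 121, 154] [138, 288, 288, 184, 184, 140, 4280] [32, 64, 30, 30, 154] false))) (.node (.leaf (.rl 4 4 [24, 41, 95, 131, 154] [150, 204] [36, 64, 34, 34, 160, 263, 1994] false)) (.leaf (.rl 4 4 [9, 32, 63, 101, 88, 159, 167] [150, 204, 206, 206, 5322, 5926, 5928, 6364] [64, 48, 32, 34, 64, 160] false)))) (.node (.node (.leaf (.rl 7 1 [5, 46, 53, 97, 121, 143, 167] [1260] [] false)) (.leaf (.rl 5 4 [17, 41, 53, 90, 122, 154] [43, 43, 45, 202, 207, 207, 2444] [44, 42, 42, 44, 43, 95, 45, 5212] false))) (.leaf (.rl 4 4 [40, 50, 80, 124, 158, 166] [160, 3144] [34, 64, 30, 30, 146] false)))) (.node (.node (.node (.leaf (.rl 4 4 [33, 31, 65, 97, 130, 159, 166] [31, 65, 49, 31, 70, 64, 48, 64, 30, 30, 30, 146] [30, 64, 32, 48, 32, 146] false)) (.leaf (.rl 4 4 [18, 72, 57, 98,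 120, 171] [164, 484] [174, 520, 184, 4280] false))) (.node (.leaf (.rl 4 4 [4, 74, 54, 92, 124, 169, 166] [154] [64, 48, 32, 36, 35, 49, 35, 134, 42, 42, 44, 43, 43, 45, 43, 43, 658] false)) (.leaf (.rl 4 4 [3, 53, 96, 133, 153, 166] [138, 288, 184, 140, 288, 4286, 4396, 4398, 4400, 4398, 6892] [30, 64, 48, 36, 166] false)))) (.node (.node (.leaf (.rl 7 1 [4, 41, 38, 90, 117, 153, 167] [1772] [] false)) (.leaf (.rl 23 1 [14, 42, 54, 93, 124, 155, 166] [5868] [] false))) (.leaf (.rl 4 4 [42, 66, 92, 132, 151] [160] [64, 34, 48, 150, 204, 206, 778] false))))) (.node (.node (.node (.node (.leaf (.rl 4 4 [3, 31, 52, 92, 88, 171, 167] [138, 142, 184, 141, 143, 185, 185, 143, 402] [48, 30, 32, 34, 160] false)) (.leaf (.rl 4 4 [17, 41, 50, 102, 114] [146, 4420] [64, 32, 36, 150, 204] false))) (.node (.leaf (.rl 4 4 [4, 57, 95, 118, 169, 167] [150, 204] [48, 48, 36, 48, 154, 528, 156, 452, 157, 237, 1030] false)) (.leaf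 (.rl 5 4 [4, 27, 55, 102, 123, 151, 167] [43, 43, 45, 202, 207, 5700, 5926, 5930, 5928, 5088, 6624] [45, 45, 43, 95, 3686] false)))) (.node (.node (.leaf (.rl 4 4 [20, 26, 52, 81, 134, 153, 167] [146] [64, 48, 64, 34, 138, 142, 288, 288, 142, 185, 185, 185, 143, 302] false)) (.leaf (.rl 23 1 [12, 32, 66, 92, 118, 151] [5612] [] false))) (.leaf (.rl 4 4 [17, 28, 54, 100, 117, 151, 167] [160, 262, 344, 262, 345, 263, 3432] [48, 34, 48, 48, 36, 160] false)))) (.node (.node (.node (.leaf (.rl 7 1 [3, 27, 37, 95, 116, 154] [1004] [] false)) (.leaf .dfn)) (.leaf (.rl 7 1 [20, 70, 64, 79, 133, 144, 166] [3052] [] false))) (.node (.node (.leaf (.rl 4 4 [19, 69, 60, 99, 124, 158, 167] [146] [36, 48, 30, 35, 49, 35, 134, 42, 44, 43, 43, 45, 43, 95, 588] false)) (.leaf (.rl 10 1 [10, 70, 95, 134, 143, 166] [262, 6124] [6124] false))) (.leaf (.rl 7 1 [7, 67, 94, 115, 168, 167] [4076] [] false))))))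

def kSrc114 : Tr Src :=
  .node kSrc112 kSrc113

def kSrc115 : Tr Src :=
  .node kSrc111 kSrc114

def kSrc116 : Tr Src :=
  .node (.node (.node (.node (.node (.node (.leaf (.rl 1 1 [21, 26] [11, 7, 9, 7, 11, 7, 11, 11, 7, 9, 10, 10, 8, 6, 10, 10, 10, 6, 10, 6, 10, 8, 28] [28] true)) (.leaf (.rl 5 4 [15, 71, 60, 93, 114, 143, 166] [43, 43, 45, 202] [43, 124, 94, 42, 44, 42, 45, 43, 43, 45, 246] false))) (.node (.leaf (.rl 4 4 [3, 69, 57, 90, 116, 157, 166] [146] [34, 32, 36, 30, 150, 204, 2008] false)) (.leaf (.rl 21 1 [20, 45, 60, 81, 123, 151, 167] [6168] [] false)))) (.node (.node (.leaf (.rl 10 1 [3, 71, 64, 98, 114, 158] [1052] [] false)) (.leaf (.rl 4 4 [6, 71, 54, 104, 119, 159] [154, 156, 5148] [48, 64, 30, 30, 146] false))) (.leaf (.rl 7 1 [18, 40, 62, 80, 117, 171] [3100] [] false)))) (.node (.node (.node (.leaf (.rl 4 4 [24, 41, 63, 101, 122, 153, 167] [138, 184, 142, 288, 142, 288, 141, 185, 185, 185,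 143, 506] [34, 64, 48, 30, 34, 160] false)) (.leaf (.rl 4 4 [23, 32, 61, 81, 130, 171] [150, 204] [34, 64, 48, 34, 166, 208, 550, 171, 209, 209, 4360, 4396] false))) (.node (.leaf (.rl 7 1 [20, 46, 67, 103, 118, 169, 166] [2588] [] false)) (.leaf .dfn))) (.node (.node (.leaf (.rl 7 1 [24, 70, 51, 91, 155] [1564] [] false)) (.leaf (.rl 23 1 [17, 71, 62, 95, 134, 144] [5660] [] false))) (.leaf (.rl 7 1 [11, 63, 101, 124, 158] [3612] [] false))))) (.node (.node (.node (.node (.leaf (.rl 6 1 [10, 73, 89, 133, 144, 167] [284] [] false)) (.leaf (.rl 16 1 [24, 46, 52, 79, 124, 158, 166] [4380] [] false))) (.node (.leaf (.rl 4 4 [7, 43, 50, 93, 117, 143] [150, 204] [64, 30, 64, 31, 49, 37, 622, 206, 1600] false)) (.leaf .dfn))) (.node (.node (.leaf (.rl 7 1 [3, 68, 66, 89, 130, 170, 167] [1308] [] false)) (.leaf (.rl 5 4 [16, 66, 91, 170] [43, 43, 45, 202, 1568, 207, 207, 5314] [94, 42, 42, 45, 43, 5362] true))) (.leaf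 (.rl 10 1 [10, 26, 64, 99, 130, 153] [3356] [] false)))) (.node (.node (.node (.leaf (.rl 4 4 [10, 39, 65, 89, 88, 154] [31, 65, 49, 31, 70, 48, 30, 32, 64, 160] [34, 34, 31, 49, 37, 622] false)) (.leaf (.rl 5 4 [13, 68, 65, 99, 134, 158, 167] [43, 43, 45, 202] [94, 43, 904, 206, 4472] false))) (.leaf (.rl 4 4 [16, 28, 82, 112, 156] [154] [36, 32, 64, 34, 146, 207, 1582] false))) (.node (.node (.leaf (.rl 10 1 [10, 32, 66, 99, 130, 155, 167] [1820] [] false)) (.leaf (.rl 5 4 [7, 41, 56, 104, 131, 168] [45, 43, 124, 612] [44, 42, 42, 44, 44, 95, 45, 5212] false))) (.leaf (.rl 4 4 [23, 73, 50, 90, 123, 170, 167] [160] [36, 32, 48, 48, 31, 31, 49, 37, 622, 206, 206, 1868] false)))))) (.node (.node (.node (.node (.node (.leaf (.rl 4 1 [24, 32, 55, 82, 115, 151] [154] [] false)) (.leaf (.rl 5 4 [16, 31, 101, 113, 155] [43, 45, 45, 43, 43, 45, 3760] [94, 45, 95, 128, 94, 44, 44, 43, 45, 45, 43, 43, 45, 3760] false)))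 (.node (.leaf (.rl 4 4 [70, 66, 96, 154] [146] [48, 48, 146, 1198] false)) (.leaf .dfn))) (.node (.node (.leaf (.rl 4 4 [5, 67, 97, 117, 154] [146] [48, 64, 48, 166, 208, 208, 208, 170, 168, 209, 171, 551, 195, 560] false)) (.leaf (.rl 24 1 [9, 46, 59, 90, 114, 159] [5276] [] false))) (.leaf (.rl 10 1 [15, 30, 49, 90, 159, 166] [3228] [] false)))) (.node (.node (.node (.leaf (.rl 4 4 [18, 45, 67, 120, 168, 167] [138, 288, 184, 288, 140, 289, 143, 289, 143, 564] [34, 64, 36, 150, 204] false)) (.leaf (.rl 4 4 [19, 39, 64, 104, 117, 153] [160] [48, 30, 30, 150, 204, 206, 4328] false))) (.node (.leaf (.rl 4 4 [19, 45, 58, 93, 113, 166] [154, 528, 452, 157, 453, 2066] [64, 32, 48, 64, 160] false)) (.leaf .dfn))) (.node (.node (.leaf (.rl 7 1 [33, 26, 59, 99, 158] [1692] [] false)) (.leaf (.rl 5 4 [15, 41, 66, 95, 119, 153, 167] [43, 95, 45, 45, 324, 4854] [42, 42, 44, 44, 43, 43, 45, 45, 5236] false))) (.leaf (.rl 4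 4 [16, 31, 64, 102, 134, 157] [160] [36, 48, 48, 34, 138, 142, 184, 142, 184, 141, 143, 185, 185, 143, 290] false))))) (.node (.node (.node (.node (.leaf (.rl 4 4 [4, 41, 60, 93, 131, 167] [138, 142, 140, 288, 288, 140, 185, 185, 185, 143, 302] [64, 36, 154] false)) (.leaf (.rl 4 4 [10, 45, 50, 98, 124, 169, 167] [146, 207, 4424] [64, 36, 30, 48, 64, 160] false))) (.node (.leaf (.rl 4 4 [23, 73, 49, 92, 117, 158, 167] [150, 204] [36, 48, 36, 30, 146, 207, 207, 2342] false)) (.leaf .dfn))) (.node (.node (.leaf (.rl 7 1 [21, 45, 65, 101, 124, 151, 166] [1436] [] false)) (.leaf (.rl 5 4 [8, 46, 49, 92, 132, 154] [43, 45, 43, 3148, 528, 237, 529, 2486] [44, 44, 43, 43, 45, 45, 5458] false))) (.leaf (.rl 4 4 [33, 69, 38, 91, 112, 169, 167] [160, 3446] [48, 34, 160] false)))) (.node (.node (.node (.leaf (.rl 7 1 [4, 30, 64, 101, 88, 158, 166] [924] [] false)) (.leaf (.rl 5 4 [24, 43, 60, 104, 121, 157, 166] [43, 95, 45,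 45, 324, 206, 4428] [4556] false))) (.leaf (.rl 4 4 [10, 44, 64, 97, 131, 158] [154, 236, 156, 237, 428] [36, 34, 64, 30, 160] false))) (.node (.node (.leaf (.rl 4 4 [12, 26, 53, 93, 113, 171, 167] [146] [64, 48, 48, 48, 146, 1524] false)) (.leaf (.rl 5 4 [21, 31, 52, 94, 113, 159] [43, 43, 45, 45, 178, 262, 344, 263, 5354] [42, 45, 5196] false))) (.leaf (.rl 10 1 [7, 74, 49, 93, 121, 166] [3996] [] false))))))

def kSrc117 : Tr Src :=
  .node (.node (.node (.node (.node (.node (.leaf (.rl 4 2 [18, 44, 58, 89, 132, 171, 166] [31, 65, 49, 31, 70, 48, 30, 64, 31, 56] [36, 64, 30, 56] true)) (.leaf (.rl 10 1 [33, 42, 61, 100, 158, 166] [4188] [] false))) (.node (.leaf (.rl 4 4 [4, 72, 66, 92, 114, 155] [146, 206, 1864] [36, 32, 64, 30, 30, 160] false)) (.leaf (.rl 5 4 [23, 30, 62, 93, 112, 152] [45, 95, 3024, 452, 236, 5148, 5350] [94, 42, 45, 43, 95, 6198] false)))) (.node (.node (.leaf (.rl 9 1 [12, 42, 60, 91, 112,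 151] [1116] [] false)) (.leaf (.rl 4 4 [8, 30, 62, 102, 122, 153, 166] [35, 49, 35, 134, 42, 44, 42, 95, 45, 5212] [48, 32, 48, 48, 34, 146] false))) (.leaf (.rl 4 4 [17, 74, 65, 100, 120, 169] [154, 452, 156, 237, 529, 3108] [30, 48, 31, 49, 37, 622] false)))) (.node (.node (.node (.leaf (.rl 4 4 [9, 27, 58, 82, 115, 152, 166] [138, 184, 184, 184, 288, 141, 185, 185, 185, 143, 506] [36, 49, 35, 134] false)) (.leaf (.rl 4 4 [13, 44, 50, 96, 132, 155] [154, 157, 4436] [30, 64, 48, 30, 34, 160] false))) (.node (.leaf (.rl 9 1 [3, 41, 53, 90, 154] [2652] [] false)) (.leaf .dfn))) (.node (.node (.leaf (.rl 7 1 [5, 28, 64, 103, 113, 143, 166] [1628] [] false)) (.leaf (.rl 5 4 [7, 30, 49, 93, 88, 157, 167] [45, 43, 43, 45, 45, 122, 94, 42, 44, 44, 43, 45, 5196] [94, 44, 95, 5392] false))) (.leaf (.rl 10 1 [14, 42, 90, 112, 166] [3676] [] false))))) (.node (.node (.node (.node (.leaf (.rl 4 4 [20, 27, 58, 101, 121, 153,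 167] [138] [48, 48, 36, 154, 236, 156, 346] false)) (.leaf (.rl 4 4 [21, 26, 37, 81, 134, 155] [146] [32, 34, 138, 142, 184, 142, 140, 4280] false))) (.node (.leaf (.rl 7 1 [8, 64, 94, 133, 156, 167] [2396] [] false)) (.leaf .dfn))) (.node (.node (.leaf (.rl 4 4 [23, 39, 58, 97, 133, 157, 166] [146] [64, 48, 36, 174, 520, 184, 288, 288, 184, 140, 289, 143, 289, 143, 350] false)) (.leaf (.rl 23 1 [11, 45, 53, 100, 122] [5468] [] false))) (.leaf (.rl 9 1 [16, 40, 65, 96, 122, 170] [3420] [] false)))) (.node (.node (.node (.leaf (.rl 4 2 [5, 40, 67, 95, 114, 152, 166] [146] [64, 36, 30, 150, 204] false)) (.leaf (.rl 5 4 [5, 43, 58, 102, 120, 156] [43, 45, 43, 3148] [42, 42, 44, 42, 45, 43, 43, 2000, 4592] false))) (.leaf (.rl 7 1 [19, 30, 58, 89, 116, 170] [2908] [] false))) (.node (.node (.leaf (.rl 7 1 [19, 70, 81, 119, 168] [1884] [] false)) (.leaf (.rl 5 4 [22, 44, 63, 91, 113, 158, 167] [43, 43, 45, 43, 95, 588,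 4704] [94, 42, 44, 43, 45, 5196] false))) (.leaf (.rl 4 4 [21, 39, 66, 101, 122, 155] [164, 484] [64, 36, 30, 154, 156, 452, 157, 3924] false)))))) (.node (.node (.node (.node (.node (.leaf (.rl 6 1 [10, 45, 62, 100, 112, 156, 167] [220] [] false)) (.leaf (.rl 17 1 [9, 42, 65, 102, 124, 143] [4316] [] false))) (.node (.leaf (.rl 7 1 [8, 26, 58, 92, 132, 158] [2268] [] false)) (.leaf .dfn))) (.node (.node (.leaf (.rl 4 4 [21, 73, 49, 115, 151] [146] [64, 32, 36, 30, 138, 184, 288, 288, 184, 141, 185, 289, 185, 143, 680] false)) (.leaf (.rl 21 1 [5, 38, 91, 133, 143, 167] [5340] [] false))) (.leaf (.rl 4 4 [13, 27, 37, 82, 134, 143, 166] [160] [48, 32, 36, 166, 208, 195, 551, 209, 169, 195, 516] false)))) (.node (.node (.node (.leaf (.rl 4 4 [17, 73, 50, 98, 144, 167] [138, 288, 184, 184, 184, 289, 289, 143, 652] [48, 64, 48, 36, 49, 35, 134] false)) (.leaf (.rl 4 4 [7, 70, 37, 82, 124, 144, 167] [164, 484, 207, 207,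 4578] [48, 64, 30, 48, 36, 146] false))) (.node (.leaf (.rl 9 1 [11, 29, 50, 119, 169] [2780] [] false)) (.leaf (.rl 4 4 [7, 44, 97, 88, 144, 166] [138, 140, 288, 4286, 4396, 4400, 4398, 4338, 6874] [36, 64, 30, 30, 35, 49, 35, 134] false)))) (.node (.node (.leaf (.rl 7 1 [20, 31, 37, 97, 133, 156, 166] [1756] [] false)) (.leaf (.rl 21 1 [5, 72, 38, 81, 115, 171, 166] [5852] [] false))) (.leaf (.rl 7 1 [7, 73, 104, 131, 151] [3804] [] false))))) (.node (.node (.node (.node (.leaf (.rl 4 4 [10, 39, 57, 93, 133, 169] [138, 288, 185, 185, 185, 143, 284] [48, 48, 32, 36, 48, 160] false)) (.leaf (.rl 4 4 [4, 29, 56, 97, 131, 152] [146, 4480] [36, 34, 48, 30, 164, 484] false))) (.node (.leaf (.rl 7 1 [10, 45, 37, 97, 134, 154, 167] [2524] [] false)) (.leaf .dfn))) (.node (.node (.leaf (.rl 7 1 [11, 44, 57, 93, 122, 156, 166] [1500] [] false)) (.leaf (.rl 9 1 [6, 73, 38, 97, 117, 168] [5596] [] false))) (.leaf (.rl 7 1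 [4, 73, 61, 95, 112, 158] [3548] [] false)))) (.node (.node (.node (.leaf (.rl 4 4 [13, 44, 50, 90, 117, 169, 166] [146] [32, 48, 30, 35, 49, 35, 134, 42, 44, 44, 43, 45, 45, 476] false)) (.leaf .dfn)) (.leaf (.rl 4 4 [16, 39, 52, 88, 169] [154, 528, 237, 1438] [36, 48, 36, 164, 484] false))) (.node (.node (.leaf (.rl 4 4 [33, 42, 63, 98, 88, 158] [146] [32, 36, 48, 64, 30, 146, 1868] false)) (.leaf (.rl 25 1 [15, 30, 67, 104, 117, 156] [6098] [] false))) (.leaf (.rl 4 4 [5, 32, 51, 104, 130, 157, 167] [31, 31, 49, 37, 622, 207, 207, 1956] [64, 32, 48, 30, 146] false))))))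

def kSrc118 : Tr Src :=
  .node kSrc116 kSrc117

def kSrc119 : Tr Src :=
  .node (.node (.node (.node (.node (.node (.leaf (.rl 1 2 [11, 45, 64, 104, 124, 171, 166] [28] [10, 8, 6, 10, 10, 10, 8, 28] false)) (.leaf (.rl 5 4 [8, 45, 53, 101, 124, 166] [43, 43, 45, 202] [44, 94, 42, 44, 43, 43, 45, 45, 43, 2160, 206, 3036] false))) (.node (.leaf (.rl 4 4 [3, 72, 65, 79, 118, 158, 167] [146] [34, 64, 30, 48, 64, 146, 1444] false)) (.leaf (.rl 9 1 [23, 42, 38, 91, 112, 158] [236, 453, 6202] [453, 6202] false)))) (.node (.node (.leaf (.rl 7 1 [20, 42, 52, 99, 131, 168, 166] [1084] [] false)) (.leaf (.rl 28 1 [24, 41, 56, 95, 132, 158, 167] [5180] [] false))) (.leaf (.rl 7 1 [10, 74, 53, 123, 167] [3132] [] false)))) (.node (.node (.node (.leaf (.rl 4 4 [22, 41, 61, 98, 167] [138, 288, 288, 142, 288, 141, 185, 185, 185, 143, 506] [48, 48, 64, 32, 164, 484] false)) (.leaf (.rl 4 4 [8, 39, 59, 82, 132, 170, 167] [154]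 [36, 48, 48, 30, 138, 142, 140, 4286, 4396] false))) (.node (.leaf (.rl 7 1 [10, 71, 53, 98, 116, 167] [2620] [] false)) (.leaf .dfn))) (.node (.node (.leaf (.rl 7 1 [7, 72, 51, 99, 88, 158, 166] [1596] [] false)) (.leaf (.rl 5 4 [14, 28, 56, 80, 131, 155, 167] [43, 45, 45, 43, 226] [43, 43, 95, 45, 1426, 5220] false))) (.leaf (.rl 4 4 [8, 68, 38, 79, 117, 155, 167] [160] [64, 30, 30, 154, 2894] false))))) (.node (.node (.node (.node (.leaf (.rl 4 4 [20, 63, 96, 131, 143] [138, 184, 184, 184, 142, 140, 185, 289, 185, 185, 298] [48, 34, 48, 34, 146] false)) (.leaf (.rl 4 4 [17, 71, 56, 96, 112, 154, 166] [138, 184, 288, 184, 142, 4286, 4396] [30, 32, 64, 48, 34, 160] false))) (.node (.leaf (.rl 10 1 [24, 32, 52, 93, 115, 168] [2364] [] false)) (.leaf .dfn))) (.node (.node (.leaf (.rl 4 4 [39, 65, 102, 133, 155] [146, 206, 206, 938] [48, 48, 48, 30, 30, 160] false)) (.leaf (.rl 7 1 [23, 45, 56, 98, 120, 155, 167]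 [5436] [] false))) (.leaf (.rl 4 4 [22, 55, 80, 124, 143, 167] [160] [64, 48, 48, 48, 166, 550, 208, 170, 195, 209, 3320] false)))) (.node (.node (.node (.leaf (.rl 7 1 [10, 30, 38, 103, 131, 157, 167] [828] [] false)) (.leaf (.rl 5 4 [19, 73, 53, 93, 133, 143, 166] [43, 43, 45, 202, 4328] [42, 42, 45, 212] false))) (.leaf (.rl 7 1 [33, 26, 65, 81, 124, 153] [2876] [] false))) (.node (.node (.leaf (.rl 7 1 [9, 32, 53, 119, 170] [1852] [] false)) (.leaf (.rl 23 1 [7, 69, 62, 79, 134, 154] [5756, 5926] [5926] false))) (.leaf (.rl 7 1 [17, 65, 97, 88, 159] [3900] [] false)))))) (.node (.node (.node (.node (.node (.leaf (.rl 1 4 [14, 45, 66, 82, 130, 154] [28, 64, 30, 30, 166] [10, 10, 10, 8, 6, 10, 8, 6, 10, 10, 10, 6, 40] false)) (.leaf .dfn)) (.node (.leaf (.rl 4 2 [16, 43, 51, 93, 118, 153] [150, 204] [48, 36, 30, 30, 154] false)) (.leaf .dfn))) (.node (.node (.leaf (.rl 4 4 [18, 31, 49, 97, 119, 144, 167] [146]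 [36, 64, 48, 32, 31, 35, 49, 50, 94, 43, 43, 90] false)) (.leaf (.rl 4 4 [30, 64, 101, 116, 151, 166] [31, 31, 49, 37, 622] [34, 32, 56, 44, 42, 95, 45, 5212] false))) (.leaf (.rl 4 4 [18, 27, 37] [160, 344, 262, 2960] [34, 64, 30, 48, 30, 160] false)))) (.node (.node (.node (.leaf (.rl 4 4 [3, 32, 37, 99, 130, 157, 167] [138, 184, 184, 289, 185, 143, 680] [36, 30, 48, 64, 146] false)) (.leaf (.rl 4 4 [12, 68, 55, 89, 158, 166] [160] [64, 30, 64, 160, 262, 344, 4644] false))) (.node (.leaf (.rl 4 4 [16, 29, 64, 121, 170, 166] [154, 452, 156, 453, 157, 529, 453, 157, 157, 406] [48, 154] false)) (.leaf .dfn))) (.node (.node (.leaf (.rl 10 1 [16, 72, 52, 89, 124, 143, 166] [1724] [] false)) (.leaf (.rl 24 1 [17, 73, 64, 99, 134, 153, 166] [5820] [] false))) (.leaf (.rl 4 4 [20, 45, 66, 97, 171] [160, 262, 344, 263, 345, 3462] [64, 32, 36, 30, 146] false))))) (.node (.node (.node (.node (.leaf (.rl 10 1 [19, 46, 89,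 130, 157] [444] [] false)) (.leaf (.rl 4 4 [24, 44, 50, 96, 133, 143, 166] [146, 206, 4480] [30, 48, 36, 34, 160] false))) (.node (.leaf (.rl 7 1 [17, 31, 49, 96, 120, 156, 166] [2492] [] false)) (.leaf .dfn))) (.node (.node (.leaf (.rl 10 1 [24, 30, 53, 99, 170] [1468] [] false)) (.leaf (.rl 9 1 [10, 26, 65, 93, 119, 152] [5564] [] false))) (.leaf (.rl 10 1 [18, 44, 61, 81, 112, 143] [3516] [] false)))) (.node (.node (.node (.leaf (.rl 7 1 [18, 69, 61, 102, 119, 154, 167] [956] [] false)) (.leaf (.rl 5 4 [33, 28, 50, 90, 115, 156] [1818, 207, 4902] [94, 42, 44, 44, 42, 45, 4720] false))) (.leaf (.rl 4 4 [20, 26, 52, 89, 115, 157, 166] [154] [32, 64, 48, 64, 36, 146, 206, 206, 2598] false))) (.node (.node (.leaf (.rl 4 4 [20, 72, 60, 97, 131, 171] [146, 207, 207, 1608] [34, 64, 36, 32, 30, 160] false)) (.leaf (.rl 7 4 [13, 45, 64, 80, 134, 155, 167] [5816, 5926] [206, 206, 3938, 206, 206, 5816, 5926] false))) (.leaf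 (.rl 4 4 [5, 30, 53, 122, 154, 166] [166, 550, 194, 171, 209, 1478] [64, 32, 36, 30, 146] false))))))

def kSrc120 : Tr Src :=
  .node (.node (.node (.node (.node (.node (.leaf (.rl 5 4 [8, 26, 62, 102, 121, 157, 167] [43, 45, 45, 43, 95, 45, 102, 94, 43, 80, 42, 42, 44, 42, 45, 43, 43, 45, 45, 122] [] false)) (.leaf (.rl 5 4 [22, 46, 38, 98, 118, 156, 166] [43, 45, 45, 43, 226, 262, 345, 263, 2988] [44, 94, 42, 44, 44, 43, 43, 45, 43, 43, 658] false))) (.node (.leaf (.rl 4 4 [12, 70, 64, 104, 116, 158] [146] [64, 30, 48, 138, 184, 184, 140, 288, 184, 289, 143, 289, 143, 350] false)) (.leaf (.rl 5 4 [11, 69, 58, 93, 119, 171, 167] [45, 45, 43, 100, 44, 43, 45, 45, 43, 95, 6198] [94, 42, 44, 44, 43, 45, 45, 43, 95, 6198] false)))) (.node (.node (.leaf (.rl 7 1 [44, 60, 92, 113, 158, 167] [1148] [] false)) (.leaf (.rl 4 4 [23, 46, 60, 81, 119, 159] [166, 170, 208, 5096] [48, 30, 64, 48, 34, 154] false))) (.leaf (.rl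 4 4 [15, 45, 38, 98, 132, 153, 166] [154, 452, 156, 453, 529, 3120] [30, 30, 30, 160] false)))) (.node (.node (.node (.leaf (.rl 7 1 [22, 39, 50, 103, 115, 157] [636] [] false)) (.leaf (.rl 4 4 [12, 31, 49, 93, 88, 143, 167] [160] [32, 64, 48, 32, 154, 452, 236, 157, 4674] false))) (.node (.leaf (.rl 7 1 [20, 74, 59, 94, 113, 151, 166] [2684] [] false)) (.leaf .dfn))) (.node (.node (.leaf (.rl 4 4 [17, 41, 60, 90, 119, 153, 166] [146] [32, 30, 30, 160, 344, 263, 345, 378] false)) (.leaf (.rl 5 4 [8, 70, 60, 102, 132, 170] [43, 45, 43, 43, 80, 42, 95, 3686] [44, 44, 94, 43, 45, 5196] false))) (.leaf (.rl 10 1 [20, 46, 50, 103, 121, 154, 167] [3708] [] false))))) (.node (.node (.node (.node (.leaf (.rl 7 1 [21, 27, 49, 92, 132, 158, 166] [380] [] false)) (.leaf (.rl 4 4 [7, 72, 56, 96, 115, 154, 167] [146, 207, 4328] [64, 36, 30, 146] false))) (.node (.leaf (.rl 7 1 [16, 46, 66, 80, 112, 144, 167] [2428] [] false))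 (.leaf .dfn))) (.node (.node (.leaf (.rl 4 4 [11, 71, 51, 89, 121, 157, 167] [146, 578] [36, 64, 30, 48, 32, 160] false)) (.leaf (.rl 5 4 [27, 67, 81, 118, 157, 166] [43, 43, 45, 202, 207, 5294, 5350] [44, 42, 95, 1134] false))) (.leaf (.rl 4 4 [11, 70, 63, 102, 123, 158, 167] [160, 412] [30, 64, 48, 36, 30, 160] false)))) (.node (.node (.node (.leaf (.rl 7 1 [6, 73, 53, 91, 131, 169] [892] [] false)) (.leaf (.rl 14 1 [16, 27, 59, 93, 113, 170, 167] [4988] [] false))) (.leaf (.rl 4 4 [7, 30, 52, 104, 113, 151, 167] [154] [31, 65, 49, 31, 70, 48, 30, 64, 30, 154] false))) (.node (.node (.leaf (.rl 4 4 [7, 68, 53, 94, 118, 143, 166] [146, 206, 1616] [48, 48, 30, 154] false)) (.leaf (.rl 24 1 [33, 46, 57, 99, 120, 170, 166] [6012] [] false))) (.leaf (.rl 4 4 [23, 46, 63, 90, 122, 158, 166] [164, 484] [34, 48, 64, 34, 166, 550, 208, 195, 209, 856] false)))))) (.node (.node (.node (.node (.node (.leaf (.rl 1 4 [24, 57,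 95, 114, 169, 167] [40, 94, 44, 95, 218] [10, 10, 10, 6, 10, 10, 8, 6, 10, 10, 6, 40] false)) (.leaf (.rl 4 4 [26, 52, 90, 116, 159] [138, 184, 140, 288, 4288] [64, 48, 37, 622] false))) (.node (.leaf (.rl 4 4 [3, 71, 62, 92, 120, 169, 167] [150, 204] [34, 48, 48, 48, 36, 160, 263, 1670] false)) (.leaf .dfn))) (.node (.node (.leaf (.rl 7 1 [15, 32, 96, 88, 153] [1276] [] false)) (.leaf (.rl 7 1 [19, 69, 65, 99, 113, 171] [5372] [] false))) (.leaf (.rl 10 1 [23, 31, 64, 90, 88, 158, 166] [3324] [] false)))) (.node (.node (.node (.leaf (.rl 4 4 [13, 54, 89, 118, 168, 166] [31, 65, 49, 31, 70, 30, 64, 48, 34, 30, 154] [48, 64, 48, 34, 30, 154] false)) (.leaf (.rl 4 4 [33, 40, 58, 103, 118, 151, 167] [164, 484] [48, 64, 32, 36, 160, 345, 263, 4742] false))) (.node (.leaf (.rl 9 1 [6, 42, 55, 101, 130, 167] [2812] [] false)) (.leaf (.rl 4 4 [27, 50, 91, 122, 152, 167] [146, 1016, 6902] [48, 34, 64, 48, 34, 30, 160] false))))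 (.node (.node (.leaf (.rl 7 1 [20, 70, 50, 104, 114, 153, 167] [1788] [] false)) (.leaf (.rl 21 1 [14, 30, 56, 96, 112, 170, 166] [5884] [] false))) (.leaf (.rl 4 4 [13, 39, 51, 103, 120, 144, 166] [160] [64, 30, 30, 164, 484, 206, 3002] false))))) (.node (.node (.node (.node (.leaf (.rl 4 4 [8, 43, 62, 102, 120, 155, 166] [138, 184, 288, 288, 142, 140, 289, 143, 289, 143, 350] [36, 64, 48, 32, 160] false)) (.leaf (.rl 4 4 [23, 44, 98, 157] [150, 204, 4424] [48, 34, 64, 48, 34, 160] false))) (.node (.leaf (.rl 4 4 [6, 67, 89, 123, 153, 166] [150, 204] [36, 48, 31, 49, 37, 622, 207, 762] false)) (.leaf .dfn))) (.node (.node (.leaf (.rl 4 4 [5, 71, 59, 81, 124, 152] [146] [34, 64, 30, 30, 160, 345, 992] false)) (.leaf (.rl 5 4 [7, 42, 49, 81, 114, 143, 167] [43, 45, 45, 43, 226] [42, 44, 44, 43, 95, 2606, 5302] false))) (.leaf (.rl 4 4 [9, 69, 37, 82, 122, 156, 167] [160] [32, 34, 64, 48, 146, 206, 3498] false))))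 (.node (.node (.node (.leaf (.rl 7 1 [6, 41, 67, 100, 133, 155] [1020] [] false)) (.leaf (.rl 12 1 [16, 74, 50, 96, 131, 168, 166] [171, 208, 550, 5112] [5112] true))) (.leaf (.rl 4 4 [24, 29, 61, 96, 113, 159] [154, 528, 452, 156, 237, 529, 3062] [36, 34, 64, 30, 146] false))) (.node (.node (.leaf (.rl 4 4 [16, 44, 67, 99, 133, 155, 166] [146] [34, 30, 48, 64, 30, 146, 207, 1524] false)) (.leaf (.rl 24 1 [4, 68, 63, 97, 120, 144, 167] [6140] [] false))) (.leaf (.rl 7 1 [6, 41, 53, 98, 131, 155, 166] [4092] [] false))))))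

def kSrc121 : Tr Src :=
  .node kSrc119 kSrc120

def kSrc122 : Tr Src :=
  .node kSrc118 kSrc121

def kSrc123 : Tr Src :=
  .node kSrc115 kSrc122

def kSrc124 : Tr Src :=
  .node kSrc108 kSrc123

def kSrc125 : Tr Src :=
  .node kSrc93 kSrc124

def kSrc126 : Tr Src :=
  .node kSrc62 kSrc125

/-- The table. -/
def kSrc : Tr Src := kSrc126

/-- The defined cosets. -/
def kDefs : List (ℕ × List ℕ) :=
  [(0, []),
   (1, [24, 32, 55, 82, 115, 151]),
   (2, [19, 31, 62, 90, 117, 171, 166]),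
   (1, [21, 26]),
   (1, [22, 26]),
   (4, [23, 32, 55, 82, 115, 151]),
   (4, [5, 61, 89, 119, 155, 166]),
   (4, [22, 26]),
   (4, [24, 32, 55, 82, 115, 151]),
   (4, [4]),
   (4, [12, 29, 49]),
   (4, [13, 29, 49]),
   (4, [12, 29, 51, 101, 122, 152]),
   (6, [3]),
   (6, [24, 32, 55, 82, 115, 151]),
   (6, [22, 42, 54, 79, 120, 168]),
   (6, [24, 26, 38]),
   (6, [18, 73, 51, 96, 119, 154, 167]),
   (6, [8, 26]),
   (6, [10, 32, 55, 82, 115, 151]),
   (12, [12, 29, 49]),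
   (12, [6, 30, 64, 79]),
   (12, [13, 30, 37, 80, 132, 166]),
   (12, [20, 45, 60, 81, 123, 151, 167]),
   (12, [16, 74, 50, 96, 131, 168, 166]),
   (12, [19, 31, 50, 91, 113, 154, 167]),
   (12, [22, 53, 100, 115, 153, 167]),
   (12, [26, 38, 101, 122, 152]),
   (25, [13, 29, 49]),
   (25, [8, 46, 56, 80, 120, 168, 167]),
   (25, [15, 30, 67, 104, 117, 156]),
   (21, [20, 45, 60, 81, 123, 151, 167]),
   (21, [9, 31, 55, 82, 115, 151]),
   (21, [33, 42, 61, 102, 122, 170]),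
   (24, [21, 26]),
   (24, [4]),
   (24, [31, 55, 82, 115, 151]),
   (24, [7, 61, 89, 119, 155, 166]),
   (24, [20, 26, 61, 89, 119, 155, 166]),
   (24, [15, 31, 50, 91, 113, 154, 167]),
   (24, [24, 27, 37]),
   (24, [5, 30, 64, 79]),
   (24, [6, 38, 101, 122, 152]),
   (24, [4, 32, 55, 82, 115, 151]),
   (24, [23, 55, 82, 115, 151]),
   (24, [20, 53, 100, 115, 153, 167]),
   (24, [16, 31, 52, 79, 88]),
   (24, [17, 29, 49]),
   (24, [22, 42, 61, 93, 120, 159]),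
   (24, [16, 43, 62, 103, 134, 169, 167]),
   (22, []),
   (22, [21, 26]),
   (22, [23, 32, 55, 82, 115, 151]),
   (22, [3]),
   (22, [5, 61, 89, 119, 155, 166]),
   (22, [22, 26]),
   (22, [24, 32, 55, 82, 115, 151]),
   (22, [24, 39, 54, 79, 120, 168]),
   (22, [6, 61, 89, 119, 155, 166]),
   (22, [12, 29, 49]),
   (22, [23, 26]),
   (22, [32, 55, 82, 115, 151]),
   (22, [23, 27, 37]),
   (22, [39, 54, 79, 120, 168]),
   (22, [31, 55, 82, 115, 151]),
   (22, [5]),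
   (22, [24, 26]),
   (22, [3, 32, 55, 82, 115, 151]),
   (22, [24, 27, 37]),
   (22, [22, 55, 82, 115, 151]),
   (22, [3, 31, 55, 82, 115, 151]),
   (22, [24, 26, 38]),
   (22, [5, 32, 54, 104, 116]),
   (22, [22, 42, 65, 102, 116, 144, 166]),
   (22, [6]),
   (22, [10, 32, 61, 93, 123, 157, 166]),
   (22, [26]),
   (22, [4, 32, 55, 82, 115, 151]),
   (22, [4, 26, 37]),
   (22, [30, 98, 157]),
   (22, [6, 31, 37, 80, 114, 158, 166]),
   (22, [23, 39, 38, 91, 112, 158]),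
   (22, [21, 27]),
   (22, [21, 28, 37]),
   (22, [4, 44, 38, 101, 114, 152, 166]),
   (22, [21, 27, 38]),
   (22, [21, 31, 98, 157]),
   (22, [12, 30, 37, 80, 132, 166]),
   (22, [7]),
   (22, [13, 29, 61, 81, 118, 158, 167]),
   (22, [24, 32, 63, 96, 131, 143]),
   (22, [11, 32, 61, 93, 123, 157, 166]),
   (22, [24, 32, 64, 99, 120, 154, 166]),
   (22, [33, 41, 64, 92, 131, 170]),
   (22, [11, 45, 67, 81, 124, 158, 166]),
   (22, [9, 71, 50, 99, 118, 170]),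
   (22, [15, 31, 52, 79, 88]),
   (22, [15, 31, 61, 95, 123, 166]),
   (22, [18, 45, 63, 96, 130, 171]),
   (22, [3, 27, 37]),
   (22, [3, 30, 98, 157]),
   (22, [7, 31, 37, 80, 114, 158, 166]),
   (22, [5, 41, 81, 134, 155]),
   (22, [5, 39, 63, 95, 116, 169]),
   (22, [22, 31, 98, 157]),
   (22, [13, 68, 37, 100, 114, 169]),
   (22, [3, 41]),
   (22, [13, 43, 62, 103, 134, 169, 167]),
   (22, [5, 30, 57, 93, 134, 152]),
   (22, [24, 28, 54, 79, 120, 168]),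
   (22, [20, 54, 104, 116]),
   (22, [20, 32, 37, 80, 114, 158, 166]),
   (22, [20, 45, 60, 81, 123, 151, 167]),
   (22, [5, 26, 62, 96, 117, 143]),
   (22, [8]),
   (22, [14, 29, 61, 81, 118, 158, 167]),
   (22, [16, 74, 50, 96, 131, 168, 166]),
   (22, [23, 27, 101, 122, 152]),
   (22, [23, 27, 65, 103, 113, 153, 167]),
   (22, [12, 74, 49, 96, 131, 151]),
   (22, [16, 31, 61, 95, 123, 166]),
   (22, [39, 63, 104, 88, 159, 167]),
   (22, [8, 68, 67, 95, 133, 171, 166]),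
   (22, [39, 61, 93, 120, 159]),
   (22, [8, 46, 104, 113, 169, 167]),
   (22, [19, 67, 101, 134, 170, 167]),
   (22, [13, 70, 52, 99, 118, 158, 167]),
   (22, [10, 32, 55, 92, 117, 157]),
   (22, [6, 71, 67, 89, 117, 144, 167]),
   (22, [8, 32, 58, 92, 118, 151, 166]),
   (22, [4, 26]),
   (22, [6, 32, 53, 100, 115, 153, 167]),
   (22, [23, 28, 37]),
   (22, [6, 44, 38, 101, 114, 152, 166]),
   (22, [6, 41, 81, 134, 155]),
   (22, [4, 41, 59, 91, 119, 151]),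
   (22, [23, 32, 63, 94, 130]),
   (22, [21, 54, 104, 116]),
   (22, [23, 40, 38, 91, 116, 168, 166]),
   (22, [23, 32, 59, 81, 151, 167]),
   (22, [23, 31, 54, 95, 131, 143, 167]),
   (22, [4, 27, 57, 104, 120, 157, 167]),
   (22, [12, 44, 51, 81, 121, 151, 167]),
   (22, [8, 31, 67, 97, 156]),
   (22, [8, 41, 66, 97, 117, 167]),
   (22, [21, 26, 59, 91, 119, 151]),
   (22, [11, 71, 58, 101, 121, 158, 166]),
   (22, [13, 45, 67, 81, 124, 158, 166]),
   (22, [11, 71, 50, 99, 118, 170]),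
   (22, [22, 42, 61, 93, 120, 159]),
   (22, [14, 46, 63, 99, 119, 151]),
   (22, [11, 74, 38, 96, 120, 154]),
   (22, [7, 72, 65, 90, 133, 151]),
   (22, [3, 42, 54, 79, 120, 168]),
   (22, [22, 53, 100, 115, 153, 167]),
   (22, [22, 42, 63, 95, 116, 169]),
   (22, [3, 38]),
   (22, [5, 70, 49, 98, 113, 170]),
   (22, [24, 30, 59, 98, 112, 152, 167]),
   (22, [21, 67, 101, 134, 170, 167]),
   (22, [23, 39, 37, 98, 151, 166]),
   (22, [14, 72, 37, 82, 131, 159, 166]),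
   (22, [19, 70, 57, 102, 120, 168]),
   (22, [8, 32, 55, 99, 156]),
   (22, [16, 40, 67, 97, 122, 143, 167]),
   (22, [9, 39, 52, 99, 133, 143, 167]),
   (22, [27, 38]),
   (22, [16, 43, 62, 103, 134, 169, 167]),
   (22, [6, 27, 57, 104, 120, 157, 167]),
   (22, [19, 31, 64, 100, 123, 171, 167]),
   (22, [43, 60, 81, 123, 151, 167]),
   (22, [7, 40, 54, 101, 119, 144]),
   (22, [18, 46, 58, 102, 134, 155]),
   (22, [5, 26, 64, 102, 88, 156]),
   (22, [9, 31, 55, 82, 115, 151]),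
   (14, [8, 46, 56, 80, 120, 168, 167]),
   (14, [24, 32, 64, 99, 120, 154, 166]),
   (14, [23, 40, 38, 91, 116, 168, 166]),
   (14, [16, 68, 37, 91, 168, 167]),
   (14, [3, 31, 63, 94, 130]),
   (14, [24, 38, 95, 123, 171, 167]),
   (14, [20, 31, 57, 93, 134, 152]),
   (14, [10, 30, 53, 98, 123, 154, 166]),
   (14, [24, 39, 37, 104, 130, 153, 166]),
   (7, [18, 73, 55, 102, 113, 151, 166]),
   (7, [14, 72, 37, 103, 130, 144, 167]),
   (7, [6, 30, 98, 157]),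
   (7, [16, 70, 61, 104, 124, 153, 167]),
   (7, [18, 73, 62, 79, 130, 170])]

/-- The number of facts. -/
def kLen : ℕ := 3458

end Cfsg.Lib.J4Cert
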