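import Cfsg.Agent.J4Cert.Walk
import Cfsg.Agent.J4Cert.Data.Mats0
import Cfsg.Agent.J4Cert.Data.Mats1
import Cfsg.Agent.J4Cert.Data.Mats2
import Cfsg.Agent.J4Cert.Data.Mats3

/-!
The table of products.
-/

set_option autoImplicit false
set_option maxRecDepth 8000

namespace Cfsg.Lib.J4Cert

def matT0 : Tr (List ℕ) :=
  .node (.node (.node (.node (.node (Tr.leaf mat0) (Tr.leaf mat256)) (.node (Tr.leaf mat128) (Tr.leaf mat384))) (.node (.node (Tr.leaf mat64) (Tr.leaf mat320)) (Tr.leaf mat192))) (.node (.node (.node (Tr.leaf mat32) (Tr.leaf mat288)) (Tr.leaf mat160)) (.node (.node (Tr.leaf mat96) (Tr.leaf mat352)) (Tr.leaf mat224)))) (.node (.node (.node (.node (Tr.leaf mat16) (Tr.leaf mat272)) (Tr.leaf mat144)) (.node (.node (Tr.leaf mat80) (Tr.leaf mat336)) (Tr.leaf mat208))) (.node (.node (.node (Tr.leaf mat48) (Tr.leaf mat304)) (Tr.leaf mat176)) (.node (.node (Tr.leaf mat112) (Tr.leaf mat368)) (Tr.leaf mat240))))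

def matT1 : Tr (List ℕ) :=
  .node (.node (.node (.node (.node (Tr.leaf mat1) (Tr.leaf mat257)) (.node (Tr.leaf mat129) (Tr.leaf mat385))) (.node (.node (Tr.leaf mat65) (Tr.leaf mat321)) (Tr.leaf mat193))) (.node (.node (.node (Tr.leaf mat33) (Tr.leaf mat289)) (Tr.leaf mat161)) (.node (.node (Tr.leaf mat97) (Tr.leaf mat353)) (Tr.leaf mat225)))) (.node (.node (.node (.node (Tr.leaf mat17) (Tr.leaf mat273)) (Tr.leaf mat145)) (.node (.node (Tr.leaf mat81) (Tr.leaf mat337)) (Tr.leaf mat209))) (.node (.node (.node (Tr.leaf mat49) (Tr.leaf mat305)) (Tr.leaf mat177)) (.node (.node (Tr.leaf mat113) (Tr.leaf mat369)) (Tr.leaf mat241))))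

def matT2 : Tr (List ℕ) :=
  .node (.node (.node (.node (.node (Tr.leaf mat2) (Tr.leaf mat258)) (.node (Tr.leaf mat130) (Tr.leaf mat386))) (.node (.node (Tr.leaf mat66) (Tr.leaf mat322)) (Tr.leaf mat194))) (.node (.node (.node (Tr.leaf mat34) (Tr.leaf mat290)) (Tr.leaf mat162)) (.node (.node (Tr.leaf mat98) (Tr.leaf mat354)) (Tr.leaf mat226)))) (.node (.node (.node (.node (Tr.leaf mat18) (Tr.leaf mat274)) (Tr.leaf mat146)) (.node (.node (Tr.leaf mat82) (Tr.leaf mat338)) (Tr.leaf mat210))) (.node (.node (.node (Tr.leaf mat50) (Tr.leaf mat306)) (Tr.leaf mat178)) (.node (.node (Tr.leaf mat114) (Tr.leaf mat370)) (Tr.leaf mat242))))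

def matT3 : Tr (List ℕ) :=
  .node (.node (.node (.node (.node (Tr.leaf mat3) (Tr.leaf mat259)) (.node (Tr.leaf mat131) (Tr.leaf mat387))) (.node (.node (Tr.leaf mat67) (Tr.leaf mat323)) (Tr.leaf mat195))) (.node (.node (.node (Tr.leaf mat35) (Tr.leaf mat291)) (Tr.leaf mat163)) (.node (.node (Tr.leaf mat99) (Tr.leaf mat355)) (Tr.leaf mat227)))) (.node (.node (.node (.node (Tr.leaf mat19) (Tr.leaf mat275)) (Tr.leaf mat147)) (.node (.node (Tr.leaf mat83) (Tr.leaf mat339)) (Tr.leaf mat211))) (.node (.node (.node (Tr.leaf mat51) (Tr.leaf mat307)) (Tr.leaf mat179)) (.node (.node (Tr.leaf mat115) (Tr.leaf mat371)) (Tr.leaf mat243))))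

def matT4 : Tr (List ℕ) :=
  .node (.node (.node (.node (.node (Tr.leaf mat4) (Tr.leaf mat260)) (.node (Tr.leaf mat132) (Tr.leaf mat388))) (.node (.node (Tr.leaf mat68) (Tr.leaf mat324)) (Tr.leaf mat196))) (.node (.node (.node (Tr.leaf mat36) (Tr.leaf mat292)) (Tr.leaf mat164)) (.node (.node (Tr.leaf mat100) (Tr.leaf mat356)) (Tr.leaf mat228)))) (.node (.node (.node (.node (Tr.leaf mat20) (Tr.leaf mat276)) (Tr.leaf mat148)) (.node (.node (Tr.leaf mat84) (Tr.leaf mat340)) (Tr.leaf mat212))) (.node (.node (.node (Tr.leaf mat52) (Tr.leaf mat308)) (Tr.leaf mat180)) (.node (.node (Tr.leaf mat116) (Tr.leaf mat372)) (Tr.leaf mat244))))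

def matT5 : Tr (List ℕ) :=
  .node (.node (.node (.node (.node (Tr.leaf mat5) (Tr.leaf mat261)) (.node (Tr.leaf mat133) (Tr.leaf mat389))) (.node (.node (Tr.leaf mat69) (Tr.leaf mat325)) (Tr.leaf mat197))) (.node (.node (.node (Tr.leaf mat37) (Tr.leaf mat293)) (Tr.leaf mat165)) (.node (.node (Tr.leaf mat101) (Tr.leaf mat357)) (Tr.leaf mat229)))) (.node (.node (.node (.node (Tr.leaf mat21) (Tr.leaf mat277)) (Tr.leaf mat149)) (.node (.node (Tr.leaf mat85) (Tr.leaf mat341)) (Tr.leaf mat213))) (.node (.node (.node (Tr.leaf mat53) (Tr.leaf mat309)) (Tr.leaf mat181)) (.node (.node (Tr.leaf mat117) (Tr.leaf mat373)) (Tr.leaf mat245))))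

def matT6 : Tr (List ℕ) :=
  .node (.node (.node (.node (.node (Tr.leaf mat6) (Tr.leaf mat262)) (.node (Tr.leaf mat134) (Tr.leaf mat390))) (.node (.node (Tr.leaf mat70) (Tr.leaf mat326)) (Tr.leaf mat198))) (.node (.node (.node (Tr.leaf mat38) (Tr.leaf mat294)) (Tr.leaf mat166)) (.node (.node (Tr.leaf mat102) (Tr.leaf mat358)) (Tr.leaf mat230)))) (.node (.node (.node (.node (Tr.leaf mat22) (Tr.leaf mat278)) (Tr.leaf mat150)) (.node (.node (Tr.leaf mat86) (Tr.leaf mat342)) (Tr.leaf mat214))) (.node (.node (.node (Tr.leaf mat54) (Tr.leaf mat310)) (Tr.leaf mat182)) (.node (.node (Tr.leaf mat118) (Tr.leaf mat374)) (Tr.leaf mat246))))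

def matT7 : Tr (List ℕ) :=
  .node (.node (.node (.node (.node (Tr.leaf mat7) (Tr.leaf mat263)) (.node (Tr.leaf mat135) (Tr.leaf mat391))) (.node (.node (Tr.leaf mat71) (Tr.leaf mat327)) (Tr.leaf mat199))) (.node (.node (.node (Tr.leaf mat39) (Tr.leaf mat295)) (Tr.leaf mat167)) (.node (.node (Tr.leaf mat103) (Tr.leaf mat359)) (Tr.leaf mat231)))) (.node (.node (.node (.node (Tr.leaf mat23) (Tr.leaf mat279)) (Tr.leaf mat151)) (.node (.node (Tr.leaf mat87) (Tr.leaf mat343)) (Tr.leaf mat215))) (.node (.node (.node (Tr.leaf mat55) (Tr.leaf mat311)) (Tr.leaf mat183)) (.node (.node (Tr.leaf mat119) (Tr.leaf mat375)) (Tr.leaf mat247))))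

def matT8 : Tr (List ℕ) :=
  .node (.node (.node (.node (.node (Tr.leaf mat8) (Tr.leaf mat264)) (.node (Tr.leaf mat136) (Tr.leaf mat392))) (.node (.node (Tr.leaf mat72) (Tr.leaf mat328)) (Tr.leaf mat200))) (.node (.node (.node (Tr.leaf mat40) (Tr.leaf mat296)) (Tr.leaf mat168)) (.node (.node (Tr.leaf mat104) (Tr.leaf mat360)) (Tr.leaf mat232)))) (.node (.node (.node (.node (Tr.leaf mat24) (Tr.leaf mat280)) (Tr.leaf mat152)) (.node (.node (Tr.leaf mat88) (Tr.leaf mat344)) (Tr.leaf mat216))) (.node (.node (.node (Tr.leaf mat56) (Tr.leaf mat312)) (Tr.leaf mat184)) (.node (.node (Tr.leaf mat120) (Tr.leaf mat376)) (Tr.leaf mat248))))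

def matT9 : Tr (List ℕ) :=
  .node (.node (.node (.node (.node (Tr.leaf mat9) (Tr.leaf mat265)) (.node (Tr.leaf mat137) (Tr.leaf mat393))) (.node (.node (Tr.leaf mat73) (Tr.leaf mat329)) (Tr.leaf mat201))) (.node (.node (.node (Tr.leaf mat41) (Tr.leaf mat297)) (Tr.leaf mat169)) (.node (.node (Tr.leaf mat105) (Tr.leaf mat361)) (Tr.leaf mat233)))) (.node (.node (.node (.node (Tr.leaf mat25) (Tr.leaf mat281)) (Tr.leaf mat153)) (.node (.node (Tr.leaf mat89) (Tr.leaf mat345)) (Tr.leaf mat217))) (.node (.node (.node (Tr.leaf mat57) (Tr.leaf mat313)) (Tr.leaf mat185)) (.node (.node (Tr.leaf mat121) (Tr.leaf mat377)) (Tr.leaf mat249))))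

def matT10 : Tr (List ℕ) :=
  .node (.node (.node (.node (.node (Tr.leaf mat10) (Tr.leaf mat266)) (.node (Tr.leaf mat138) (Tr.leaf mat394))) (.node (.node (Tr.leaf mat74) (Tr.leaf mat330)) (Tr.leaf mat202))) (.node (.node (.node (Tr.leaf mat42) (Tr.leaf mat298)) (Tr.leaf mat170)) (.node (.node (Tr.leaf mat106) (Tr.leaf mat362)) (Tr.leaf mat234)))) (.node (.node (.node (.node (Tr.leaf mat26) (Tr.leaf mat282)) (Tr.leaf mat154)) (.node (.node (Tr.leaf mat90) (Tr.leaf mat346)) (Tr.leaf mat218))) (.node (.node (.node (Tr.leaf mat58) (Tr.leaf mat314)) (Tr.leaf mat186)) (.node (.node (Tr.leaf mat122) (Tr.leaf mat378)) (Tr.leaf mat250))))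

def matT11 : Tr (List ℕ) :=
  .node (.node (.node (.node (.node (Tr.leaf mat11) (Tr.leaf mat267)) (.node (Tr.leaf mat139) (Tr.leaf mat395))) (.node (.node (Tr.leaf mat75) (Tr.leaf mat331)) (Tr.leaf mat203))) (.node (.node (.node (Tr.leaf mat43) (Tr.leaf mat299)) (Tr.leaf mat171)) (.node (.node (Tr.leaf mat107) (Tr.leaf mat363)) (Tr.leaf mat235)))) (.node (.node (.node (.node (Tr.leaf mat27) (Tr.leaf mat283)) (Tr.leaf mat155)) (.node (.node (Tr.leaf mat91) (Tr.leaf mat347)) (Tr.leaf mat219))) (.node (.node (.node (Tr.leaf mat59) (Tr.leaf mat315)) (Tr.leaf mat187)) (.node (.node (Tr.leaf mat123) (Tr.leaf mat379)) (Tr.leaf mat251))))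

def matT12 : Tr (List ℕ) :=
  .node (.node (.node (.node (.node (Tr.leaf mat12) (Tr.leaf mat268)) (.node (Tr.leaf mat140) (Tr.leaf mat396))) (.node (.node (Tr.leaf mat76) (Tr.leaf mat332)) (Tr.leaf mat204))) (.node (.node (.node (Tr.leaf mat44) (Tr.leaf mat300)) (Tr.leaf mat172)) (.node (.node (Tr.leaf mat108) (Tr.leaf mat364)) (Tr.leaf mat236)))) (.node (.node (.node (.node (Tr.leaf mat28) (Tr.leaf mat284)) (Tr.leaf mat156)) (.node (.node (Tr.leaf mat92) (Tr.leaf mat348)) (Tr.leaf mat220))) (.node (.node (.node (Tr.leaf mat60) (Tr.leaf mat316)) (Tr.leaf mat188)) (.node (.node (Tr.leaf mat124) (Tr.leaf mat380)) (Tr.leaf mat252))))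

def matT13 : Tr (List ℕ) :=
  .node (.node (.node (.node (.node (Tr.leaf mat13) (Tr.leaf mat269)) (.node (Tr.leaf mat141) (Tr.leaf mat397))) (.node (.node (Tr.leaf mat77) (Tr.leaf mat333)) (Tr.leaf mat205))) (.node (.node (.node (Tr.leaf mat45) (Tr.leaf mat301)) (Tr.leaf mat173)) (.node (.node (Tr.leaf mat109) (Tr.leaf mat365)) (Tr.leaf mat237)))) (.node (.node (.node (.node (Tr.leaf mat29) (Tr.leaf mat285)) (Tr.leaf mat157)) (.node (.node (Tr.leaf mat93) (Tr.leaf mat349)) (Tr.leaf mat221))) (.node (.node (.node (Tr.leaf mat61) (Tr.leaf mat317)) (Tr.leaf mat189)) (.node (.node (Tr.leaf mat125) (Tr.leaf mat381)) (Tr.leaf mat253))))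

def matT14 : Tr (List ℕ) :=
  .node (.node (.node (.node (.node (Tr.leaf mat14) (Tr.leaf mat270)) (Tr.leaf mat142)) (.node (.node (Tr.leaf mat78) (Tr.leaf mat334)) (Tr.leaf mat206))) (.node (.node (.node (Tr.leaf mat46) (Tr.leaf mat302)) (Tr.leaf mat174)) (.node (.node (Tr.leaf mat110) (Tr.leaf mat366)) (Tr.leaf mat238)))) (.node (.node (.node (.node (Tr.leaf mat30) (Tr.leaf mat286)) (Tr.leaf mat158)) (.node (.node (Tr.leaf mat94) (Tr.leaf mat350)) (Tr.leaf mat222))) (.node (.node (.node (Tr.leaf mat62) (Tr.leaf mat318)) (Tr.leaf mat190)) (.node (.node (Tr.leaf mat126) (Tr.leaf mat382)) (Tr.leaf mat254))))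

def matT15 : Tr (List ℕ) :=
  .node (.node (.node (.node (.node (Tr.leaf mat15) (Tr.leaf mat271)) (Tr.leaf mat143)) (.node (.node (Tr.leaf mat79) (Tr.leaf mat335)) (Tr.leaf mat207))) (.node (.node (.node (Tr.leaf mat47) (Tr.leaf mat303)) (Tr.leaf mat175)) (.node (.node (Tr.leaf mat111) (Tr.leaf mat367)) (Tr.leaf mat239)))) (.node (.node (.node (.node (Tr.leaf mat31) (Tr.leaf mat287)) (Tr.leaf mat159)) (.node (.node (Tr.leaf mat95) (Tr.leaf mat351)) (Tr.leaf mat223))) (.node (.node (.node (Tr.leaf mat63) (Tr.leaf mat319)) (Tr.leaf mat191)) (.node (.node (Tr.leaf mat127) (Tr.leaf mat383)) (Tr.leaf mat255))))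

/-- The table of matrices. -/
def matTab : Tr (List ℕ) := (.node (.node (.node (.node matT0 matT8) (.node matT4 matT12)) (.node (.node matT2 matT10) (.node matT6 matT14))) (.node (.node (.node matT1 matT9) (.node matT5 matT13)) (.node (.node matT3 matT11) (.node matT7 matT15))))

def matProg0 : List (ℕ × ℕ) :=
  [(0, 2), (4, 4), (5, 0), (1, 0), (1, 7), (7, 8), (9, 6), (2, 4), (5, 11), (12, 2), (13, 2), (14, 8), (15, 6), (16, 9), (17, 10), (7, 7), (7, 19), (7, 20), (7, 21), (7, 22), (7, 23), (7, 24), (25, 18), (4, 2), (27, 4), (28, 21), (19, 28), (5, 4), (31, 4), (32, 9), (33, 30), (9, 5), (35, 34), (36, 29), (37, 30), (38, 29), (39, 30), (40, 30), (41, 29), (42, 29), (43, 26), (35, 36), (33, 45), (33, 46), (1, 30), (48, 5), (49, 47), (50, 50), (51, 50), (52, 29), (53, 44), (32, 4), (7, 1), (56, 19), (1, 57), (58, 55), (59, 36), (60, 29), (35, 2), (19, 62), (35, 29), (64, 30), (65, 30), (66, 29), (67, 29), (68, 63), (33, 69), (69, 70), (27, 14), (72, 25), (73, 65),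 (74, 71), (75, 61), (76, 75), (77, 61), (69, 69), (33, 65), (35, 80), (33, 81), (35, 82)]

def matProg1 : List (ℕ × ℕ) :=
  [(35, 83), (33, 84), (33, 85), (0, 19), (87, 72), (88, 22), (89, 86), (90, 79), (91, 78), (22, 13), (65, 93), (33, 94), (55, 4), (96, 4), (97, 4), (98, 15), (36, 99), (50, 29), (101, 50), (102, 100), (103, 95), (95, 104), (28, 88), (106, 20), (107, 35), (108, 29), (109, 105), (92, 110), (111, 92), (112, 92), (113, 54), (0, 10), (18, 115), (7, 25), (7, 117), (118, 116), (38, 119), (53, 50), (121, 120), (61, 75), (123, 75), (124, 122), (110, 92), (126, 92), (127, 92), (128, 125), (129, 114), (116, 6), (98, 4), (132, 4), (133, 4), (134, 131), (39, 135), (53, 29), (137, 136), (123, 138), (55, 16), (43, 140), (51, 141), (95, 103), (103, 143), (95, 144), (145, 142), (146, 146), (147, 139), (31, 17), (30, 149), (33, 150), (123, 61), (152, 151), (146, 153), (146, 154), (146, 155), (103, 104), (69, 79), (33, 158), (69, 159), (87, 28), (161, 106), (161,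 0)]

def matProg2 : List (ℕ × ℕ) :=
  [(163, 162), (164, 133), (165, 81), (166, 160), (167, 157), (168, 156), (114, 169), (170, 114), (171, 148), (172, 130), (103, 103), (95, 174), (34, 29), (176, 175), (177, 92), (178, 173), (2, 29), (2, 180), (95, 75), (182, 181), (112, 110), (184, 183), (130, 185), (53, 40), (182, 61), (188, 187), (126, 110), (190, 189), (114, 130), (92, 92), (139, 193), (194, 192), (171, 195), (196, 191), (195, 197), (182, 75), (199, 61), (200, 36), (128, 201), (169, 195), (203, 202), (195, 204), (129, 171), (153, 154), (146, 207), (103, 145), (32, 34), (210, 209), (211, 208), (212, 206), (213, 195), (114, 129), (95, 95), (20, 86), (217, 70), (218, 216), (219, 208), (220, 215), (221, 172), (153, 92), (4, 47), (224, 29), (225, 78), (226, 223), (227, 130), (68, 7), (33, 229), (145, 230), (146, 110), (232, 231), (170, 233), (234, 3), (235, 228), (1, 3), (237, 2), (2, 3), (239, 1), (3, 240), (241, 238), (242, 236)]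

def matProg3 : List (ℕ × ℕ) :=
  [(24, 33), (29, 97), (245, 3), (246, 244), (7, 36), (248, 29), (249, 95), (65, 4), (33, 251), (61, 252), (253, 3), (254, 250), (20, 30), (35, 31), (257, 3), (258, 256), (259, 255), (260, 247), (0, 261), (262, 0), (2, 263), (264, 1), (0, 265), (266, 0), (1, 267), (268, 2), (0, 269), (270, 0), (2, 267), (272, 1), (0, 273), (274, 0), (1, 263), (276, 2), (261, 263), (278, 277), (279, 273), (280, 269), (281, 275), (282, 271), (283, 243), (284, 222), (285, 214), (66, 21), (33, 287), (123, 288), (92, 289), (129, 170), (291, 290), (195, 292), (293, 286), (294, 205), (295, 198), (296, 186), (297, 297), (298, 297), (299, 297), (300, 297), (7, 301), (302, 4), (301, 303), (304, 304), (305, 304), (306, 304), (307, 304), (308, 304), (172, 129), (103, 61), (103, 311), (95, 312), (65, 313), (314, 156), (315, 310), (316, 172), (297, 317), (318, 318), (319, 318), (320, 318), (321, 309), (322, 322)]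

def matProg4 : List (ℕ × ℕ) :=
  [(323, 322), (301, 322), (325, 322), (326, 322), (327, 179), (328, 324), (179, 179), (330, 330), (331, 331), (330, 332), (329, 329), (334, 334), (335, 335), (334, 336), (179, 333), (333, 337), (179, 329), (339, 340), (341, 319), (321, 321), (179, 341), (329, 341), (240, 3), (346, 2), (347, 2), (347, 0), (349, 1), (350, 1), (351, 0), (352, 2), (353, 353), (354, 354), (353, 355), (355, 355), (356, 357), (357, 357), (11, 0), (48, 0), (361, 2), (234, 0), (363, 1), (364, 3), (365, 1), (366, 1), (367, 3), (368, 368), (368, 369), (369, 369), (370, 371), (371, 371), (372, 373), (373, 373), (7, 3), (376, 376), (377, 377), (376, 378), (378, 378), (380, 380), (381, 381), (8, 1), (383, 0), (384, 2), (385, 3), (386, 1), (387, 3), (386, 2), (389, 0), (390, 390), (390, 391), (391, 391), (393, 393), (392, 394), (394, 394), (396, 396)]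

/-- Each matrix is a product of earlier ones. -/
def matProg : List (ℕ × ℕ) :=
  matProg0 ++ matProg1 ++ matProg2 ++ matProg3 ++ matProg4

end Cfsg.Lib.J4Cert
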