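import Mathlib

/-!
The letters of the relations.
-/

set_option autoImplicit false
set_option maxRecDepth 8000

namespace Cfsg.Lib.J4Cert

/-- The words of the letters and the permutations of the relations. -/
def relW : List (List (List ℕ) × List ℕ) :=
  [([], []), ([[], []], []), ([[1, 0, 2, 0, 1, 0, 2, 0, 1, 1], [1, 0, 2, 0, 1, 0, 2, 0, 1], [1, 0, 2, 0, 1, 0, 2, 0]], []), ([[1, 0, 2, 0, 1, 0, 2, 0], [1, 0, 2, 0, 1, 0, 2, 0, 1], [1, 0, 2, 0, 1, 0, 2, 0, 1, 1]], []), ([[], [0, 1, 0, 1, 0, 1, 1, 0, 1, 0, 1, 0, 1, 0, 1, 0, 1, 0, 1, 1, 1, 0, 1, 0, 1, 0, 1, 1, 0, 1, 0, 1, 0, 1, 1, 0, 1, 0, 1, 0, 1], [], [0, 1, 0, 1, 0, 1, 1, 0, 1, 0, 1, 0, 1, 0, 1, 0, 1, 0, 1, 1]], [1, 0, 1, 0, 1, 0, 1, 1, 0, 1, 0, 1, 0, 1, 1, 0, 1, 0, 1, 0, 1, 1, 0, 1, 0, 1, 0, 1, 1, 0, 1, 0, 1, 0, 1, 1, 0, 1, 0, 1, 0, 1])]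

/-- The relations, packed. -/
def relP : List (List ℕ × ℕ) :=
  [([], 0x17161514131211100f0e0d0c0b0a09080706050403020100), ([0x17161514131211100f0e0d0c0b0a09080706050403020100, 0x17161514131211100f0e0d0c0b0a09080706050403020100], 0x17161514131211100f0e0d0c0b0a09080706050403020100), ([0x31117150d0e160f080b0213060a10010504140907120c, 0x70f0a17040d0e08050615131216091001030b14110c0200, 0xc0509170b0d0e060316041202081110010f15140a001307], 0x17161514131211100f0e0d0c0b0a09080706050403020100), ([0xc0509170b0d0e060316041202081110010f15140a001307, 0x70f0a17040d0e08050615131216091001030b14110c0200, 0x31117150d0e160f080b0213060a10010504140907120c], 0x17161514131211100f0e0d0c0b0a09080706050403020100), ([0x17161514131211100f0e0d0c0b0a09080706050403020100, 0x41716020b140809070d111210030a0f0e05150613000c01, 0x17161514131211100f0e0d0c0b0a09080706050403020100, 0x914010f10050c040a120e11130700020d15170b06030816], 0x1706151403051110020d0e0704090a080c16120b130f0100)]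

/-- The words of the root relation. -/
def rootW : List (List ℕ) :=
  [[1, 0, 1, 0, 1, 0, 1, 0, 2, 0, 1, 1], [1, 0, 1, 0, 1, 0, 1, 0, 2, 0, 1], [1, 0, 1, 0, 1, 0, 1, 0, 2, 0]]

/-- The root relation, packed. -/
def rootP : List ℕ :=
  [0xe07171102060012051413150b0d040c090f0a0801031610, 0x30504110a0600140f0d020b1612010c090713081710150e, 0x100f01111306000d07120a161514170c09050208040e0b03]

end Cfsg.Lib.J4Cert
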