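import Cfsg.Agent.J4Cert.Check

/-!
The sources of the facts of a certificate.
-/

set_option autoImplicit false
set_option maxRecDepth 8000

namespace Cfsg.Lib.J4Cert

def bSrc0 : Tr Src :=
  .node (.node (.node (.node (.node (.node (.leaf (.own [0])) (.leaf (.rl 1 1 [21, 26] [11, 7, 9, 7, 11, 7, 11, 11, 7, 9, 10, 10, 8, 6, 10, 10, 10, 6, 10, 6, 10, 8, 62] [62] true))) (.node (.leaf (.rl 0 2 [23, 55, 82, 115, 151] [4] [2, 0, 2, 0, 2, 2, 0, 2, 0, 2, 2, 0, 2, 0, 2, 2, 0, 2, 2, 4] false)) (.leaf (.rl 2 4 [17, 31, 53, 95, 88, 170, 166] [17, 17, 21, 86, 78, 64, 88] [18, 20, 16, 19, 21, 17, 56] false)))) (.node (.node (.leaf (.rl 1 1 [24, 32, 55, 82, 115, 151] [10, 12] [12] true)) (.leaf (.rl 1 2 [6, 38, 101, 122, 152] [62] [10, 6, 8, 6, 10, 6, 10, 6, 70] false))) (.node (.leaf .dfn) (.leaf (.rl 11 4 [8, 39, 38, 103, 88, 143, 166] [110, 75, 73, 92, 110, 75,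 73, 92] [] true))))) (.node (.node (.node (.leaf (.rl 0 1 [] [3, 3, 1, 3, 1, 3, 3, 0, 2, 2, 0, 2, 0, 2, 2, 4] [4] false)) (.leaf (.rl 1 1 [22, 26] [7, 9, 7, 11, 7, 11, 7, 11, 7, 9, 11, 6, 10, 8, 6, 10, 10, 10, 6, 10, 6, 10, 6, 70] [70] true))) (.node (.leaf (.rl 2 2 [20, 39, 51, 102, 112, 157, 167] [21, 34, 22] [22] true)) (.leaf (.rl 8 1 [10, 74, 54, 90, 112, 151, 166] [102, 102] [] true)))) (.node (.node (.leaf (.rl 2 1 [19, 31, 62, 90, 117, 171, 166] [14, 22] [22] false)) (.leaf (.rl 1 4 [4, 74, 81, 120, 152, 166] [62] [10, 6, 8, 6, 10, 10, 6, 12, 18, 20, 18, 16, 19, 21, 17, 56] false))) (.leaf (.rl 9 1 [39, 65, 102, 118, 155, 166] [54] [] false))))) (.node (.node (.node (.node (.leaf .dfn) (.leaf (.rl 1 1 [21, 26] [11, 7, 11, 11, 11, 7, 11, 7, 11, 6, 10, 6, 10, 6, 10, 10, 10, 6, 10, 62] [62] false))) (.node (.leaf (.rl 1 2 [16, 74, 50, 79, 158, 166]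 [12] [6, 11, 7, 32, 10, 10, 6, 10, 8, 6, 12] true)) (.leaf (.rl 8 2 [9, 39, 63, 103, 88, 151, 166] [47, 45, 60, 52, 52, 50, 53, 53, 98] [] false)))) (.node (.node (.leaf (.rl 1 1 [24, 32, 55, 82, 115, 151] [7, 11, 7, 11, 11, 7, 10, 10, 10, 6, 10, 10, 6, 12] [12] true)) (.leaf (.rl 1 2 [7, 69, 56, 102, 132, 169, 167] [62] [10, 8, 6, 10, 10, 6, 12] false))) (.leaf (.rl 3 1 [5, 61, 89, 119, 155, 166] [27, 41, 39, 26, 26, 38, 30, 38, 48] [48] true)))) (.node (.node (.node (.leaf .dfn) (.leaf (.rl 1 1 [22, 26] [70] [] false))) (.node (.leaf (.rl 3 1 [23, 32, 55, 82, 115, 151] [27, 41, 29, 29, 39, 24, 28, 38, 40, 38, 26, 42] [42] false)) (.leaf (.rl 11 4 [16, 65, 91, 116, 144] [73, 94, 72, 72, 75, 73, 92] [72, 75, 73, 92] false)))) (.node (.node (.leaf (.rl 2 1 [19, 31, 62, 90, 117, 171, 166] [18, 22] [22] true)) (.leaf (.rl 1 4 [9, 71, 54, 103, 133, 158,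 167] [70] [8, 6, 10, 6, 10, 10, 10, 8, 6, 62, 78, 78, 78, 68, 65, 67, 79, 80] false))) (.leaf (.rl 3 2 [12, 71, 54, 90, 133, 155] [42] [26, 26, 48] false)))))) (.node (.node (.node (.node (.node (.leaf (.own [1])) (.leaf (.rl 1 1 [21, 26] [11, 7, 11, 7, 11, 11, 7, 9, 11, 7, 10, 6, 10, 10, 10, 6, 10, 6, 10, 10, 10, 8, 62] [62] true))) (.node (.leaf (.rl 1 2 [11, 31, 52, 90, 133, 156, 167] [12] [6, 10, 10, 8, 6, 10, 10, 6, 12] false)) (.leaf (.rl 8 2 [14, 71, 50, 116, 157, 166] [47, 45, 60, 96] [] false)))) (.node (.node (.leaf (.rl 1 1 [24, 32, 55, 82, 115, 151] [7, 9, 11, 11, 11, 6, 10, 10, 10, 6, 12] [12] true)) (.leaf (.rl 1 2 [22, 43, 38, 94, 118, 159, 166] [62] [6, 10, 6, 10, 6, 10, 6, 10, 6, 8, 6, 70] false))) (.leaf (.rl 3 1 [5, 61, 89, 119, 155, 166] [39, 31, 39, 27, 24, 26, 38, 30, 38, 48] [48] false)))) (.node (.node (.node (.leaf (.rl 0 1 []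 [3, 1, 3, 1, 3, 3, 1, 3, 3, 0, 2, 2, 0, 2, 2, 0, 2, 2, 4] [4] true)) (.leaf (.rl 1 1 [22, 26] [11, 7, 9, 7, 11, 7, 9, 11, 11, 11, 7, 9, 10, 6, 10, 10, 10, 8, 6, 10, 6, 8, 6, 10, 70] [70] true))) (.node (.leaf .dfn) (.leaf (.rl 11 4 [9, 45, 62, 97, 132, 171, 167] [76, 8, 6, 11, 7, 9, 11, 11, 11, 7, 32, 8, 6, 10, 10, 6, 10, 6, 10, 6, 70, 90] [] true)))) (.node (.node (.leaf (.rl 2 1 [19, 31, 62, 90, 117, 171, 166] [16, 22] [22] true)) (.leaf (.rl 1 4 [23, 69, 54, 90, 115, 151, 167] [62, 78, 68, 78, 65, 82] [10, 6, 8, 6, 10, 10, 10, 8, 6, 10, 6, 10, 6, 70] false))) (.leaf (.rl 3 2 [7, 32, 58, 80, 118, 143, 166] [42] [30, 26, 28, 24, 42] false))))) (.node (.node (.node (.node (.leaf (.rl 0 1 [] [0, 4] [4] false)) (.leaf .dfn)) (.node (.leaf (.rl 2 1 [19, 31, 62, 90, 117, 171, 166] [36, 22] [22] true)) (.leaf (.rl 8 2 [3, 73, 65, 103, 116, 169, 166] [58]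 [45, 100] false)))) (.node (.node (.leaf .dfn) (.leaf (.rl 10 1 [20, 30, 57, 97, 144] [84] [] false))) (.leaf (.rl 2 2 [16, 70, 54, 92, 131, 170, 166] [22, 30, 40, 30, 40, 48] [] false)))) (.node (.node (.node (.leaf (.rl 1 1 [24, 32, 55, 82, 115, 151] [8, 12] [12] false)) (.leaf (.rl 0 4 [] [4, 6, 10, 10, 6, 10, 10, 6, 10, 6, 10, 62] [2, 2, 0, 2, 0, 2, 0, 2, 0, 2, 0, 2, 0, 2, 2, 0, 2, 0, 2, 4, 8, 6, 10, 10, 8, 6, 10, 6, 10, 6, 62] true))) (.node (.leaf (.rl 3 1 [23, 32, 55, 82, 115, 151] [27, 41, 39, 30, 28, 38, 40, 38, 26, 42] [42] true)) (.leaf (.rl 11 4 [24, 69, 59, 102, 119, 169, 166] [75, 90] [72, 108, 72, 75, 90] false)))) (.node (.node (.leaf (.rl 2 1 [19, 31, 62, 90, 117, 171, 166] [20, 22] [22] true)) (.leaf (.rl 1 4 [7, 28, 66, 97, 114, 159, 166] [70] [10, 8, 6, 10, 6, 10, 10, 8, 6, 62, 68, 78, 78, 65, 82] false))) (.leaf .dfn)))))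

/-- The table. -/
def bSrc : Tr Src := bSrc0

/-- The defined cosets. -/
def bDefs : List (ℕ × List ℕ) :=
  [(0, []),
   (1, [24, 32, 55, 82, 115, 151]),
   (2, [19, 31, 62, 90, 117, 171, 166]),
   (3, []),
   (4, [24, 32, 55, 82, 115, 151]),
   (5, [19, 31, 62, 90, 117, 171, 166]),
   (3, [21, 26]),
   (3, [23, 32, 55, 82, 115, 151]),
   (3, [5, 61, 89, 119, 155, 166]),
   (1, [21, 26]),
   (1, [22, 26])]

/-- The number of facts. -/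
def bLen : ℕ := 57

end Cfsg.Lib.J4Cert
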