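import Cfsg.Agent.J4Cert.Check

/-!
The sources of the facts of a certificate.
-/

set_option autoImplicit false
set_option maxRecDepth 8000

namespace Cfsg.Lib.J4Cert

def hSrc0 : Tr Src :=
  .node (.node (.node (.node (.node (.node (.leaf (.own [0])) (.leaf (.rl 12 2 [10, 45, 49, 80, 134, 151, 167] [220] [88, 140, 218, 88, 236] false))) (.node (.leaf (.rl 7 1 [17, 73, 64, 101, 88, 159, 167] [124] [] false)) (.leaf (.rl 42 1 [6, 40, 51, 104, 123, 155, 166] [382] [] false)))) (.node (.node (.leaf (.rl 3 1 [26, 37] [33, 33, 33, 30, 30, 34, 32, 58] [58] false)) (.leaf (.rl 7 4 [16, 32, 59, 80, 116, 169, 166] [43, 77, 99, 302] [124, 136, 126, 84, 87, 85, 246] false))) (.leaf (.rl 2 1 [23, 32, 55, 82, 115, 151] [17, 19, 73, 23, 20, 20, 22, 18, 190] [190] false)))) (.node (.node (.node (.leaf (.rl 2 1 [19, 31, 62, 90, 117, 171, 166] [20, 26] [26] true)) (.leaf .dfn)) (.leaf (.rl 3 2 [12, 71, 54, 90, 133, 155] [31,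 35, 75, 93, 75, 58] [30, 30, 142] false))) (.node (.node (.leaf (.rl 3 1 [] [38] [75, 93, 35, 75, 93, 36] false)) (.leaf (.rl 33 4 [7, 74, 67, 79, 123, 154, 166] [277, 348, 350, 280, 338] [] false))) (.leaf (.rl 12 1 [21, 26] [131, 139, 219, 91, 141, 138, 140, 88, 138, 88, 218, 220] [220] false))))) (.node (.node (.node (.node (.leaf (.rl 1 1 [24, 32, 55, 82, 115, 151] [8, 14] [14] false)) (.leaf (.rl 16 1 [3] [151, 149, 145, 148, 148, 150, 152, 266] [266] false))) (.leaf (.rl 3 1 [5, 61, 89, 119, 155, 166] [75, 35, 75, 31, 28, 30, 74, 34, 74, 142] [142] false))) (.node (.node (.leaf (.rl 3 1 [5] [29, 31, 75, 35, 75, 34, 30, 34, 34, 30, 48] [48] true)) (.leaf (.rl 16 4 [30, 64, 97, 134, 156, 166] [274] [182, 150, 144, 278] false))) (.leaf (.rl 1 4 [22, 71, 62, 91, 113, 153] [168, 174, 174, 172, 170, 175, 173, 206] [6, 10, 10, 10, 6, 10, 6, 10, 6, 168, 174, 174, 172, 170, 175, 173, 206] true)))) (.node (.node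 (.node (.leaf .dfn) (.leaf (.rl 3 4 [19, 45, 65, 102, 118, 166] [29, 31, 75, 31, 35, 75, 35, 40] [32, 28, 92, 74, 92, 75, 31, 35, 75, 35, 40, 98, 76, 42, 98, 43, 77, 99, 302] false))) (.leaf (.rl 1 2 [7, 69, 56, 102, 132, 169, 167] [168] [10, 8, 6, 10, 10, 6, 14] false))) (.node (.node (.leaf (.rl 7 2 [6, 61, 95, 119, 171, 166] [77, 99, 46] [43, 104] false)) (.leaf (.rl 25 0 [] [366] [234, 366] false))) (.leaf (.rl 12 1 [32, 55, 82, 115, 151] [131, 139, 219, 140, 138, 218, 130, 88, 236] [236] false)))))) (.node (.node (.node (.node (.node (.leaf (.rl 0 1 [] [3, 3, 1, 3, 1, 3, 3, 0, 2, 2, 0, 2, 0, 2, 2, 4] [4] false)) (.leaf (.rl 12 2 [21, 29, 81, 120, 154] [236] [140, 218, 90, 140, 88, 236] false))) (.leaf (.rl 11 2 [11, 29, 64, 101, 115, 171] [85, 132, 128, 43, 134] [] true))) (.node (.node (.leaf (.rl 1 2 [16, 74, 50, 79, 158, 166] [14] [6, 11, 7, 68, 10, 10, 6, 10, 8, 6, 14] true)) (.leaf (.rl 25 1 [18,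 65, 95, 116, 151] [326] [] false))) (.leaf .dfn))) (.node (.node (.node (.leaf .dfn) (.leaf (.rl 20 1 [8, 42, 63, 98, 112, 152] [193, 208, 199, 294] [199, 294] true))) (.leaf .dfn)) (.node (.node (.leaf (.rl 3 2 [9, 49, 93, 121, 154, 166] [29, 31, 75, 31, 35, 75, 35, 40] [30, 30, 92, 35, 75, 93, 75, 58] false)) (.leaf (.rl 34 4 [20, 31, 66, 80, 134, 158, 166] [358] [344, 358] false))) (.leaf .dfn)))) (.node (.node (.node (.node (.leaf (.rl 1 1 [24, 32, 55, 82, 115, 151] [14] [] false)) (.leaf (.rl 16 1 [24, 39, 54, 79, 120, 168] [147, 147, 147, 153, 146, 146, 152, 148, 148, 278] [278] false))) (.leaf (.rl 3 1 [5, 61, 89, 119, 155, 166] [33, 93, 75, 29, 31, 92, 30, 74, 34, 74, 142] [142] true))) (.node (.node (.leaf (.rl 11 1 [7, 30, 56, 95, 123, 153, 167] [84, 56] [56] false)) (.leaf (.rl 16 4 [21, 31, 52, 101, 113, 155, 167] [278] [153, 162, 152, 144, 146, 144, 278] false))) (.leaf (.rl 7 4 [18, 66, 89, 116,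 170] [43, 212, 205, 214] [43, 134] false)))) (.node (.node (.node (.leaf .dfn) (.leaf (.rl 7 4 [4, 43, 58, 94, 132, 144, 167] [120] [43, 104, 64, 61, 61, 79, 298] false))) (.leaf (.rl 13 2 [12, 29, 61, 98, 118, 171, 167] [61, 160, 148, 151, 149, 182] [] false))) (.node (.node (.leaf (.rl 8 1 [7, 74, 62, 81, 130, 157, 167] [118] [] false)) (.leaf (.rl 27 1 [24, 42, 65, 103, 113, 153, 167] [370, 241, 243, 258] [241, 243, 258] true))) (.leaf (.rl 11 2 [4, 43, 49, 79, 123, 158] [56, 130, 140, 218, 236] [] false))))))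

def hSrc1 : Tr Src :=
  .node (.node (.node (.node (.node (.node (.leaf .dfn) (.leaf (.rl 12 2 [12, 42, 51, 100, 116, 153] [220] [138, 140, 140, 138, 90, 232] false))) (.node (.leaf (.rl 11 2 [11, 31, 38, 90, 117, 153] [54, 94, 76, 124] [] false)) (.leaf (.rl 11 4 [11, 71, 59, 92, 113, 168, 166] [384, 386] [85, 250, 374] false)))) (.node (.node (.leaf (.rl 0 2 [23, 55, 82, 115, 151] [4] [2, 0, 2, 0, 2, 2, 0, 2, 0, 2, 2, 0, 2, 0, 2, 2, 0, 2, 2, 4] false)) (.leaf (.rl 35 1 [17, 71, 53, 79, 115, 158] [322] [] false))) (.leaf (.rl 2 1 [23, 32, 55, 82, 115, 151] [19, 23, 18, 22, 20, 22, 22, 16, 190] [190] false)))) (.node (.node (.node (.leaf (.rl 2 1 [19, 31, 62, 90, 117, 171, 166] [26] [] false)) (.leaf (.rl 2 4 [20, 71, 51, 82, 112, 170, 167] [190, 208, 196, 195, 290] [72, 20, 20, 190] false))) (.leaf (.rl 7 2 [24, 45, 91, 118, 168, 167] [43, 124] [158] false))) (.node (.node (.leaf (.rl 7 1 [3, 26, 37] [77,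 99, 43, 98, 98, 76, 77, 99, 46] [77, 99, 46] false)) (.leaf (.rl 34 2 [29, 67, 95, 122, 171] [281, 340, 354] [] false))) (.leaf (.rl 12 1 [21, 26] [91, 89, 139, 219, 219, 140, 138, 88, 140, 140, 220] [220] false))))) (.node (.node (.node (.node (.leaf (.rl 1 1 [24, 32, 55, 82, 115, 151] [7, 9, 11, 11, 11, 6, 10, 10, 10, 6, 14] [14] true)) (.leaf (.rl 16 1 [22, 27, 37] [145, 153, 145, 152, 150, 146, 150, 274] [274] false))) (.leaf (.rl 3 1 [5, 61, 89, 119, 155, 166] [33, 93, 75, 29, 32, 30, 74, 34, 74, 142] [142] true))) (.node (.node (.leaf (.rl 10 1 [5, 39, 63, 95, 116, 169] [51, 80, 52] [52] false)) (.leaf (.rl 16 2 [11, 72, 61, 98, 117, 151, 166] [278] [150, 152, 150, 150, 146, 288] false))) (.leaf (.rl 2 4 [17, 28, 65, 81, 117, 154] [200, 210, 60, 64, 63, 61, 106] [22, 22, 18, 22, 20, 202] false)))) (.node (.node (.node (.leaf .dfn) (.leaf (.rl 7 2 [3, 32, 54, 102, 124, 170, 166] [120] [76, 98, 77, 304]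 false))) (.leaf (.rl 1 4 [4, 74, 81, 120, 152, 166] [168] [10, 6, 8, 6, 10, 10, 6, 14, 20, 22, 20, 18, 21, 23, 19, 156] false))) (.node (.node (.leaf (.rl 13 1 [21, 26] [61, 79, 61, 79, 61, 64, 62, 78, 62, 78, 60, 61, 61, 61, 114] [61, 61, 61, 114] false)) (.leaf (.rl 11 1 [7, 30, 56, 95, 123, 153, 167] [368, 56] [56] false))) (.leaf (.rl 11 2 [12, 31, 62, 95, 120, 170, 167] [56, 140, 218, 140, 218, 90, 138, 232] [] false)))))) (.node (.node (.node (.node (.node (.leaf (.rl 0 1 [] [4] [] false)) (.leaf (.rl 16 1 [3] [149, 153, 149, 144, 148, 150, 152, 266] [266] false))) (.leaf (.rl 11 2 [18, 69, 51, 96, 123] [85, 132, 56] [56] true))) (.node (.node (.leaf (.rl 3 1 [21, 26] [33, 75, 35, 75, 35, 35, 31, 74, 32, 34, 74, 34, 74, 30, 28, 29, 31, 75, 31, 35, 75, 35, 40] [29, 31, 75, 31, 35, 75, 35, 40] false)) (.leaf (.rl 16 2 [14, 29, 61, 81, 118, 158, 167] [266] [152, 152, 148, 152, 274] false))) (.leaf (.rl 2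 1 [5] [17, 19, 73, 23, 73, 22, 18, 22, 22, 18, 202] [202] true)))) (.node (.node (.node (.leaf (.rl 3 1 [22, 26] [40] [] false)) (.leaf (.rl 3 4 [19, 45, 57, 90, 122, 155, 167] [29, 31, 75, 31, 35, 75, 35, 40] [92, 34, 142, 148, 152, 150, 144, 284] false))) (.leaf (.rl 1 1 [21, 26] [11, 7, 11, 11, 11, 7, 11, 7, 11, 6, 10, 6, 10, 6, 10, 10, 10, 6, 10, 168] [168] false))) (.node (.node (.leaf (.rl 3 2 [5, 26, 65, 98, 115, 169, 167] [29, 31, 75, 31, 35, 75, 35, 40] [74, 30, 32, 74, 29, 31, 75, 31, 35, 75, 35, 40] false)) (.leaf (.rl 35 1 [5, 61, 89, 119, 155, 166] [306] [363, 310] true))) (.leaf .dfn)))) (.node (.node (.node (.node (.leaf (.rl 2 1 [19, 31, 62, 90, 117, 171, 166] [16, 26] [26] false)) (.leaf .dfn)) (.leaf (.rl 16 1 [39, 65, 102, 118, 155, 166] [154] [] false))) (.node (.node (.leaf (.rl 2 2 [20, 39, 51, 102, 112, 157, 167] [23, 70, 26] [26] true)) (.leaf (.rl 34 1 [10, 28, 52, 79, 114, 157, 166]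 [346] [] false))) (.leaf .dfn))) (.node (.node (.node (.leaf (.rl 3 1 [26, 37] [29, 30, 58] [58] true)) (.leaf (.rl 7 4 [21, 29, 58, 89, 122, 153, 166] [43, 99, 43, 102, 43, 134] [42, 98, 300] false))) (.leaf (.rl 13 2 [13, 44, 66, 95, 122, 151, 167] [66] [186, 146, 154] false))) (.node (.node (.leaf (.rl 11 2 [16, 74, 67, 79, 131, 158, 166] [54, 94, 76, 42, 77, 108] [] false)) (.leaf (.rl 3 4 [16, 29, 67, 130, 151, 166] [29, 31, 75, 31, 35, 75, 35, 40] [32, 74, 30, 92, 142, 150, 152, 146, 378] false))) (.leaf (.rl 12 2 [3, 30, 98, 157] [220] [218, 88, 138, 88, 236] false))))))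

def hSrc2 : Tr Src :=
  .node hSrc0 hSrc1

def hSrc3 : Tr Src :=
  .node (.node (.node (.node (.node (.node (.leaf (.own [1])) (.leaf (.rl 24 1 [12, 67, 90, 114, 152, 166] [256] [] false))) (.node (.leaf (.rl 11 1 [7, 30, 56, 95, 123, 153, 167] [126, 56] [56] true)) (.leaf (.rl 11 4 [72, 63, 94, 114, 171, 167] [137, 164, 152, 152, 378] [86, 85, 250, 374] false)))) (.node (.node (.leaf .dfn) (.leaf (.rl 8 2 [3, 73, 63, 82, 123, 154] [123, 312, 296, 269, 314] [] false))) (.leaf (.rl 2 1 [23, 32, 55, 82, 115, 151] [17, 19, 73, 22, 20, 22, 18, 190] [190] false)))) (.node (.node (.node (.leaf (.rl 2 1 [19, 31, 62, 90, 117, 171, 166] [22, 26] [26] true)) (.leaf (.rl 2 4 [19, 39, 50, 100, 131, 153] [190] [20, 18, 16, 21, 23, 19, 156, 152, 266] false))) (.leaf (.rl 3 2 [10, 70, 62, 103, 156] [142] [34, 32, 32, 142] false))) (.node (.node (.leaf (.rl 3 1 [21, 26] [33, 93, 75, 31, 93, 31, 28, 74, 92, 74, 34, 92, 30,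 29, 31, 75, 31, 35, 75, 35, 40] [29, 31, 75, 31, 35, 75, 35, 40] true)) (.leaf (.rl 33 4 [23, 26, 59, 79, 117, 166] [352, 334] [334] false))) (.leaf (.rl 12 1 [21, 26] [219, 139, 141, 139, 218, 140, 88, 138, 88, 218, 220] [220] false))))) (.node (.node (.node (.node (.leaf (.rl 1 1 [24, 32, 55, 82, 115, 151] [10, 14] [14] true)) (.leaf .dfn)) (.leaf (.rl 3 1 [5, 61, 89, 119, 155, 166] [31, 93, 75, 30, 30, 74, 34, 74, 142] [142] true))) (.node (.node (.leaf (.rl 3 1 [5] [31, 31, 31, 35, 35, 74, 30, 34, 34, 30, 48] [48] true)) (.leaf (.rl 33 1 [12, 70, 38, 94, 122, 143] [336] [] false))) (.leaf (.rl 2 2 [20, 68, 65, 104, 115, 169, 167] [200] [18, 22, 16, 21, 23, 19, 156, 147, 184] false)))) (.node (.node (.node (.leaf (.rl 3 1 [5] [29, 33, 35, 33, 33, 34, 30, 34, 34, 30, 48] [48] false)) (.leaf (.rl 7 1 [17, 68, 59, 96, 130, 143, 166] [304] [] false))) (.leaf (.rl 17 1 [20, 30, 57, 97, 144] [176] [] false)))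 (.node (.node (.leaf (.rl 8 1 [19, 45, 91, 113, 154, 166] [112] [] false)) (.leaf (.rl 11 1 [22, 42, 61, 93, 120, 159] [127, 368, 85, 250] [85, 250] true))) (.leaf (.rl 12 1 [32, 55, 82, 115, 151] [139, 219, 141, 139, 90, 140, 138, 218, 88, 236] [236] true)))))) (.node (.node (.node (.node (.node (.leaf (.rl 0 1 [] [3, 1, 3, 1, 3, 3, 1, 3, 3, 0, 2, 2, 0, 2, 2, 0, 2, 2, 4] [4] true)) (.leaf .dfn)) (.leaf (.rl 11 1 [7, 30, 56, 95, 123, 153, 167] [136, 56] [56] true))) (.node (.node (.leaf (.rl 2 1 [19, 31, 62, 90, 117, 171, 166] [72, 26] [26] true)) (.leaf (.rl 8 2 [24, 39, 54, 100, 134, 155] [101, 328, 262] [] false))) (.leaf .dfn))) (.node (.node (.node (.leaf (.rl 3 1 [22, 26] [31, 35, 30, 30, 32, 40] [40] false)) (.leaf (.rl 2 4 [19, 29, 56, 171, 166] [200, 210] [72, 18, 16, 72, 16, 190, 195, 290] false))) (.leaf (.rl 1 1 [21, 26] [11, 7, 9, 7, 11, 7, 11, 11, 7, 9, 10, 10, 8, 6, 10, 10, 10, 6, 10, 6, 10,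 8, 168] [168] true))) (.node (.node (.leaf (.rl 7 1 [7, 46, 60, 98, 118, 168, 167] [104] [] false)) (.leaf (.rl 34 4 [22, 30, 50, 97, 132, 155, 166] [281, 360, 282, 152, 152, 150, 144, 284] [342] true))) (.leaf (.rl 12 1 [23, 32, 55, 82, 115, 151] [141, 131, 139, 141, 218, 218, 140, 88, 138, 232] [232] false))))) (.node (.node (.node (.node (.leaf .dfn) (.leaf (.rl 16 1 [24, 39, 54, 79, 120, 168] [278] [] false))) (.leaf (.rl 2 2 [16, 70, 54, 92, 131, 170, 166] [26, 34, 92, 34, 92, 142] [] false))) (.node (.node (.leaf (.rl 11 1 [7, 30, 56, 95, 123, 153, 167] [86, 56] [56] true)) (.leaf (.rl 16 4 [4, 31, 51, 101, 118, 154] [147, 151, 149, 182, 150, 152, 150, 148, 278] [146, 152, 152, 274] false))) (.leaf (.rl 11 2 [9, 32, 67, 91, 112, 143, 166] [216, 56] [56] true)))) (.node (.node (.node (.leaf .dfn) (.leaf (.rl 7 4 [4, 73, 103, 171, 167] [77, 99, 46, 123, 312] [304] false))) (.leaf (.rl 16 1 [22, 26, 64,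 80, 119, 144, 167] [184] [] false))) (.node (.node (.leaf (.rl 7 2 [3, 73, 100, 115, 154] [77, 99, 46] [98, 76, 102, 76, 46] false)) (.leaf .dfn)) (.leaf (.rl 27 1 [9, 31, 63, 101, 132, 143] [248] [] false))))))

def hSrc4 : Tr Src :=
  .node (.node (.node (.node (.node (.node (.leaf (.rl 0 1 [] [0, 4] [4] false)) (.leaf (.rl 24 1 [21, 46, 38, 93, 115, 152] [260] [] false))) (.leaf (.rl 11 2 [23, 31, 37, 82, 132, 151, 167] [54, 94, 110] [] false))) (.node (.node (.leaf (.rl 1 2 [11, 31, 52, 90, 133, 156, 167] [14] [6, 10, 10, 8, 6, 10, 10, 6, 14] false)) (.leaf (.rl 8 2 [5, 74, 55, 79, 115, 156] [117, 324, 320] [] false))) (.leaf (.rl 2 1 [23, 32, 55, 82, 115, 151] [17, 21, 23, 73, 21, 72, 22, 20, 22, 22, 16, 190] [190] true)))) (.node (.node (.node (.leaf .dfn) (.leaf (.rl 31 1 [20, 40, 65, 80, 112, 169, 167] [292] [] false))) (.leaf (.rl 11 1 [39, 57, 93, 115, 168, 167] [164] [] false))) (.node (.node (.leaf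 (.rl 3 2 [6, 38, 101, 122, 152] [29, 31, 75, 31, 35, 75, 35, 40] [28, 32, 34, 92, 74, 30, 29, 31, 75, 31, 35, 75, 35, 40] false)) (.leaf (.rl 34 2 [23, 41, 38, 97, 113, 170, 166] [281, 340, 356] [] false))) (.leaf (.rl 12 1 [21, 26] [220] [] false))))) (.node (.node (.node (.node (.leaf (.rl 1 1 [24, 32, 55, 82, 115, 151] [7, 11, 7, 11, 11, 7, 10, 10, 10, 6, 10, 10, 6, 14] [14] true)) (.leaf .dfn)) (.leaf (.rl 3 1 [5, 61, 89, 119, 155, 166] [31, 93, 75, 31, 93, 74, 30, 74, 34, 74, 142] [142] true))) (.node (.node (.leaf (.rl 10 1 [5, 39, 63, 95, 116, 169] [82, 52] [52] true)) (.leaf (.rl 16 2 [16, 26, 54, 98, 124, 157, 166] [278] [150, 144, 146, 146, 144, 284] false))) (.leaf (.rl 2 4 [15, 26, 64, 103, 117, 170, 166] [202] [18, 16, 21, 23, 19, 156, 144, 151, 166] false)))) (.node (.node (.node (.leaf (.rl 10 1 [5, 39, 63, 95, 116, 169] [52] [] false)) (.leaf (.rl 8 1 [3, 40, 38, 102, 123, 157] [308] [] false)))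 (.leaf (.rl 2 4 [17, 31, 53, 95, 88, 170, 166] [19, 19, 23, 178, 174, 170, 180] [20, 22, 18, 21, 23, 19, 156] false))) (.node (.node (.leaf (.rl 7 2 [19, 60, 96, 113, 154] [77, 99, 46] [43, 99, 43, 102] false)) (.leaf (.rl 27 1 [23, 42, 65, 102, 116, 144, 166] [243, 264] [371, 239, 254] false))) (.leaf (.rl 25 1 [22, 46, 54, 92, 124, 167] [244] [] false)))))) (.node (.node (.node (.node (.node (.leaf .dfn) (.leaf (.rl 16 1 [3] [145, 153, 145, 146, 148, 150, 152, 266] [266] false))) (.leaf .dfn)) (.node (.node (.leaf (.rl 3 1 [26, 37] [75, 35, 33, 35, 28, 34, 34, 32, 32, 58] [58] false)) (.leaf (.rl 16 4 [24, 41, 38, 97, 119, 158] [266, 296, 272, 269, 271, 332] [152, 146, 150, 148, 150, 288] false))) (.leaf (.rl 1 4 [21, 43, 59, 91, 114, 168, 167] [168] [8, 6, 14, 16, 20, 22, 18, 190] false)))) (.node (.node (.node (.leaf .dfn) (.leaf (.rl 3 4 [23, 69, 54, 90, 115, 151, 167] [29, 31, 75, 31, 35, 75, 35, 40]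 [74, 34, 28, 32, 74, 30, 29, 31, 75, 31, 35, 75, 35, 40, 98, 76, 98, 43, 77, 300] false))) (.leaf (.rl 0 4 [] [4, 6, 10, 10, 6, 10, 10, 6, 10, 6, 10, 168] [2, 2, 0, 2, 0, 2, 0, 2, 0, 2, 0, 2, 0, 2, 2, 0, 2, 0, 2, 4, 8, 6, 10, 10, 8, 6, 10, 6, 10, 6, 168] true))) (.node (.node (.leaf (.rl 3 2 [11, 45, 64, 104, 124, 171, 166] [29, 31, 75, 31, 35, 75, 35, 40] [92, 34, 34, 74, 29, 31, 75, 31, 35, 75, 35, 40] false)) (.leaf (.rl 35 1 [5, 31, 63, 90, 132, 169] [287, 318] [287, 363, 287, 320] true))) (.leaf (.rl 12 1 [32, 55, 82, 115, 151] [131, 139, 219, 88, 138, 218, 130, 88, 236] [236] false))))) (.node (.node (.node (.node (.leaf (.rl 2 1 [19, 31, 62, 90, 117, 171, 166] [18, 26] [26] true)) (.leaf (.rl 16 1 [12, 29, 49] [145, 151, 147, 145, 146, 148, 152, 144, 148, 144, 284] [284] false))) (.leaf (.rl 3 2 [16, 31, 51, 94, 121, 154, 167] [29, 31, 75, 31, 35, 75, 35, 40] [32, 74, 34, 74, 142] false))) (.node (.node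 (.leaf (.rl 3 1 [21, 26] [29, 31, 75, 31, 35, 75, 35, 40] [29, 35, 33, 75, 93, 35, 93, 48] true)) (.leaf (.rl 16 4 [7, 30, 64, 82, 115, 169] [147, 153, 162, 152, 144, 148, 278] [146, 278] false))) (.leaf (.rl 12 1 [21, 26] [89, 91, 219, 139, 141, 131, 88, 140, 88, 138, 88, 218, 220] [220] false)))) (.node (.node (.node (.leaf (.rl 3 1 [26, 37] [29, 33, 35, 31, 28, 32, 34, 28, 58] [58] false)) (.leaf (.rl 11 1 [22, 46, 54, 93, 122, 170, 167] [316] [] false))) (.leaf .dfn)) (.node (.node (.leaf (.rl 7 1 [12, 27, 51, 94, 130, 152] [77, 98, 43, 124] [43, 124] true)) (.leaf (.rl 7 2 [9, 71, 64, 81, 118, 159, 167] [43, 77, 380] [43, 134] false))) (.leaf (.rl 24 1 [15, 70, 61, 92, 131, 169, 166] [252] [] false))))))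

def hSrc5 : Tr Src :=
  .node hSrc3 hSrc4

def hSrc6 : Tr Src :=
  .node hSrc2 hSrc5

/-- The table. -/
def hSrc : Tr Src := hSrc6

/-- The defined cosets. -/
def hDefs : List (ℕ × List ℕ) :=
  [(0, []),
   (1, [24, 32, 55, 82, 115, 151]),
   (2, [19, 31, 62, 90, 117, 171, 166]),
   (3, []),
   (4, [24, 32, 55, 82, 115, 151]),
   (5, [19, 31, 62, 90, 117, 171, 166]),
   (3, [22, 26]),
   (7, [24, 26, 38]),
   (8, [15, 68, 61, 120, 155, 166]),
   (3, [5]),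
   (10, [5, 39, 63, 95, 116, 169]),
   (11, [7, 30, 56, 95, 123, 153, 167]),
   (3, [26, 37]),
   (13, [8, 70, 51, 81, 115, 154, 166]),
   (14, [19, 31, 62, 90, 117, 171, 166]),
   (3, [5, 61, 89, 119, 155, 166]),
   (1, [21, 26]),
   (1, [22, 26]),
   (2, [21, 26]),
   (2, [23, 32, 55, 82, 115, 151]),
   (2, [22, 27, 37]),
   (2, [26, 37]),
   (2, [5]),
   (12, [21, 26]),
   (12, [23, 32, 55, 82, 115, 151]),
   (12, [23, 26]),
   (12, [32, 55, 82, 115, 151]),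
   (12, [5, 38, 101, 122, 152]),
   (12, [22, 42, 65, 102, 116, 144, 166]),
   (16, [21, 26]),
   (16, [3]),
   (16, [22, 26]),
   (16, [22, 27, 37]),
   (16, [24, 39, 54, 79, 120, 168]),
   (16, [12, 29, 49]),
   (16, [23, 26]),
   (16, [23, 27, 37]),
   (16, [21, 42, 54, 79, 120, 168]),
   (16, [15, 31, 50, 91, 113, 154, 167]),
   (16, [24, 26]),
   (16, [22, 42, 54, 79, 120, 168]),
   (16, [21, 26, 61, 89, 119, 155, 166]),
   (16, [4, 32, 53, 100, 115, 153, 167]),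
   (16, [13, 30, 37, 80, 132, 166]),
   (16, [31, 63, 96, 131, 143]),
   (24, []),
   (24, [5, 61, 89, 119, 155, 166]),
   (24, [22, 26]),
   (24, [12, 29, 49]),
   (24, [32, 55, 82, 115, 151]),
   (24, [31, 55, 82, 115, 151]),
   (24, [20, 26, 38, 101, 122, 152]),
   (24, [24, 27, 37]),
   (24, [22, 42, 65, 102, 116, 144, 166]),
   (24, [9, 71, 50, 99, 118, 170]),
   (24, [15, 31, 61, 95, 123, 166]),
   (24, [6, 32, 55, 82, 115, 151]),
   (41, [21, 26]),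
   (41, [22, 27, 37]),
   (41, [24, 39, 54, 79, 120, 168]),
   (41, [6, 61, 89, 119, 155, 166]),
   (41, [4, 38, 101, 122, 152]),
   (41, [32, 55, 82, 115, 151]),
   (41, [21, 42, 54, 79, 120, 168]),
   (41, [20, 26, 61, 89, 119, 155, 166]),
   (41, [24, 26, 38]),
   (41, [6, 30, 64, 79]),
   (41, [7, 73, 38, 97, 114, 168, 167]),
   (11, []),
   (11, [21, 26]),
   (11, [3]),
   (11, [5, 61, 89, 119, 155, 166]),
   (11, [22, 26]),
   (11, [22, 27, 37]),
   (11, [4]),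
   (11, [4, 38, 101, 122, 152]),
   (11, [7, 61, 89, 119, 155, 166]),
   (11, [13, 29, 49]),
   (11, [3, 26, 37]),
   (11, [21, 26, 61, 89, 119, 155, 166]),
   (11, [4, 32, 55, 82, 115, 151])]

/-- The number of facts. -/
def hLen : ℕ := 195

end Cfsg.Lib.J4Cert
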